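import Cfsg.Agent.OddOrderLocal.FrobRep
import Cfsg.Agent.H575.Dim
import Cfsg.Agent.SignalizersComponents.CoprimeBasic
import Cfsg.Agent.OddOrderLocal.FrobAct
set_option linter.all false

-- part: H575/ClaimK
section
/-!
# Frobenius subgroups and fixed points

`K` a finite solvable group acting on a finite-dimensional space `V` over an algebraically closed
field of characteristic not dividing `|K|`, `R` a group of prime order not dividing `|K|` acting
compatibly on `K` and `V`; `F → K` is an `R`-invariant subgroup on which `R` acts without fixed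
points, and `C_V(F) = 0`.  Then `V` is the direct sum of the `R`-translates of a `K`-submodule
(`exists_equiv'`); hence an element of `C_K(R)` acting trivially on `C_V(R)` acts trivially on `V`
(`claimK`).
-/

set_option autoImplicit false

namespace Cfsg.Agent.H575.ClaimK

open Module Cfsg.Agent.OddOrderLocal.FrobRep

section Free

variable {E : Type*} [Field E] {K : Type*} [Group K] {R : Type*} [Group R]
  {V : Type*} [AddCommGroup V] [Module E V] [Module (MonoidAlgebra E K) V]
  [IsScalarTower E (MonoidAlgebra E K) V]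
  {σ : R →* MulAut K} {τ : R →* Module.End E V}

theorem exists_free' [Finite K] (hK : (Nat.card K : E) ≠ 0)
    [FiniteDimensional E V] (h : Compat σ τ)
    (hne : ∀ r : R, r ≠ 1 → ∀ (S : Submodule (MonoidAlgebra E K) V),
      IsSimpleModule (MonoidAlgebra E K) S → (tw h r S ≃ₗ[MonoidAlgebra E K] S) → False) :
    ∃ U : Submodule (MonoidAlgebra E K) V,
      iSupIndep (fun r : R => tw h r U) ∧ ⨆ r : R, tw h r U = ⊤ := by
  classical
  have : NeZero (Nat.card K : E) := ⟨hK⟩
  let act : MulAction R (isotypicComponents (MonoidAlgebra E K) V) :=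
    { smul := fun r c => ⟨tw h r c, tw_mem_isotypicComponents h r c.2⟩
      one_smul := fun c => Subtype.ext (tw_one h c.1)
      mul_smul := fun r s c => Subtype.ext (tw_mul h r s c.1) }
  have hact : ∀ (r : R) (c : isotypicComponents (MonoidAlgebra E K) V),
    ((r • c : isotypicComponents (MonoidAlgebra E K) V) :
      Submodule (MonoidAlgebra E K) V) = tw h r c := fun r c => rfl
  have hfree : ∀ (r : R) (c : isotypicComponents (MonoidAlgebra E K) V), r • c = c → r = 1 := by
    intro r c hrc
    by_contra hr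
    obtain ⟨S, hS, hSc⟩ :=
      (IsSemisimpleModule.eq_bot_or_exists_simple_le c.1).resolve_left
        (bot_lt_isotypicComponents c.2).ne'
    have h1 : tw h r S ≤ c.1 := by
      have h2 := tw_mono h r hS
      rw [← hact, hrc] at h2
      exact h2
    have hiso := IsIsotypic.isotypicComponents c.2
    rw [isIsotypic_submodule_iff] at hiso
    have h2 := isIsotypicOfType_submodule_iff.mp (hiso S hS)
    have := isSimpleModule_tw h r S
    obtain ⟨e⟩ := h2 (tw h r S) h1
    exact hne r hr S hSc e
  let Ω := MulAction.orbitRel.Quotient R (isotypicComponents (MonoidAlgebra E K) V)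
  let F : R × Ω → isotypicComponents (MonoidAlgebra E K) V := fun p => p.1 • (Quotient.out p.2)
  have hFinj : Function.Injective F := by
    rintro ⟨r, ω⟩ ⟨r', ω'⟩ hF
    change r • (Quotient.out ω) = r' • (Quotient.out ω') at hF
    have h1 : ω = ω' := by
      rw [← Quotient.out_eq ω, ← Quotient.out_eq ω']
      apply Quotient.sound
      change Quotient.out ω ∈ MulAction.orbit R (Quotient.out ω')
      refine ⟨r⁻¹ * r', ?_⟩
      change (r⁻¹ * r') • (Quotient.out ω') = Quotient.out ω
      rw [mul_smul, ← hF, inv_smul_smul]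
    subst h1
    have h2 : (r'⁻¹ * r) • (Quotient.out ω) = Quotient.out ω := by
      rw [mul_smul, hF, inv_smul_smul]
    have h3 := hfree _ _ h2
    rw [inv_mul_eq_one] at h3
    rw [h3]
  have hFsurj : ∀ c, ∃ p, F p = c := by
    intro c
    have h1 : (MulAction.orbitRel R _) (Quotient.out (Quotient.mk _ c : Ω)) c :=
      Quotient.mk_out (s := MulAction.orbitRel R _) c
    have h2 : c ∈ MulAction.orbit R (Quotient.out (Quotient.mk _ c : Ω)) :=
      (MulAction.orbitRel R _).symm h1
    obtain ⟨r, hr⟩ := h2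
    exact ⟨(r, Quotient.mk _ c), hr⟩
  have hind : iSupIndep (fun p : R × Ω => (F p : Submodule (MonoidAlgebra E K) V)) :=
    ((sSupIndep_iff _).mp (sSupIndep_isotypicComponents (MonoidAlgebra E K) V)).comp hFinj
  let U : Submodule (MonoidAlgebra E K) V :=
    ⨆ ω : Ω, (Quotient.out ω : isotypicComponents (MonoidAlgebra E K) V).1
  have hU : ∀ r, tw h r U = ⨆ ω : Ω, (F (r, ω) : Submodule (MonoidAlgebra E K) V) := by
    intro r
    rw [← twIso_apply, OrderIso.map_iSup]
    rfl
  refine ⟨U, ?_, ?_⟩
  · intro r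
    have hdis : Disjoint {p : R × Ω | p.1 = r} {p : R × Ω | p.1 ≠ r} := by
      rw [Set.disjoint_left]
      intro p hp hp'
      exact hp' hp
    have h1 := hind.disjoint_biSup_biSup hdis
    refine h1.mono ?_ ?_
    · change tw h r U ≤ _
      rw [hU]
      refine iSup_le fun ω => ?_
      exact le_iSup₂_of_le (r, ω) rfl le_rfl
    · refine iSup₂_le fun s hs => ?_
      change tw h s U ≤ _
      rw [hU]
      refine iSup_le fun ω => ?_
      exact le_iSup₂_of_le (s, ω) hs le_rfl
  · rw [eq_top_iff, ← sSup_isotypicComponents (MonoidAlgebra E K) V]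
    refine sSup_le fun c hc => ?_
    obtain ⟨⟨r, ω⟩, hp⟩ := hFsurj ⟨c, hc⟩
    have : c = (F (r, ω) : Submodule (MonoidAlgebra E K) V) := by rw [hp]
    rw [this]
    refine le_iSup_of_le r ?_
    rw [hU]
    exact le_iSup (fun ω : Ω => (F (r, ω) : Submodule (MonoidAlgebra E K) V)) ω

theorem exists_equiv' [Finite K] [Fintype R] (hK : (Nat.card K : E) ≠ 0)
    [FiniteDimensional E V] (h : Compat σ τ)
    (hne : ∀ r : R, r ≠ 1 → ∀ (S : Submodule (MonoidAlgebra E K) V),
      IsSimpleModule (MonoidAlgebra E K) S → (tw h r S ≃ₗ[MonoidAlgebra E K] S) → False) :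
    ∃ (U : Submodule (MonoidAlgebra E K) V) (Φ : (R → U) ≃ₗ[E] V),
      ∀ u, Φ u = ∑ r, τ r (u r) := by
  classical
  obtain ⟨U, hind, htop⟩ := exists_free' hK h hne
  let Φ : (R → U) →ₗ[E] V :=
    { toFun := fun u => ∑ r, τ r (u r)
      map_add' := by
        intro u v
        simp only [Pi.add_apply, Submodule.coe_add, map_add, Finset.sum_add_distrib]
      map_smul' := by
        intro c u
        simp only [Pi.smul_apply, RingHom.id_apply, Finset.smul_sum]
        refine Finset.sum_congr rfl fun r _ => ?_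
        exact map_smul _ _ _ }
  have hΦ : ∀ u, Φ u = ∑ r, τ r (u r) := fun u => rfl
  have hinj : Function.Injective Φ := by
    rw [← LinearMap.ker_eq_bot, LinearMap.ker_eq_bot']
    intro u hu
    rw [hΦ] at hu
    rw [iSupIndep_iff_finsetSum_eq_zero_imp_eq_zero] at hind
    have h1 := hind Finset.univ (fun r => τ r (u r)) (fun r _ => tau_mem_tw h r (u r).2) hu
    funext r
    apply Subtype.ext
    have h2 := h1 r (Finset.mem_univ r)
    have h3 : τ r (u r) = 0 := h2
    rw [← tau_inv_tau (τ := τ) r (u r : V), h3, map_zero]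
    rfl
  have hsurj : Function.Surjective Φ := by
    intro v
    have hv : v ∈ ⨆ r : R, tw h r U := by rw [htop]; exact Submodule.mem_top
    change v ∈ LinearMap.range Φ
    refine Submodule.iSup_induction (fun r : R => tw h r U)
      (motive := fun v => v ∈ LinearMap.range Φ)
      hv ?_ (Submodule.zero_mem _) (fun x y hx hy => Submodule.add_mem _ hx hy)
    intro r x hx
    refine ⟨Pi.single r ⟨τ r⁻¹ x, hx⟩, ?_⟩
    rw [hΦ, Finset.sum_eq_single r]
    · rw [Pi.single_eq_same, tau_tau_inv]
    · intro s _ hs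
      rw [Pi.single_eq_of_ne hs]
      exact map_zero _
    · intro hr
      exact absurd (Finset.mem_univ r) hr
  exact ⟨U, LinearEquiv.ofBijective Φ ⟨hinj, hsurj⟩, hΦ⟩

/-- an element of `K` fixed by `R` and trivial on `C_V(R)` is trivial on `V` -/
theorem trivial_of_free [Finite K] [Finite R] (hK : (Nat.card K : E) ≠ 0)
    [FiniteDimensional E V] (h : Compat σ τ)
    (hne : ∀ r : R, r ≠ 1 → ∀ (S : Submodule (MonoidAlgebra E K) V),
      IsSimpleModule (MonoidAlgebra E K) S → (tw h r S ≃ₗ[MonoidAlgebra E K] S) → False)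
    (x : K) (hx : ∀ r, σ r x = x)
    (hxC : ∀ v, (∀ r, τ r v = v) → MonoidAlgebra.of E K x • v = v) (v : V) :
    MonoidAlgebra.of E K x • v = v := by
  classical
  have : Fintype R := Fintype.ofFinite R
  obtain ⟨U, Φ, hΦ⟩ := exists_equiv' hK h hne
  have hτx : ∀ r w, MonoidAlgebra.of E K x • τ r w = τ r (MonoidAlgebra.of E K x • w) := by
    intro r w
    rw [h, hx]
  -- `x` is trivial on `U`
  have hxU : ∀ u : U, MonoidAlgebra.of E K x • u = u := by
    intro u
    have hfix : ∀ s, τ s (Φ fun _ => u) = Φ fun _ => u := by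
      intro s
      rw [hΦ, map_sum]
      refine Fintype.sum_bijective (fun y => s * y) (Group.mulLeft_bijective s) _ _ fun y => ?_
      rw [map_mul, Module.End.mul_apply]
    have h1 := hxC _ hfix
    have h2 : MonoidAlgebra.of E K x • (Φ fun _ => u) =
        Φ fun _ => MonoidAlgebra.of E K x • u := by
      rw [hΦ, hΦ, Finset.smul_sum]
      refine Finset.sum_congr rfl fun r _ => ?_
      rw [hτx]
      rfl
    rw [h2] at h1
    exact congrFun (Φ.injective h1) 1
  obtain ⟨u, rfl⟩ := Φ.surjective v
  rw [hΦ, Finset.smul_sum]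
  refine Finset.sum_congr rfl fun r _ => ?_
  rw [hτx]
  congr 1
  exact congrArg Subtype.val (hxU (u r))

end Free

section Rep

variable {E : Type*} [Field E] [IsAlgClosed E] {K : Type*} [Group K] {R : Type*} [Group R]
  {F : Type*} [Group F]
  {V : Type*} [AddCommGroup V] [Module E V] [Module (MonoidAlgebra E K) V]
  [IsScalarTower E (MonoidAlgebra E K) V] [FiniteDimensional E V]
  {σ : R →* MulAut K} {τ : R →* Module.End E V} {σF : R →* MulAut F}

/-- the representation on a submodule -/
noncomputable def repOf (S : Submodule (MonoidAlgebra E K) V) : Representation E K S where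
  toFun k := Algebra.lsmul E E S (MonoidAlgebra.of E K k)
  map_one' := by rw [map_one, map_one]
  map_mul' := by
    intro a b
    rw [map_mul, map_mul]

omit [IsAlgClosed E] [FiniteDimensional E V] in
theorem repOf_apply (S : Submodule (MonoidAlgebra E K) V) (k : K) (s : S) :
    repOf S k s = MonoidAlgebra.of E K k • s := rfl

omit [IsAlgClosed E] [FiniteDimensional E V] in
theorem irr_repOf (S : Submodule (MonoidAlgebra E K) V) (hS : IsSimpleModule (MonoidAlgebra E K) S) :
    Dim.Irr (repOf S) := by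
  refine ⟨IsSimpleModule.nontrivial (MonoidAlgebra E K) S, fun W hW => ?_⟩
  let W' : Submodule (MonoidAlgebra E K) S :=
    { carrier := W
      add_mem' := fun ha hb => W.add_mem ha hb
      zero_mem' := W.zero_mem
      smul_mem' := by
        intro a w hw
        induction a using MonoidAlgebra.induction_linear with
        | zero => simp
        | add f g hf hg =>
          rw [add_smul]
          exact W.add_mem hf hg
        | single k c =>
          have h1 : MonoidAlgebra.single k c = c • MonoidAlgebra.of E K k := by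
            simp [MonoidAlgebra.of_apply, MonoidAlgebra.smul_single]
          rw [h1, smul_assoc]
          exact W.smul_mem c (hW k w hw) }
  have hmem : ∀ w, w ∈ W' ↔ w ∈ W := fun w => Iff.rfl
  rcases eq_bot_or_eq_top W' with h | h
  · left
    rw [eq_bot_iff]
    intro w hw
    rw [← hmem, h] at hw
    exact hw
  · right
    rw [eq_top_iff]
    intro w _
    rw [← hmem, h]
    exact Submodule.mem_top

/-- no simple `K`-submodule is isomorphic to a proper translate -/
theorem not_equiv_tw' [Finite K] [Finite R] [Finite F] (hR : (Nat.card R).Prime)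
    (hsol : Group.IsSolvable K) (hK : (Nat.card K : E) ≠ 0) (hRK : ¬ Nat.card R ∣ Nat.card K)
    (h : Compat σ τ) (i : F →* K) (hinj : Function.Injective i)
    (hi : ∀ r f, i (σF r f) = σ r (i f))
    (hfpf : ∀ r : R, r ≠ 1 → ∀ f, σF r f = f → f = 1)
    (hfix : ∀ v : V, (∀ f : F, MonoidAlgebra.of E K (i f) • v = v) → v = 0)
    (r : R) (hr : r ≠ 1) (S : Submodule (MonoidAlgebra E K) V)
    (hS : IsSimpleModule (MonoidAlgebra E K) S)
    (e : tw h r S ≃ₗ[MonoidAlgebra E K] S) : False := by
  classical
  have hfinS : FiniteDimensional E S :=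
    FiniteDimensional.of_injective (S.subtype.restrictScalars E) Subtype.val_injective
  have hntS := IsSimpleModule.nontrivial (MonoidAlgebra E K) S
  let T : Module.End E S :=
    { toFun := fun w => e ⟨τ r w, tau_mem_tw h r w.2⟩
      map_add' := by
        intro x y
        rw [← map_add]
        congr 1
        apply Subtype.ext
        exact map_add _ _ _
      map_smul' := by
        intro c x
        have h1 : (⟨τ r ((c • x : S) : V), tau_mem_tw h r (c • x : S).2⟩ : tw h r S) =
            c • ⟨τ r x, tau_mem_tw h r x.2⟩ := by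
          apply Subtype.ext
          exact map_smul _ _ _
        rw [h1]
        exact (e.toLinearMap.restrictScalars E).map_smul c _ }
  have hT : ∀ k w, T (repOf S k w) = repOf S (σ r k) (T w) := by
    intro k w
    change e ⟨τ r ((MonoidAlgebra.of E K k • w : S) : V), _⟩ =
        MonoidAlgebra.of E K (σ r k) • e ⟨τ r w, _⟩
    rw [← map_smul]
    congr 1
    apply Subtype.ext
    exact h r k w
  have hTinj : Function.Injective T := by
    intro x y hxy
    have h1 : e ⟨τ r x, tau_mem_tw h r x.2⟩ = e ⟨τ r y, tau_mem_tw h r y.2⟩ := hxy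
    have h2 := congrArg Subtype.val (e.injective h1)
    have h3 : τ r (x : V) = τ r (y : V) := h2
    apply Subtype.ext
    rw [← tau_inv_tau (τ := τ) r (x : V), h3, tau_inv_tau]
  set p := Nat.card R with hp
  have hpf : Fact p.Prime := ⟨hR⟩
  -- the `p`-th power of `T` is a scalar
  have hTpow : ∀ (n : ℕ) k w, (T ^ n) (repOf S k w) = repOf S (σ (r ^ n) k) ((T ^ n) w) := by
    intro n
    induction n with
    | zero => intro k w; simp
    | succ n ih =>
      intro k w
      rw [pow_succ', Module.End.mul_apply, ih, hT, pow_succ', map_mul]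
      rfl
  have hirr := irr_repOf S hS
  obtain ⟨c, hc⟩ := hirr.scalar (T ^ p) (by
    intro k w
    rw [hTpow, hp, pow_card_eq_one', map_one]
    rfl)
  have hc0 : c ≠ 0 := by
    rintro rfl
    obtain ⟨w, hw⟩ := exists_ne (0 : S)
    have h1 := hc w
    rw [zero_smul] at h1
    have h2 : Function.Injective (T ^ p) := by
      rw [Module.End.coe_pow]
      exact hTinj.iterate p
    apply hw
    apply h2
    rw [h1, map_zero]
  obtain ⟨d, hd⟩ := IsAlgClosed.exists_pow_nat_eq c hR.pos
  have hd0 : d ≠ 0 := by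
    rintro rfl
    rw [zero_pow hR.ne_zero] at hd
    exact hc0 hd.symm
  -- normalise
  let T' : Module.End E S := d⁻¹ • T
  have hT'p : T' ^ p = 1 := by
    apply LinearMap.ext
    intro w
    rw [smul_pow, LinearMap.smul_apply, hc, smul_smul, inv_pow, hd, inv_mul_cancel₀ hc0, one_smul]
    rfl
  have hT' : ∀ k w, T' (repOf S k w) = repOf S (σ r k) (T' w) := by
    intro k w
    rw [LinearMap.smul_apply, LinearMap.smul_apply, hT, map_smul]
  let Tu : (Module.End E S)ˣ :=
    { val := T'
      inv := T' ^ (p - 1)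
      val_inv := by
        rw [← pow_succ', Nat.sub_add_cancel hR.pos, hT'p]
      inv_val := by
        rw [← pow_succ, Nat.sub_add_cancel hR.pos, hT'p] }
  have hgen : ∀ x : R, x ∈ Subgroup.zpowers r := fun x => mem_zpowers_of_prime_card rfl hr
  have hordr : orderOf r = p := orderOf_eq_card_of_forall_mem_zpowers hgen
  let τu : R →* (Module.End E S)ˣ := monoidHomOfForallMemZpowers hgen (g' := Tu) (by
    rw [hordr]
    apply orderOf_dvd_of_pow_eq_one
    apply Units.ext
    rw [Units.val_pow_eq_pow_val]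
    exact hT'p)
  have hτur : τu r = Tu := monoidHomOfForallMemZpowers_apply_gen _ _
  let τS : Representation E R S := (Units.coeHom _).comp τu
  have hτSr : τS r = T' := by
    change ((τu r : (Module.End E S)ˣ) : Module.End E S) = T'
    rw [hτur]
  have hτScompat : ∀ s k w, τS s (repOf S k w) = repOf S (σ s k) (τS s w) := by
    intro s
    have hs := hgen s
    rw [← mem_powers_iff_mem_zpowers] at hs
    obtain ⟨n, rfl⟩ := hs
    change ∀ k w, τS (r ^ n) (repOf S k w) = repOf S (σ (r ^ n) k) (τS (r ^ n) w)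
    induction n with
    | zero => intro k w; simp
    | succ n ih =>
      intro k w
      rw [pow_succ', map_mul, Module.End.mul_apply, ih, hτSr, hT', map_mul]
      rfl
  have hFK : Nat.card F ∣ Nat.card K := Subgroup.card_dvd_of_injective i hinj
  have hFE : (Nat.card F : E) ≠ 0 := by
    intro h0
    obtain ⟨m, hm⟩ := hFK
    apply hK
    rw [hm, Nat.cast_mul, h0, zero_mul]
  have hmain := (finrank_eq (F := E) (K := F) (R := R) (V := S) hFE ((repOf S).comp i) τS σF
    (by
      intro s f w
      change τS s (repOf S (i f) w) = repOf S (i (σF s f)) (τS s w)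
      rw [hτScompat, hi])
    (by
      intro w hw
      apply Subtype.ext
      apply hfix
      intro f
      exact congrArg Subtype.val (hw f)) hfpf).1
  apply hRK
  exact Dim.prime_dvd_of_irr hR (repOf S) hsol hK hirr ⟨_, hmain⟩

end Rep

/-- **Frobenius subgroups and fixed points.** -/
theorem claimK {E : Type*} [Field E] [IsAlgClosed E] {K R F V : Type*} [Group K] [Finite K]
    [Group R] [Finite R] [Group F] [AddCommGroup V] [Module E V]
    [FiniteDimensional E V] (ρ : Representation E K V) (τ : Representation E R V)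
    (σ : R →* MulAut K) (σF : R →* MulAut F) (i : F →* K) (hinj : Function.Injective i)
    (hi : ∀ r f, i (σF r f) = σ r (i f))
    (hcompat : ∀ r k v, τ r (ρ k v) = ρ (σ r k) (τ r v))
    (hR : (Nat.card R).Prime) (hsol : Group.IsSolvable K) (hK : (Nat.card K : E) ≠ 0)
    (hRK : ¬ Nat.card R ∣ Nat.card K)
    (hfpf : ∀ r : R, r ≠ 1 → ∀ f, σF r f = f → f = 1)
    (hfix : ∀ v : V, (∀ f : F, ρ (i f) v = v) → v = 0)
    (x : K) (hx : ∀ r, σ r x = x) (hxC : ∀ v, (∀ r, τ r v = v) → ρ x v = v) (v : V) :
    ρ x v = v := by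
  classical
  have hFfin : Finite F := Finite.of_injective i hinj
  let instM : Module (MonoidAlgebra E K) V := Module.compHom V ρ.asAlgebraHom.toRingHom
  have hsm : ∀ (a : MonoidAlgebra E K) (w : V), a • w = ρ.asAlgebraHom a w := fun a w => rfl
  have hof : ∀ (k : K) (w : V), MonoidAlgebra.of E K k • w = ρ k w := by
    intro k w
    rw [hsm, MonoidAlgebra.of_apply, Representation.asAlgebraHom_single, one_smul]
  have instT : IsScalarTower E (MonoidAlgebra E K) V := by
    constructor
    intro c a w
    rw [hsm, hsm, map_smul]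
    rfl
  have hc : Compat (V := V) σ τ := by
    intro r k w
    rw [hof, hof]
    exact hcompat r k w
  have h1 := trivial_of_free (V := V) hK hc (fun r hr S hS e =>
    not_equiv_tw' (V := V) hR hsol hK hRK hc i hinj hi hfpf (by
      intro v hv
      apply hfix
      intro f
      rw [← hof]
      exact hv f) r hr S hS e) x hx (by
      intro v hv
      rw [hof]
      exact hxC v hv) v
  rwa [hof] at h1

end Cfsg.Agent.H575.ClaimK
end

-- part: H575/Weights
section
/-!
# Weight spaces of a subgroup acting commutatively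

`π` a representation of `G` on `V` over an algebraically closed field, `A` a subgroup of order
invertible in the field acting commutatively on the invariant subspace `W`; `wt π A W l` is the weight
space of the function `l` on `A`.
-/

set_option autoImplicit false
set_option linter.unusedSectionVars false

namespace Cfsg.Agent.H575.Weights

open Module Cfsg.Agent.H575.Dim

variable {E : Type*} [Field E] {G V : Type*} [Group G] [AddCommGroup V] [Module E V]

/-- `H` preserves `W` -/
def Pres (π : Representation E G V) (H : Subgroup G) (W : Submodule E V) : Prop :=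
  ∀ h ∈ H, ∀ w ∈ W, π h w ∈ W

theorem Pres.sup {π : Representation E G V} {H K : Subgroup G} {W : Submodule E V}
    (h1 : Pres π H W) (h2 : Pres π K W) (hn : K ≤ Subgroup.normalizer (H : Set G)) :
    Pres π (H ⊔ K) W := by
  intro g hg w hw
  obtain ⟨x, hx, y, hy, rfl⟩ :=
    (SignalizersComponents.CoprimeBasic.mem_sup_iff hn g).mp hg
  rw [mul_apply']
  exact h1 _ hx _ (h2 _ hy _ hw)

theorem Pres.mono {π : Representation E G V} {H K : Subgroup G} {W : Submodule E V}
    (h1 : Pres π H W) (h : K ≤ H) : Pres π K W := fun g hg => h1 g (h hg)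

/-- the weight space of `l` -/
def wt (π : Representation E G V) (A : Subgroup G) (W : Submodule E V) (l : G → E) :
    Submodule E V where
  carrier := {v | v ∈ W ∧ ∀ a ∈ A, π a v = l a • v}
  add_mem' := by
    rintro u v ⟨hu, hu'⟩ ⟨hv, hv'⟩
    refine ⟨W.add_mem hu hv, fun a ha => ?_⟩
    rw [map_add, hu' a ha, hv' a ha, smul_add]
  zero_mem' := ⟨W.zero_mem, fun a _ => by rw [map_zero, smul_zero]⟩
  smul_mem' := by
    rintro c v ⟨hv, hv'⟩
    refine ⟨W.smul_mem _ hv, fun a ha => ?_⟩
    rw [map_smul, hv' a ha, smul_comm]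

theorem mem_wt {π : Representation E G V} {A : Subgroup G} {W : Submodule E V} {l : G → E}
    {v : V} : v ∈ wt π A W l ↔ v ∈ W ∧ ∀ a ∈ A, π a v = l a • v := Iff.rfl

theorem wt_le (π : Representation E G V) (A : Subgroup G) (W : Submodule E V) (l : G → E) :
    wt π A W l ≤ W := fun _ h => h.1

/-- equality of weights on `A` -/
def Same (A : Subgroup G) (l m : G → E) : Prop := ∀ a ∈ A, l a = m a

theorem Same.symm {A : Subgroup G} {l m : G → E} (h : Same A l m) : Same A m l :=
  fun a ha => (h a ha).symm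

theorem Same.trans {A : Subgroup G} {l m k : G → E} (h : Same A l m) (h' : Same A m k) :
    Same A l k := fun a ha => (h a ha).trans (h' a ha)

theorem Same.refl (A : Subgroup G) (l : G → E) : Same A l l := fun _ _ => rfl

theorem wt_congr (π : Representation E G V) {A : Subgroup G} (W : Submodule E V) {l m : G → E}
    (h : Same A l m) : wt π A W l = wt π A W m := by
  ext v
  rw [mem_wt, mem_wt]
  constructor
  · rintro ⟨h1, h2⟩
    exact ⟨h1, fun a ha => by rw [h2 a ha, h a ha]⟩
  · rintro ⟨h1, h2⟩
    exact ⟨h1, fun a ha => by rw [h2 a ha, h a ha]⟩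

/-- the conjugate weight -/
def cj (g : G) (l : G → E) : G → E := fun a => l (g⁻¹ * a * g)

theorem cj_mul (g h : G) (l : G → E) : cj (g * h) l = cj g (cj h l) := by
  funext a
  simp only [cj]
  congr 1
  group

theorem cj_one (l : G → E) : cj 1 l = l := by
  funext a
  simp [cj]

theorem conj_mem_of_normalizer {A : Subgroup G} {g : G} (hg : g ∈ Subgroup.normalizer (A : Set G))
    {a : G} (ha : a ∈ A) : g⁻¹ * a * g ∈ A := by
  have h1 := (Subgroup.mem_normalizer_iff.mp
    ((Subgroup.normalizer (A : Set G)).inv_mem hg) a).mp ha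
  rwa [inv_inv] at h1

theorem Same.cj {A : Subgroup G} {l m : G → E} (h : Same A l m) {g : G}
    (hg : g ∈ Subgroup.normalizer (A : Set G)) : Same A (cj g l) (cj g m) :=
  fun _ ha => h _ (conj_mem_of_normalizer hg ha)

theorem same_of_cj {A : Subgroup G} {l m : G → E} {g : G}
    (hg : g ∈ Subgroup.normalizer (A : Set G)) (h : Same A (cj g l) (cj g m)) : Same A l m := by
  have h1 := h.cj ((Subgroup.normalizer (A : Set G)).inv_mem hg)
  rwa [← cj_mul, ← cj_mul, inv_mul_cancel, cj_one, cj_one] at h1

/-- translates of weight spaces -/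
theorem apply_mem_wt {π : Representation E G V} {A : Subgroup G} {W : Submodule E V} {l : G → E}
    {g : G} (hg : g ∈ Subgroup.normalizer (A : Set G)) (hgW : ∀ w ∈ W, π g w ∈ W) {v : V}
    (hv : v ∈ wt π A W l) : π g v ∈ wt π A W (cj g l) := by
  refine ⟨hgW v hv.1, fun a ha => ?_⟩
  have h1 : π a (π g v) = π g (π (g⁻¹ * a * g) v) := by
    rw [← mul_apply', ← mul_apply']
    congr 2
    group
  rw [h1, hv.2 _ (conj_mem_of_normalizer hg ha), map_smul]
  rfl

/-- elements commuting with `A` on `W` preserve weight spaces -/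
theorem apply_mem_wt_of_comm {π : Representation E G V} {A : Subgroup G} {W : Submodule E V}
    {l : G → E} {x : G} (hxW : ∀ w ∈ W, π x w ∈ W)
    (hx : ∀ a ∈ A, ∀ w ∈ W, π a (π x w) = π x (π a w)) {v : V}
    (hv : v ∈ wt π A W l) : π x v ∈ wt π A W l := by
  refine ⟨hxW v hv.1, fun a ha => ?_⟩
  rw [hx a ha v hv.1, hv.2 a ha, map_smul]

open Classical in
/-- **independence of weight vectors** -/
theorem sum_same_eq_zero {π : Representation E G V} {A : Subgroup G} {W : Submodule E V}
    {ι : Type*} (s : Finset ι) (v : ι → V) (l : ι → G → E)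
    (hv : ∀ i ∈ s, v i ∈ wt π A W (l i)) (hsum : ∑ i ∈ s, v i = 0) (m : G → E) :
    ∑ i ∈ s with Same A (l i) m, v i = 0 := by
  -- separate the weights different from `m`
  have hsep : ∀ i : ι, ¬ Same A (l i) m → ∃ a ∈ A, m a ≠ l i a := by
    intro i hi
    by_contra hcon
    push Not at hcon
    exact hi (fun a ha => (hcon a ha).symm)
  choose! a haA ha using hsep
  -- apply the operators one after the other
  have key : ∀ t : Finset ι, t ⊆ s.filter (fun i => ¬ Same A (l i) m) →
      ∃ (T : V →ₗ[E] V) (c : E), c ≠ 0 ∧ (∀ i ∈ s, Same A (l i) m → T (v i) = c • v i) ∧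
        (∀ i ∈ s, ∃ d : E, T (v i) = d • v i) ∧ (∀ i ∈ t, T (v i) = 0) := by
    intro t
    induction t using Finset.induction_on with
    | empty =>
      intro _
      refine ⟨LinearMap.id, 1, one_ne_zero, fun i _ _ => by simp, fun i _ => ⟨1, by simp⟩, ?_⟩
      intro i hi
      exact absurd hi (Finset.notMem_empty i)
    | insert j t hj ih =>
      intro hjt
      obtain ⟨T, c, hc, h1, h2, h3⟩ := ih (fun i hi => hjt (Finset.mem_insert_of_mem hi))
      have hjs := hjt (Finset.mem_insert_self j t)
      rw [Finset.mem_filter] at hjs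
      have haj := haA j hjs.2
      refine ⟨(π (a j) - (l j (a j)) • LinearMap.id) ∘ₗ T, c * (m (a j) - l j (a j)),
        mul_ne_zero hc (sub_ne_zero.mpr (ha j hjs.2)), ?_, ?_, ?_⟩
      · intro i hi hsame
        rw [LinearMap.comp_apply, h1 i hi hsame, map_smul, LinearMap.sub_apply,
          LinearMap.smul_apply, LinearMap.id_apply, (hv i hi).2 _ haj, hsame _ haj, ← sub_smul,
          smul_smul]
      · intro i hi
        obtain ⟨d, hd⟩ := h2 i hi
        refine ⟨d * (l i (a j) - l j (a j)), ?_⟩
        rw [LinearMap.comp_apply, hd, map_smul, LinearMap.sub_apply,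
          LinearMap.smul_apply, LinearMap.id_apply, (hv i hi).2 _ haj, ← sub_smul, smul_smul]
      · intro i hi
        rw [Finset.mem_insert] at hi
        rcases hi with rfl | hi
        · obtain ⟨d, hd⟩ := h2 i hjs.1
          rw [LinearMap.comp_apply, hd, map_smul, LinearMap.sub_apply,
            LinearMap.smul_apply, LinearMap.id_apply, (hv i hjs.1).2 _ haj, sub_self, smul_zero]
        · rw [LinearMap.comp_apply, h3 i hi, map_zero]
  obtain ⟨T, c, hc, h1, -, h3⟩ := key _ subset_rfl
  have h4 : T (∑ i ∈ s, v i) = c • ∑ i ∈ s with Same A (l i) m, v i := by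
    rw [map_sum, ← Finset.sum_filter_add_sum_filter_not s (fun i => Same A (l i) m)
      (fun i => T (v i))]
    have h5 : ∑ i ∈ s with ¬ Same A (l i) m, T (v i) = 0 := Finset.sum_eq_zero fun i hi => h3 i hi
    rw [h5, add_zero, Finset.smul_sum]
    refine Finset.sum_congr rfl fun i hi => ?_
    rw [Finset.mem_filter] at hi
    exact h1 i hi.1 hi.2
  rw [hsum, map_zero] at h4
  exact (smul_eq_zero.mp h4.symm).resolve_left hc

/-- **weight vectors span** -/
theorem le_of_wt_le [IsAlgClosed E] [FiniteDimensional E V] [Finite G]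
    {π : Representation E G V} {A : Subgroup G} {W : Submodule E V}
    (hA : (Nat.card A : E) ≠ 0) (hAW : Pres π A W)
    (hcomm : ∀ a ∈ A, ∀ b ∈ A, ∀ w ∈ W, π a (π b w) = π b (π a w))
    (Q : Submodule E V) (hQ : ∀ l : G → E, wt π A W l ≤ Q) : W ≤ Q := by
  classical
  let f : A → Module.End E W := fun a => sub π A.subtype W (fun a => hAW a a.2) a
  have hf : ∀ a w, ((f a w : W) : V) = π a w := fun a w => rfl
  have hfpow : ∀ (a : A) (n : ℕ) (w : W), (((f a ^ n) w : W) : V) = π ((a : G) ^ n) w := by
    intro a n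
    induction n with
    | zero => intro w; simp
    | succ n ih =>
      intro w
      rw [pow_succ', Module.End.mul_apply, hf, ih, pow_succ', mul_apply']
  have hss : ∀ a, (f a).IsSemisimple := by
    intro a
    apply Module.End.isSemisimple_of_squarefree_aeval_eq_zero
      (p := Polynomial.X ^ (Nat.card A) - 1)
    · exact (Polynomial.X_pow_sub_one_separable_iff.mpr hA).squarefree
    · rw [map_sub, map_pow, Polynomial.aeval_X, map_one, sub_eq_zero]
      apply LinearMap.ext
      intro w
      apply Subtype.ext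
      rw [hfpow]
      have : (a : G) ^ Nat.card A = 1 := by
        have h1 : a ^ Nat.card A = 1 := pow_card_eq_one'
        exact congrArg Subtype.val h1
      rw [this, map_one]
      rfl
  have htop : ⨆ χ : A → E, ⨅ a, (f a).maxGenEigenspace (χ a) = ⊤ := by
    apply Module.End.iSup_iInf_maxGenEigenspace_eq_top_of_iSup_maxGenEigenspace_eq_top_of_commute
    · intro a b _
      apply LinearMap.ext
      intro w
      apply Subtype.ext
      exact hcomm a a.2 b b.2 w w.2
    · intro a
      exact Module.End.iSup_maxGenEigenspace_eq_top (f a)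
  intro w hw
  have hw1 : (⟨w, hw⟩ : W) ∈ ⨆ χ : A → E, ⨅ a, (f a).maxGenEigenspace (χ a) := by
    rw [htop]; exact Submodule.mem_top
  have h2 : ∀ x : W, x ∈ ⨆ χ : A → E, ⨅ a, (f a).maxGenEigenspace (χ a) → (x : V) ∈ Q := by
    intro x hx
    induction hx using Submodule.iSup_induction' with
    | mem χ x hx =>
      apply hQ (fun g => if h : g ∈ A then χ ⟨g, h⟩ else 0)
      refine ⟨x.2, fun a ha => ?_⟩
      change π a x = (if h : a ∈ A then χ ⟨a, h⟩ else 0) • (x : V)
      rw [dif_pos ha]
      rw [Submodule.mem_iInf] at hx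
      have h3 := hx ⟨a, ha⟩
      rw [(hss _).isFinitelySemisimple.maxGenEigenspace_eq_eigenspace,
        Module.End.mem_eigenspace_iff] at h3
      exact congrArg Subtype.val h3
    | zero => exact Q.zero_mem
    | add x y _ _ hx hy => exact Q.add_mem hx hy
  exact h2 _ hw1

/-- the stabiliser of a weight -/
def stab (A : Subgroup G) (l : G → E) : Subgroup G where
  carrier := {g | g ∈ Subgroup.normalizer (A : Set G) ∧ Same A (cj g l) l}
  one_mem' := ⟨Subgroup.one_mem _, by rw [cj_one]; exact Same.refl A l⟩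
  mul_mem' := by
    rintro g h ⟨hg, hg'⟩ ⟨hh, hh'⟩
    refine ⟨Subgroup.mul_mem _ hg hh, ?_⟩
    rw [cj_mul]
    exact (hh'.cj hg).trans hg'
  inv_mem' := by
    rintro g ⟨hg, hg'⟩
    refine ⟨Subgroup.inv_mem _ hg, ?_⟩
    have h1 := hg'.cj (Subgroup.inv_mem _ hg)
    rw [← cj_mul, inv_mul_cancel, cj_one] at h1
    exact h1.symm

theorem mem_stab {A : Subgroup G} {l : G → E} {g : G} :
    g ∈ stab A l ↔ g ∈ Subgroup.normalizer (A : Set G) ∧ Same A (cj g l) l := Iff.rfl

end Cfsg.Agent.H575.Weights
end

-- part: H575/ModM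
section
/-!
# Fixed points of an automorphism of prime order of an `s`-group acting on a module

`G` finite, `V` a finite-dimensional representation over an algebraically closed field, `P` a
`p`-subgroup, `F` an `s`-subgroup normalising `P`, `R` a subgroup of prime order normalising both,
`W` a subspace invariant under `P`, `F`, `R`; everything coprime.

* `claimK_sub`: `C_F(R) = 1` and `C_W(F) = 0`;
* `main`: `|C_F(R)|` divides `s`, `C_P(F)` trivial on `W` and `C_W(F) = 0`.

In both cases an element of `C_P(R)` trivial on `C_W(R)` is trivial on `W`.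
-/

set_option autoImplicit false
set_option linter.unusedSectionVars false

namespace Cfsg.Agent.H575.ModM

open Module Cfsg.Agent.H575.Dim Cfsg.Agent.H575.Weights

variable {E : Type*} [Field E] [IsAlgClosed E] {G V : Type*} [Group G] [Finite G]
  [AddCommGroup V] [Module E V] [FiniteDimensional E V]

theorem natCast_ne_zero_of_dvd {m n : ℕ} (h : m ∣ n) (hn : (n : E) ≠ 0) : (m : E) ≠ 0 := by
  rintro h0
  obtain ⟨k, rfl⟩ := h
  apply hn
  rw [Nat.cast_mul, h0, zero_mul]

theorem le_normalizer_sup {P F R : Subgroup G} (hRP : R ≤ Subgroup.normalizer (P : Set G))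
    (hRF : R ≤ Subgroup.normalizer (F : Set G)) :
    R ≤ Subgroup.normalizer ((P ⊔ F : Subgroup G) : Set G) := by
  intro r hr
  rw [Subgroup.mem_normalizer_iff]
  have key : ∀ r ∈ R, ∀ g ∈ P ⊔ F, r * g * r⁻¹ ∈ P ⊔ F := by
    intro r hr g hg
    have h1 : (P ⊔ F).map (MulAut.conj r).toMonoidHom ≤ P ⊔ F := by
      rw [Subgroup.map_sup]
      refine sup_le_sup ?_ ?_
      · rintro _ ⟨x, hx, rfl⟩
        exact (Subgroup.mem_normalizer_iff.mp (hRP hr) x).mp hx
      · rintro _ ⟨x, hx, rfl⟩
        exact (Subgroup.mem_normalizer_iff.mp (hRF hr) x).mp hx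
    exact h1 ⟨g, hg, rfl⟩
  intro g
  constructor
  · exact key r hr g
  · intro h
    have h1 := key r⁻¹ (R.inv_mem hr) _ h
    have h2 : r⁻¹ * (r * g * r⁻¹) * r⁻¹⁻¹ = g := by group
    rwa [h2] at h1

/-- Frobenius case. -/
theorem claimK_sub (π : Representation E G V) (W : Submodule E V) {P F R : Subgroup G}
    (hPW : Pres π P W) (hFW : Pres π F W) (hRW : Pres π R W)
    (hRP : R ≤ Subgroup.normalizer (P : Set G)) (hRF : R ≤ Subgroup.normalizer (F : Set G))
    (hFP : F ≤ Subgroup.normalizer (P : Set G)) (hPs : Group.IsSolvable P)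
    (hFs : Group.IsSolvable F) (hR : (Nat.card R).Prime) (hRPc : ¬ Nat.card R ∣ Nat.card P)
    (hRFc : ¬ Nat.card R ∣ Nat.card F) (hPE : (Nat.card P : E) ≠ 0) (hFE : (Nat.card F : E) ≠ 0)
    (hC : F ⊓ Subgroup.centralizer (R : Set G) = ⊥)
    (hfix : ∀ w ∈ W, (∀ f ∈ F, π f w = w) → w = 0) {x : G} (hx : x ∈ P)
    (hxR : x ∈ Subgroup.centralizer (R : Set G))
    (hxC : ∀ w ∈ W, (∀ r ∈ R, π r w = w) → π x w = w) : ∀ w ∈ W, π x w = w := by
  have hRn := le_normalizer_sup hRP hRF
  have hcard := SignalizersComponents.CoprimeBasic.card_sup_dvd hFP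
  have hsol := SignalizersComponents.CoprimeBasic.isSolvable_sup hFP hPs hFs
  have hKW : Pres π (P ⊔ F) W := hPW.sup hFW hFP
  let K : Subgroup G := P ⊔ F
  let σ : R →* MulAut K := (K.normalizerMonoidHom).comp (Subgroup.inclusion hRn)
  let σF : R →* MulAut F := (F.normalizerMonoidHom).comp (Subgroup.inclusion hRF)
  have hσ : ∀ (r : R) (k : K), ((σ r k : K) : G) = r * k * (r : G)⁻¹ := fun r k => rfl
  have hσF : ∀ (r : R) (k : F), ((σF r k : F) : G) = r * k * (r : G)⁻¹ := fun r k => rfl
  have hPF : F ≤ K := le_sup_right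
  have hPK : P ≤ K := le_sup_left
  have hmain := ClaimK.claimK (sub π K.subtype W (fun n w hw => hKW n n.2 w hw))
    (sub π R.subtype W (fun n w hw => hRW n n.2 w hw)) σ σF (Subgroup.inclusion hPF)
    (Subgroup.inclusion_injective hPF) (fun r f => rfl)
    (by
      intro r k v
      apply Subtype.ext
      change π r (π k v) = π (r * k * (r : G)⁻¹) (π r v)
      rw [← mul_apply', ← mul_apply']
      congr 2
      group)
    hR hsol
    (natCast_ne_zero_of_dvd hcard (by rw [Nat.cast_mul]; exact mul_ne_zero hPE hFE))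
    (by
      intro h
      rcases (Nat.Prime.dvd_mul hR).mp (h.trans hcard) with h | h
      · exact hRPc h
      · exact hRFc h)
    (by
      intro r hr f hf
      have hgen : ∀ x : R, x ∈ Subgroup.zpowers r := fun x =>
        haveI : Fact (Nat.card R).Prime := ⟨hR⟩
        mem_zpowers_of_prime_card rfl hr
      have h1 : (r : G) * f * (r : G)⁻¹ = f := congrArg Subtype.val hf
      have h2 : (f : G) ∈ F ⊓ Subgroup.centralizer (R : Set G) := by
        refine ⟨f.2, Subgroup.mem_centralizer_iff.mpr ?_⟩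
        intro y hy
        obtain ⟨n, hn⟩ := hgen ⟨y, hy⟩
        have hn' : (r : G) ^ n = y := congrArg Subtype.val hn
        have hcomm : Commute (r : G) (f : G) := by
          change (r : G) * f = f * r
          rw [← mul_inv_eq_iff_eq_mul]
          exact h1
        rw [← hn']
        exact (hcomm.zpow_left n)
      rw [hC, Subgroup.mem_bot] at h2
      exact Subtype.ext h2)
    (by
      intro v hv
      apply Subtype.ext
      refine hfix v v.2 fun f hf => ?_
      exact congrArg Subtype.val (hv ⟨f, hf⟩))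
    ⟨x, hPK hx⟩
    (by
      intro r
      apply Subtype.ext
      rw [hσ]
      have h1 := Subgroup.mem_centralizer_iff.mp hxR r r.2
      change (r : G) * x * (r : G)⁻¹ = x
      rw [h1]
      group)
    (by
      intro v hv
      apply Subtype.ext
      exact hxC v v.2 fun r hr => congrArg Subtype.val (hv ⟨r, hr⟩))
  intro w hw
  exact congrArg Subtype.val (hmain ⟨w, hw⟩)

/-- a weight not fixed by `R`: elements commuting with `R` and trivial on the fixed points of `R` are
trivial on the weight space -/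
theorem trivial_of_not_fixed (π : Representation E G V) (W : Submodule E V) {A R : Subgroup G}
    (hRW : Pres π R W) (hRA : R ≤ Subgroup.normalizer (A : Set G)) (hR : (Nat.card R).Prime)
    {x : G} (hxW : ∀ w ∈ W, π x w ∈ W)
    (hxA : ∀ a ∈ A, ∀ w ∈ W, π a (π x w) = π x (π a w))
    (hxR : x ∈ Subgroup.centralizer (R : Set G))
    (hxC : ∀ w ∈ W, (∀ r ∈ R, π r w = w) → π x w = w) (l : G → E)
    (hl : ¬ ∀ r ∈ R, Same A (cj r l) l) : ∀ w ∈ wt π A W l, π x w = w := by
  classical
  intro v hv
  have : Fintype R := Fintype.ofFinite R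
  let u : V := π x v - v
  have hu : u ∈ wt π A W l :=
    (wt π A W l).sub_mem (apply_mem_wt_of_comm hxW hxA hv) hv
  have hcomm : ∀ r ∈ R, ∀ w, π x (π r w) = π r (π x w) := by
    intro r hr w
    rw [← mul_apply', ← mul_apply', Subgroup.mem_centralizer_iff.mp hxR r hr]
  have hsum : ∑ r : R, π r u = 0 := by
    have h1 : π x (∑ r : R, π r v) = ∑ r : R, π r v := by
      refine hxC _ (W.sum_mem fun r _ => hRW r r.2 v hv.1) fun s hs => ?_
      rw [map_sum]
      refine Fintype.sum_bijective (fun y => ⟨s, hs⟩ * y) (Group.mulLeft_bijective _) _ _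
        fun y => ?_
      rw [← mul_apply']
      rfl
    simp only [u, map_sub, Finset.sum_sub_distrib]
    rw [map_sum] at h1
    rw [sub_eq_zero, ← h1]
    refine Finset.sum_congr rfl fun r _ => ?_
    rw [hcomm r r.2]
  have hsame := sum_same_eq_zero (π := π) (A := A) (W := W) Finset.univ (fun r : R => π r u)
    (fun r : R => cj (r : G) l)
    (fun r _ => apply_mem_wt (hRA r.2) (hRW r r.2) hu) hsum l
  -- only `r = 1` fixes `l`
  have hone : ∀ r : R, Same A (cj (r : G) l) l → r = 1 := by
    intro r hr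
    by_contra hr1
    apply hl
    have : Fact (Nat.card R).Prime := ⟨hR⟩
    have hgen : ∀ x : R, x ∈ Subgroup.zpowers r := fun x => mem_zpowers_of_prime_card rfl hr1
    intro s hs
    have h1 : (r : G) ∈ stab A l := ⟨hRA r.2, hr⟩
    obtain ⟨n, hn⟩ := hgen ⟨s, hs⟩
    have hn' : (r : G) ^ n = s := congrArg Subtype.val hn
    have h2 : s ∈ stab A l := by
      rw [← hn']
      exact Subgroup.zpow_mem _ h1 n
    exact h2.2
  have hfil : (Finset.univ.filter fun r : R => Same A (cj (r : G) l) l) = {1} := by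
    ext r
    rw [Finset.mem_filter, Finset.mem_singleton]
    constructor
    · rintro ⟨-, h⟩
      exact hone r h
    · rintro rfl
      refine ⟨Finset.mem_univ _, ?_⟩
      rw [Subgroup.coe_one, cj_one]
      exact Same.refl A l
  rw [hfil, Finset.sum_singleton, Subgroup.coe_one, map_one, Module.End.one_apply] at hsame
  exact sub_eq_zero.mp hsame

/-- vectors of a weight space fixed by the stabiliser of the weight in `F` vanish if `F` has no
fixed vectors -/
theorem eq_zero_of_fixed (π : Representation E G V) (W : Submodule E V) {A F : Subgroup G}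
    (hFW : Pres π F W) (hFA : F ≤ Subgroup.normalizer (A : Set G)) (hFE : (Nat.card F : E) ≠ 0)
    (hfix : ∀ w ∈ W, (∀ f ∈ F, π f w = w) → w = 0) (l : G → E) :
    ∀ w ∈ wt π A W l, (∀ f ∈ F ⊓ stab A l, π f w = w) → w = 0 := by
  classical
  intro v hv hv1
  have : Fintype F := Fintype.ofFinite F
  have hsum : ∑ f : F, π f v = 0 := by
    refine hfix _ (W.sum_mem fun r _ => hFW r r.2 v hv.1) fun s hs => ?_
    rw [map_sum]
    refine Fintype.sum_bijective (fun y => ⟨s, hs⟩ * y) (Group.mulLeft_bijective _) _ _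
      fun y => ?_
    rw [← mul_apply']
    rfl
  have hsame := sum_same_eq_zero (π := π) (A := A) (W := W) Finset.univ (fun r : F => π r v)
    (fun r : F => cj (r : G) l)
    (fun r _ => apply_mem_wt (hFA r.2) (hFW r r.2) hv) hsum l
  have h1 : ∀ f ∈ (Finset.univ.filter fun r : F => Same A (cj (r : G) l) l), π f v = v := by
    intro f hf
    rw [Finset.mem_filter] at hf
    exact hv1 f ⟨f.2, hFA f.2, hf.2⟩
  rw [Finset.sum_congr rfl h1, Finset.sum_const, ← Nat.cast_smul_eq_nsmul E] at hsame
  refine (smul_eq_zero.mp hsame).resolve_left ?_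
  have h2 : (Finset.univ.filter fun r : F => Same A (cj (r : G) l) l).card =
      Nat.card ↥(F ⊓ stab A l) := by
    rw [← Fintype.card_subtype, ← Nat.card_eq_fintype_card]
    refine Nat.card_congr
      { toFun := fun x => ⟨x.1, x.1.2, hFA x.1.2, x.2⟩
        invFun := fun x => ⟨⟨x.1, x.2.1⟩, x.2.2.2⟩
        left_inv := fun x => rfl
        right_inv := fun x => rfl }
  rw [h2]
  exact natCast_ne_zero_of_dvd (Subgroup.card_dvd_of_le inf_le_left) hFE

/-- a `p`-group all of whose elements central modulo the kernel act trivially acts trivially -/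
theorem trivial_of_center (π : Representation E G V) (W : Submodule E V) {p : ℕ}
    [hp : Fact p.Prime] {P : Subgroup G} (hP : IsPGroup p P) (hPW : Pres π P W)
    (h : ∀ a ∈ P, (∀ b ∈ P, ∀ w ∈ W, π a (π b w) = π b (π a w)) → ∀ w ∈ W, π a w = w) :
    ∀ a ∈ P, ∀ w ∈ W, π a w = w := by
  let φ : P →* (Module.End E W)ˣ :=
    (sub π P.subtype W (fun n w hw => hPW n n.2 w hw)).toHomUnits
  have hφ : ∀ (a : P) (w : W), ((((φ a : (Module.End E W)ˣ) : Module.End E W) w : W) : V) =
      π a w := fun a w => rfl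
  have hQ : IsPGroup p φ.range := hP.of_surjective φ.rangeRestrict φ.rangeRestrict_surjective
  by_contra hcon
  have hnt : Nontrivial φ.range := by
    push Not at hcon
    obtain ⟨a, ha, w, hw, haw⟩ := hcon
    refine ⟨⟨⟨φ ⟨a, ha⟩, ⟨a, ha⟩, rfl⟩, 1, fun h1 => haw ?_⟩⟩
    have h2 : φ ⟨a, ha⟩ = 1 := congrArg Subtype.val h1
    have h3 := hφ ⟨a, ha⟩ ⟨w, hw⟩
    rw [h2] at h3
    exact h3.symm
  have hfin : Finite φ.range := Finite.of_surjective φ.rangeRestrict φ.rangeRestrict_surjective
  have hcn := hQ.center_nontrivial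
  obtain ⟨⟨z, hz⟩, hz1⟩ := exists_ne (1 : Subgroup.center φ.range)
  obtain ⟨⟨a, ha⟩, hza⟩ := z.2
  apply hz1
  apply Subtype.ext
  apply Subtype.ext
  change (z : (Module.End E W)ˣ) = 1
  rw [← hza]
  apply Units.ext
  apply LinearMap.ext
  intro w
  apply Subtype.ext
  rw [hφ]
  refine h a ha ?_ w w.2
  intro b hb w hw
  rw [Subgroup.mem_center_iff] at hz
  have h1 := hz ⟨φ ⟨b, hb⟩, ⟨b, hb⟩, rfl⟩
  have h2 : φ ⟨b, hb⟩ * φ ⟨a, ha⟩ = φ ⟨a, ha⟩ * φ ⟨b, hb⟩ := by
    rw [hza]
    exact congrArg Subtype.val h1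
  have h3 := congrArg (fun u : (Module.End E W)ˣ => (((u : Module.End E W) ⟨w, hw⟩ : W) : V)) h2
  exact h3.symm

theorem le_normalizer_of_conj {H P : Subgroup G} (h : ∀ g ∈ H, ∀ y ∈ P, g * y * g⁻¹ ∈ P) :
    H ≤ Subgroup.normalizer (P : Set G) := by
  intro g hg
  rw [Subgroup.mem_normalizer_iff]
  intro y
  constructor
  · exact h g hg y
  · intro hy
    have h1 := h g⁻¹ (H.inv_mem hg) _ hy
    have h2 : g⁻¹ * (g * y * g⁻¹) * g⁻¹⁻¹ = y := by group
    rwa [h2] at h1

theorem conj_mem_of_le_normalizer {H P : Subgroup G} (h : H ≤ Subgroup.normalizer (P : Set G))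
    {g y : G} (hg : g ∈ H) (hy : y ∈ P) : g * y * g⁻¹ ∈ P :=
  (Subgroup.mem_normalizer_iff.mp (h hg) y).mp hy

/-- the elements of `P` central on `W` -/
def cen (π : Representation E G V) (W : Submodule E V) (P : Subgroup G) (hPW : Pres π P W) :
    Subgroup G where
  carrier := {a | a ∈ P ∧ ∀ b ∈ P, ∀ w ∈ W, π a (π b w) = π b (π a w)}
  one_mem' := ⟨P.one_mem, fun b _ w _ => by simp⟩
  mul_mem' := by
    rintro a b ⟨ha, ha'⟩ ⟨hb, hb'⟩
    refine ⟨P.mul_mem ha hb, fun c hc w hw => ?_⟩
    rw [mul_apply', mul_apply', hb' c hc w hw, ha' c hc _ (hPW b hb w hw)]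
  inv_mem' := by
    rintro a ⟨ha, ha'⟩
    refine ⟨P.inv_mem ha, fun c hc w hw => ?_⟩
    have h1 := ha' c hc _ (hPW a⁻¹ (P.inv_mem ha) w hw)
    rw [apply_inv] at h1
    rw [← h1, inv_apply]

theorem mem_cen {π : Representation E G V} {W : Submodule E V} {P : Subgroup G}
    {hPW : Pres π P W} {a : G} :
    a ∈ cen π W P hPW ↔ a ∈ P ∧ ∀ b ∈ P, ∀ w ∈ W, π a (π b w) = π b (π a w) := Iff.rfl

theorem le_normalizer_cen (π : Representation E G V) (W : Submodule E V) {P H : Subgroup G}
    (hPW : Pres π P W) (hHW : Pres π H W) (hHP : H ≤ Subgroup.normalizer (P : Set G)) :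
    H ≤ Subgroup.normalizer ((cen π W P hPW : Subgroup G) : Set G) := by
  apply le_normalizer_of_conj
  rintro g hg a ⟨ha, ha'⟩
  refine ⟨conj_mem_of_le_normalizer hHP hg ha, fun b hb w hw => ?_⟩
  have h1 : g⁻¹ * b * g ∈ P := conj_mem_of_normalizer (hHP hg) hb
  have h2 := ha' _ h1 _ (hHW g⁻¹ (H.inv_mem hg) w hw)
  have h3 : π (g * a * g⁻¹) (π b w) = π g (π a (π (g⁻¹ * b * g) (π g⁻¹ w))) := by
    simp only [← mul_apply']
    congr 2
    group
  have h4 : π b (π (g * a * g⁻¹) w) = π g (π (g⁻¹ * b * g) (π a (π g⁻¹ w))) := by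
    simp only [← mul_apply']
    congr 2
    group
  rw [h3, h4, h2]

/-- the subgroup of elements of `P` trivial on a family of subspaces -/
def fixer (π : Representation E G V) (P : Subgroup G) (S : Set V) : Subgroup G where
  carrier := {y | y ∈ P ∧ ∀ v ∈ S, π y v = v}
  one_mem' := ⟨P.one_mem, fun v _ => by simp⟩
  mul_mem' := by
    rintro a b ⟨ha, ha'⟩ ⟨hb, hb'⟩
    refine ⟨P.mul_mem ha hb, fun v hv => ?_⟩
    rw [mul_apply', hb' v hv, ha' v hv]
  inv_mem' := by
    rintro a ⟨ha, ha'⟩
    refine ⟨P.inv_mem ha, fun v hv => ?_⟩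
    have h1 := ha' v hv
    rw [← h1, inv_apply, h1]

theorem mem_fixer {π : Representation E G V} {P : Subgroup G} {S : Set V} {y : G} :
    y ∈ fixer π P S ↔ y ∈ P ∧ ∀ v ∈ S, π y v = v := Iff.rfl

end Cfsg.Agent.H575.ModM
end

-- part: H575/ModMain
section
/-!
# Fixed points of an automorphism of prime order of an `s`-group acting on a module: main lemma

`main`: `P` a `p`-group, `F` an `s`-group normalising `P`, `R` of prime order `r` normalising `P` and
`F`, `|C_F(R)|` divides `s`, everything coprime; `P`, `F`, `R` act on `W`, `C_P(F)` is trivial on `W`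
and `C_W(F) = 0`.  An element of `C_P(R)` trivial on `C_W(R)` is trivial on `W`.
-/

set_option autoImplicit false
set_option linter.unusedSectionVars false

namespace Cfsg.Agent.H575.ModM

open Module Cfsg.Agent.H575.Dim Cfsg.Agent.H575.Weights

variable {E : Type*} [Field E] [IsAlgClosed E] {G V : Type*} [Group G] [Finite G]
  [AddCommGroup V] [Module E V] [FiniteDimensional E V]

/-- the product of the conjugates of `y` under `t ⊆ F`, acting on the weight spaces of the `F`-orbit
of `l`, when `y` is trivial on the weight spaces of the orbit other than that of `l`. -/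
theorem exists_prod_conj (π : Representation E G V) (W : Submodule E V) {P F : Subgroup G}
    (hPW : Pres π P W) (hFW : Pres π F W) (hFP : F ≤ Subgroup.normalizer (P : Set G))
    (l : G → E) {y : G} (hyP : y ∈ P)
    (hy : ∀ f ∈ F, f ∉ stab (cen π W P hPW) l → ∀ v ∈ wt π (cen π W P hPW) W (cj f l), π y v = v)
    (hyF : ∀ f ∈ F, f ∈ stab (cen π W P hPW) l → f * y = y * f) :
    ∃ z ∈ P, ∀ f ∈ F, ∀ v ∈ wt π (cen π W P hPW) W (cj f l),
      π z v = π ((f * y * f⁻¹) ^ (Nat.card ↥(F ⊓ stab (cen π W P hPW) l))) v := by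
  classical
  have : Fintype F := Fintype.ofFinite F
  set A := cen π W P hPW with hA
  have hFA : F ≤ Subgroup.normalizer (A : Set G) := le_normalizer_cen π W hPW hFW hFP
  have key : ∀ t : Finset F, ∃ z ∈ P, ∀ f : F, ∀ v ∈ wt π A W (cj (f : G) l),
      π z v = π (((f : G) * y * (f : G)⁻¹) ^
        (t.filter fun g : F => (f : G)⁻¹ * g ∈ stab A l).card) v := by
    intro t
    induction t using Finset.induction_on with
    | empty =>
      refine ⟨1, P.one_mem, fun f v _ => ?_⟩
      simp
    | insert g t hg ih =>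
      obtain ⟨z, hz, hz'⟩ := ih
      refine ⟨g * y * (g : G)⁻¹ * z, P.mul_mem (conj_mem_of_le_normalizer hFP g.2 hyP) hz, ?_⟩
      intro f v hv
      have hfy : (f : G) * y * (f : G)⁻¹ ∈ P := conj_mem_of_le_normalizer hFP f.2 hyP
      have hpow : ∀ k : ℕ, π (((f : G) * y * (f : G)⁻¹) ^ k) v ∈ wt π A W (cj (f : G) l) := by
        intro k
        have h1 : ((f : G) * y * (f : G)⁻¹) ^ k ∈ P := P.pow_mem hfy k
        exact apply_mem_wt_of_comm (fun w hw => hPW _ h1 w hw)
          (fun a ha w hw => (mem_cen.mp ha).2 _ h1 w hw) hv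
      rw [mul_apply', hz' f v hv, Finset.filter_insert]
      by_cases hfg : (f : G)⁻¹ * g ∈ stab A l
      · rw [if_pos hfg, Finset.card_insert_of_notMem (fun h => hg (Finset.mem_of_mem_filter _ h)),
          pow_succ', mul_apply' π ((f : G) * y * (f : G)⁻¹)]
        congr 2
        have h1 := hyF _ (F.mul_mem (F.inv_mem f.2) g.2) hfg
        have h2 : (g : G) * y * (g : G)⁻¹ =
            f * (((f : G)⁻¹ * g) * y) * ((f : G)⁻¹ * g)⁻¹ * (f : G)⁻¹ := by group
        rw [h2, h1]
        group
      · rw [if_neg hfg]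
        set w := π (((f : G) * y * (f : G)⁻¹) ^
          (t.filter fun g : F => (f : G)⁻¹ * g ∈ stab A l).card) v with hw
        have hwm : w ∈ wt π A W (cj (f : G) l) := hpow _
        have h1 : π (g : G)⁻¹ w ∈ wt π A W (cj ((g : G)⁻¹ * f) l) := by
          rw [cj_mul]
          exact apply_mem_wt (hFA (F.inv_mem g.2)) (hFW _ (F.inv_mem g.2)) hwm
        have h2 : (g : G)⁻¹ * f ∉ stab A l := by
          intro h
          apply hfg
          have h3 := (stab A l).inv_mem h
          rwa [mul_inv_rev, inv_inv] at h3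
        have h3 := hy _ (F.mul_mem (F.inv_mem g.2) f.2) h2 _ h1
        rw [mul_apply', mul_apply', h3, apply_inv]
  obtain ⟨z, hz, hz'⟩ := key Finset.univ
  refine ⟨z, hz, fun f hf v hv => ?_⟩
  have h1 := hz' ⟨f, hf⟩ v hv
  have h2 : (Finset.univ.filter fun g : F => ((⟨f, hf⟩ : F) : G)⁻¹ * g ∈ stab A l).card =
      Nat.card ↥(F ⊓ stab A l) := by
    rw [← Fintype.card_subtype, ← Nat.card_eq_fintype_card]
    refine Nat.card_congr
      { toFun := fun x => ⟨f⁻¹ * x.1, F.mul_mem (F.inv_mem hf) x.1.2, x.2⟩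
        invFun := fun x => ⟨⟨f * x.1, F.mul_mem hf x.2.1⟩, by
          change f⁻¹ * (f * x.1) ∈ stab A l
          rw [inv_mul_cancel_left]
          exact x.2.2⟩
        left_inv := fun x => by
          apply Subtype.ext
          apply Subtype.ext
          exact mul_inv_cancel_left f _
        right_inv := fun x => by
          apply Subtype.ext
          exact inv_mul_cancel_left f _ }
  rw [h2] at h1
  exact h1

/-- the product of the `F`-conjugates of an element of the centre -/
theorem exists_prod_cen (π : Representation E G V) (W : Submodule E V) {P F : Subgroup G}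
    (hPW : Pres π P W) (hFW : Pres π F W) (hFP : F ≤ Subgroup.normalizer (P : Set G))
    {a : G} (ha : a ∈ cen π W P hPW) [Fintype F] :
    ∃ z ∈ cen π W P hPW, ∀ m : G → E, ∀ v ∈ wt π (cen π W P hPW) W m,
      π z v = (∏ f : F, m ((f : G) * a * (f : G)⁻¹)) • v := by
  classical
  set A := cen π W P hPW with hA
  have hFA : F ≤ Subgroup.normalizer (A : Set G) := le_normalizer_cen π W hPW hFW hFP
  have key : ∀ t : Finset F, ∃ z ∈ A, ∀ m : G → E, ∀ v ∈ wt π A W m,
      π z v = (∏ f ∈ t, m ((f : G) * a * (f : G)⁻¹)) • v := by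
    intro t
    induction t using Finset.induction_on with
    | empty =>
      refine ⟨1, A.one_mem, fun m v _ => ?_⟩
      simp
    | insert g t hg ih =>
      obtain ⟨z, hz, hz'⟩ := ih
      have hga : (g : G) * a * (g : G)⁻¹ ∈ A := conj_mem_of_le_normalizer hFA g.2 ha
      refine ⟨g * a * (g : G)⁻¹ * z, A.mul_mem hga hz, ?_⟩
      intro m v hv
      rw [mul_apply', hz' m v hv, map_smul, hv.2 _ hga, smul_smul, Finset.prod_insert hg, mul_comm]
  exact key Finset.univ

theorem main_aux {p s : ℕ} [hp : Fact p.Prime] [hs : Fact s.Prime] (hps : p ≠ s)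
    (π : Representation E G V) {R : Subgroup G} (hR : (Nat.card R).Prime)
    (hRp : Nat.card R ≠ p) (hRs : Nat.card R ≠ s) (hpE : (p : E) ≠ 0) (hsE : (s : E) ≠ 0)
    (n : ℕ) :
    ∀ (P F : Subgroup G) (W : Submodule E V), Nat.card F + finrank E W ≤ n →
      IsPGroup p P → IsPGroup s F → Pres π P W → Pres π F W → Pres π R W →
      R ≤ Subgroup.normalizer (P : Set G) → R ≤ Subgroup.normalizer (F : Set G) →
      F ≤ Subgroup.normalizer (P : Set G) →
      Nat.card ↥(F ⊓ Subgroup.centralizer (R : Set G)) ∣ s →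
      (∀ y ∈ P, (∀ f ∈ F, f * y = y * f) → ∀ w ∈ W, π y w = w) →
      (∀ w ∈ W, (∀ f ∈ F, π f w = w) → w = 0) →
      ∀ x ∈ P, x ∈ Subgroup.centralizer (R : Set G) →
      (∀ w ∈ W, (∀ r ∈ R, π r w = w) → π x w = w) → ∀ w ∈ W, π x w = w := by
  classical
  induction n with
  | zero =>
    intro P F W hn
    have : 0 < Nat.card F := Nat.card_pos
    omega
  | succ n ih =>
  intro P F W hn hP hF hPW hFW hRW hRP hRF hFP hCR hCP hCW x hxP hxR hxC
  -- orders
  obtain ⟨kp, hkp⟩ := hP.exists_card_eq
  obtain ⟨ks, hks⟩ := hF.exists_card_eq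
  have hPE : (Nat.card P : E) ≠ 0 := by
    rw [hkp, Nat.cast_pow]; exact pow_ne_zero _ hpE
  have hFE : (Nat.card F : E) ≠ 0 := by
    rw [hks, Nat.cast_pow]; exact pow_ne_zero _ hsE
  have hRPc : ¬ Nat.card R ∣ Nat.card P := by
    intro h
    rw [hkp] at h
    exact hRp ((Nat.prime_dvd_prime_iff_eq hR hp.out).mp (hR.dvd_of_dvd_pow h))
  have hRFc : ∀ D : Subgroup G, D ≤ F → ¬ Nat.card R ∣ Nat.card D := by
    intro D hD h
    have h1 := h.trans (Subgroup.card_dvd_of_le hD)
    rw [hks] at h1
    exact hRs ((Nat.prime_dvd_prime_iff_eq hR hs.out).mp (hR.dvd_of_dvd_pow h1))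
  have hsP : ∀ D : Subgroup G, D ≤ P → ¬ s ∣ Nat.card D := by
    intro D hD h
    have h1 := h.trans (Subgroup.card_dvd_of_le hD)
    rw [hkp] at h1
    exact hps.symm ((Nat.prime_dvd_prime_iff_eq hs.out hp.out).mp (hs.out.dvd_of_dvd_pow h1))
  -- the centre modulo the kernel
  set A := cen π W P hPW with hA
  have hAP : A ≤ P := fun a ha => ha.1
  have hAW : Pres π A W := hPW.mono hAP
  have hAcomm : ∀ a ∈ A, ∀ b ∈ A, ∀ w ∈ W, π a (π b w) = π b (π a w) :=
    fun a ha b hb => ha.2 b hb.1
  have hAE : (Nat.card A : E) ≠ 0 :=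
    natCast_ne_zero_of_dvd (Subgroup.card_dvd_of_le hAP) hPE
  have hFA : F ≤ Subgroup.normalizer (A : Set G) := le_normalizer_cen π W hPW hFW hFP
  have hRA : R ≤ Subgroup.normalizer (A : Set G) := le_normalizer_cen π W hPW hRW hRP
  have hcomm : ∀ y ∈ P, ∀ a ∈ A, ∀ w ∈ W, π a (π y w) = π y (π a w) :=
    fun y hy a ha => ha.2 y hy
  have hPwt : ∀ l : G → E, Pres π P (wt π A W l) := fun l y hy v hv =>
    apply_mem_wt_of_comm (fun w hw => hPW _ hy w hw) (hcomm y hy) hv
  -- it is enough to look at weight spaces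
  let Q : Submodule E V := LinearMap.ker (π x - LinearMap.id)
  have hQ : ∀ v, v ∈ Q ↔ π x v = v := by
    intro v
    rw [LinearMap.mem_ker, LinearMap.sub_apply, LinearMap.id_apply, sub_eq_zero]
  suffices h : ∀ l : G → E, wt π A W l ≤ Q by
    intro w hw
    exact (hQ w).mp (le_of_wt_le hAE hAW hAcomm Q h hw)
  intro l v hv
  rw [hQ]
  by_cases hlR : ∀ r ∈ R, Same A (cj r l) l
  swap
  · exact trivial_of_not_fixed π W hRW hRA hR (hPW x hxP) (hcomm x hxP) hxR hxC l hlR v hv
  have hRst : R ≤ stab A l := fun r hr => ⟨hRA hr, hlR r hr⟩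
  have hRwt : Pres π R (wt π A W l) := by
    intro r hr w hw
    have h1 := apply_mem_wt (hRA hr) (hRW r hr) hw
    rwa [wt_congr π W (hlR r hr)] at h1
  set F₁ := F ⊓ stab A l with hF₁
  have hF₁F : F₁ ≤ F := inf_le_left
  have hF₁wt : Pres π F₁ (wt π A W l) := by
    intro f hf w hw
    have h1 := apply_mem_wt (hFA hf.1) (hFW f hf.1) hw
    rwa [wt_congr π W hf.2.2] at h1
  have hRF₁ : R ≤ Subgroup.normalizer (F₁ : Set G) := by
    apply le_normalizer_of_conj
    intro r hr f hf
    exact ⟨conj_mem_of_le_normalizer hRF hr hf.1,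
      (stab A l).mul_mem ((stab A l).mul_mem (hRst hr) hf.2) ((stab A l).inv_mem (hRst hr))⟩
  have hfix₁ : ∀ w ∈ wt π A W l, (∀ f ∈ F₁, π f w = w) → w = 0 :=
    eq_zero_of_fixed π W hFW hFA hFE hCW l
  have hF₁P : F₁ ≤ Subgroup.normalizer (P : Set G) := hF₁F.trans hFP
  by_cases hC1 : F ⊓ Subgroup.centralizer (R : Set G) ≤ F₁
  swap
  · -- Frobenius case
    have hC2 : F₁ ⊓ Subgroup.centralizer (R : Set G) = ⊥ := by
      have hle : F₁ ⊓ Subgroup.centralizer (R : Set G) ≤ F ⊓ Subgroup.centralizer (R : Set G) :=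
        inf_le_inf_right _ hF₁F
      have hd := Subgroup.card_dvd_of_le hle
      rcases (Nat.dvd_prime hs.out).mp (hd.trans hCR) with h | h
      · exact Subgroup.card_eq_one.mp h
      · exfalso
        apply hC1
        have h1 : Nat.card ↥(F ⊓ Subgroup.centralizer (R : Set G)) ≤
            Nat.card ↥(F₁ ⊓ Subgroup.centralizer (R : Set G)) := by
          rw [h]
          exact Nat.le_of_dvd hs.out.pos hCR
        have h2 := Subgroup.eq_of_le_of_card_ge hle h1
        rw [← h2]
        exact inf_le_left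
    have hPsol : Group.IsSolvable P := by
      have := hP.isNilpotent
      infer_instance
    have hFsol : Group.IsSolvable F₁ := by
      have := (hF.to_le hF₁F).isNilpotent
      infer_instance
    exact claimK_sub π (wt π A W l) (hPwt l) hF₁wt hRwt hRP hRF₁ hF₁P hPsol hFsol hR hRPc
      (hRFc F₁ hF₁F) hPE (natCast_ne_zero_of_dvd (Subgroup.card_dvd_of_le hF₁F) hFE) hC2 hfix₁
      hxP hxR (fun w hw => hxC w hw.1) v hv
  by_cases hF₁eq : F ≤ F₁
  · -- the weight is invariant under `F`
    have hFst : F ≤ stab A l := fun f hf => (hF₁eq hf).2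
    have hFwt : Pres π F (wt π A W l) := fun f hf => hF₁wt f (hF₁eq hf)
    by_cases hv0 : v = 0
    · rw [hv0, map_zero]
    have hFf : Fintype F := Fintype.ofFinite F
    -- `A` is trivial on the weight space
    have hl1 : ∀ a ∈ A, l a = 1 := by
      intro a ha
      obtain ⟨z, hz, hz'⟩ := exists_prod_cen π W hPW hFW hFP ha
      let K : Subgroup G := fixer π P (W : Set V)
      have hKP : K ≤ P := fun y hy => hy.1
      obtain ⟨d, hd, hd'⟩ := SignalizersComponents.CoprimeBasic.exists_fixed_in_coset F hF K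
        (hsP K hKP) (by
          intro f hf d hd
          refine ⟨conj_mem_of_le_normalizer hFP hf hd.1, fun w hw => ?_⟩
          rw [mul_apply', mul_apply', hd.2 _ (hFW _ (F.inv_mem hf) w hw), apply_inv]) z (by
          intro f hf
          have hzf : f * z * f⁻¹ ∈ A := conj_mem_of_le_normalizer hFA hf hz
          have hmem : z⁻¹ * (f * z * f⁻¹) ∈ A := A.mul_mem (A.inv_mem hz) hzf
          refine ⟨hmem.1, ?_⟩
          let Q' : Submodule E V := LinearMap.ker (π (z⁻¹ * (f * z * f⁻¹)) - LinearMap.id)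
          have hQ' : ∀ v, v ∈ Q' ↔ π (z⁻¹ * (f * z * f⁻¹)) v = v := by
            intro v
            rw [LinearMap.mem_ker, LinearMap.sub_apply, LinearMap.id_apply, sub_eq_zero]
          have hle : W ≤ Q' := by
            apply le_of_wt_le hAE hAW hAcomm
            intro m u hu
            rw [hQ']
            have h1 : π f⁻¹ u ∈ wt π A W (cj f⁻¹ m) :=
              apply_mem_wt (hFA (F.inv_mem hf)) (hFW _ (F.inv_mem hf)) hu
            have h2 : π (f * z * f⁻¹) u =
                (∏ g : F, m ((g : G) * a * (g : G)⁻¹)) • u := by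
              rw [mul_apply', mul_apply', hz' _ _ h1, map_smul, apply_inv]
              congr 1
              refine Fintype.prod_bijective (fun g => ⟨f, hf⟩ * g) (Group.mulLeft_bijective _) _ _
                fun g => ?_
              simp only [cj, inv_inv, Subgroup.coe_mul, mul_inv_rev]
              congr 1
              group
            rw [mul_apply', h2, map_smul, ← hz' m _ (by
              exact apply_mem_wt_of_comm (fun w hw => hAW _ (A.inv_mem hz) w hw)
                (hcomm _ (hAP (A.inv_mem hz))) hu), apply_inv]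
          intro w hw
          exact (hQ' w).mp (hle hw))
      have h1 : ∀ w ∈ W, π (z * d) w = w := by
        apply hCP _ (P.mul_mem hz.1 hd.1)
        intro f hf
        exact hd' f hf
      have h2 : π z v = v := by
        have h3 := h1 v hv.1
        rwa [mul_apply', hd.2 v hv.1] at h3
      rw [hz' l v hv] at h2
      have h3 : ∏ f : F, l ((f : G) * a * (f : G)⁻¹) = l a ^ Nat.card F := by
        rw [Finset.prod_congr rfl (g := fun _ => l a) ?_, Finset.prod_const, Finset.card_univ,
          Nat.card_eq_fintype_card]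
        intro f _
        have h4 := (hFst (F.inv_mem f.2)).2 a ha
        simp only [cj, inv_inv] at h4
        exact h4
      rw [h3] at h2
      have h4 : l a ^ Nat.card F = 1 := by
        have h5 : (l a ^ Nat.card F - 1) • v = 0 := by rw [sub_smul, h2, one_smul, sub_self]
        exact sub_eq_zero.mp ((smul_eq_zero.mp h5).resolve_right hv0)
      have h6 : l a ^ Nat.card P = 1 := by
        have h7 : ∀ k : ℕ, π (a ^ k) v = l a ^ k • v := by
          intro k
          induction k with
          | zero => simp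
          | succ k ihk => rw [pow_succ', mul_apply', ihk, map_smul, hv.2 a ha, smul_smul, pow_succ]
        have h8 := h7 (Nat.card P)
        have h9 : a ^ Nat.card P = 1 := by
          have h10 : (⟨a, ha.1⟩ : P) ^ Nat.card P = 1 := pow_card_eq_one'
          exact congrArg Subtype.val h10
        rw [h9, map_one, Module.End.one_apply] at h8
        have h5 : (l a ^ Nat.card P - 1) • v = 0 := by rw [sub_smul, ← h8, one_smul, sub_self]
        exact sub_eq_zero.mp ((smul_eq_zero.mp h5).resolve_right hv0)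
      have hcop : (Nat.card F).Coprime (Nat.card P) := by
        rw [hks, hkp]
        exact Nat.Coprime.pow _ _ ((Nat.coprime_primes hs.out hp.out).mpr hps.symm)
      have h7 := Nat.dvd_gcd (orderOf_dvd_of_pow_eq_one h4) (orderOf_dvd_of_pow_eq_one h6)
      rw [hcop] at h7
      exact orderOf_eq_one_iff.mp (Nat.dvd_one.mp h7)
    by_cases hWwt : W ≤ wt π A W l
    · -- `A` is trivial on `W`
      refine trivial_of_center π W hP hPW ?_ x hxP v hv.1
      intro a ha hac w hw
      have haA : a ∈ A := ⟨ha, hac⟩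
      rw [(hWwt hw).2 a haA, hl1 a haA, one_smul]
    · have hlt : wt π A W l < W := lt_of_le_of_ne (wt_le π A W l) (fun h => hWwt h.ge)
      have hfr : finrank E (wt π A W l) < finrank E W := Submodule.finrank_lt_finrank_of_lt hlt
      exact ih P F (wt π A W l) (by omega) hP hF (hPwt l) hFwt hRwt hRP hRF hFP hCR
        (fun y hy hyF w hw => hCP y hy hyF w hw.1) (fun w hw => hCW w hw.1) x hxP hxR
        (fun w hw => hxC w hw.1) v hv
  · -- a proper stabiliser containing `C_F(R)`
    have hF₁lt : F₁ < F := lt_of_le_of_ne hF₁F (fun h => hF₁eq h.ge)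
    have hcard : Nat.card F₁ < Nat.card F := by
      exact Set.Finite.card_lt_card (Set.toFinite _) hF₁lt
    have hfr : finrank E (wt π A W l) ≤ finrank E W := Submodule.finrank_mono (wt_le π A W l)
    -- the other weights of the orbit are not fixed by `R`
    have hnf : ∀ f ∈ F, f ∉ stab A l → ¬ ∀ r ∈ R, Same A (cj r (cj f l)) (cj f l) := by
      intro f hf hfl hcon
      have hRr : IsPGroup (Nat.card R) R := IsPGroup.of_card (n := 1) (by rw [pow_one])
      have hRfact : Fact (Nat.card R).Prime := ⟨hR⟩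
      obtain ⟨d, hd, hd'⟩ := SignalizersComponents.CoprimeBasic.exists_fixed_in_coset R hRr F₁
        (hRFc F₁ hF₁F) (fun r hr d hd => conj_mem_of_le_normalizer hRF₁ hr hd) f (by
          intro r hr
          have h1 : f⁻¹ * (r * f * r⁻¹) ∈ F :=
            F.mul_mem (F.inv_mem hf) (conj_mem_of_le_normalizer hRF hr hf)
          refine ⟨h1, ?_⟩
          have h2 : f⁻¹ * r * f ∈ stab A l := by
            refine ⟨Subgroup.mul_mem _ (Subgroup.mul_mem _ (hFA (F.inv_mem hf)) (hRA hr))
              (hFA hf), ?_⟩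
            rw [cj_mul, cj_mul]
            have h3 := (hcon r hr).cj (hFA (F.inv_mem hf))
            rw [← cj_mul f⁻¹ f, inv_mul_cancel, cj_one] at h3
            exact h3
          have h3 : f⁻¹ * (r * f * r⁻¹) = (f⁻¹ * r * f) * r⁻¹ := by group
          rw [h3]
          exact (stab A l).mul_mem h2 ((stab A l).inv_mem (hRst hr)))
      have h1 : f * d ∈ F ⊓ Subgroup.centralizer (R : Set G) :=
        ⟨F.mul_mem hf hd.1, Subgroup.mem_centralizer_iff.mpr fun r hr => hd' r hr⟩
      have h2 := (hC1 h1).2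
      apply hfl
      have h3 := (stab A l).mul_mem h2 ((stab A l).inv_mem hd.2)
      rwa [mul_inv_cancel_right] at h3
    -- the subgroup trivial on the other weight spaces
    let S : Set V := {u | ∃ f ∈ F, f ∉ stab A l ∧ u ∈ wt π A W (cj f l)}
    let P₁ : Subgroup G := fixer π P S
    have hP₁P : P₁ ≤ P := fun y hy => hy.1
    have hxP₁ : x ∈ P₁ := by
      refine ⟨hxP, ?_⟩
      rintro u ⟨f, hf, hfl, hu⟩
      exact trivial_of_not_fixed π W hRW hRA hR (hPW x hxP) (hcomm x hxP) hxR hxC _
        (hnf f hf hfl) u hu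
    have hnorm : ∀ g ∈ stab A l, g ∈ Subgroup.normalizer (P : Set G) →
        g ∈ Subgroup.normalizer (F : Set G) → (∀ w ∈ W, π g⁻¹ w ∈ W) →
        ∀ y ∈ P₁, g * y * g⁻¹ ∈ P₁ := by
      intro g hg hgP hgF hgW y hy
      refine ⟨(Subgroup.mem_normalizer_iff.mp hgP y).mp hy.1, ?_⟩
      rintro u ⟨f, hf, hfl, hu⟩
      have hgi : g⁻¹ ∈ stab A l := (stab A l).inv_mem hg
      have h1 : π g⁻¹ u ∈ wt π A W (cj g⁻¹ (cj f l)) := apply_mem_wt hgi.1 hgW hu
      have h2 : cj g⁻¹ (cj f l) = cj (g⁻¹ * f * g) (cj g⁻¹ l) := by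
        rw [← cj_mul, ← cj_mul]
        congr 1
        group
      have hf' : g⁻¹ * f * g ∈ F := conj_mem_of_normalizer hgF hf
      rw [h2, wt_congr π W (hgi.2.cj (hFA hf'))] at h1
      have h3 : g⁻¹ * f * g ∉ stab A l := by
        intro h
        apply hfl
        have h4 := (stab A l).mul_mem ((stab A l).mul_mem hg h) hgi
        have h5 : g * (g⁻¹ * f * g) * g⁻¹ = f := by group
        rwa [h5] at h4
      have h4 := hy.2 _ ⟨_, hf', h3, h1⟩
      rw [mul_apply', mul_apply', h4, apply_inv]
    have hRP₁ : R ≤ Subgroup.normalizer (P₁ : Set G) :=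
      le_normalizer_of_conj fun r hr y hy => hnorm r (hRst hr) (hRP hr) (hRF hr)
        (hRW _ (R.inv_mem hr)) y hy
    have hF₁P₁ : F₁ ≤ Subgroup.normalizer (P₁ : Set G) :=
      le_normalizer_of_conj fun f hf y hy => hnorm f hf.2 (hFP hf.1)
        (Subgroup.le_normalizer hf.1) (hFW _ (F.inv_mem hf.1)) y hy
    have hCR₁ : Nat.card ↥(F₁ ⊓ Subgroup.centralizer (R : Set G)) ∣ s :=
      (Subgroup.card_dvd_of_le (inf_le_inf_right _ hF₁F)).trans hCR
    -- `C_{P₁}(F₁)` is trivial on the weight space
    have hCP₁ : ∀ y ∈ P₁, (∀ f ∈ F₁, f * y = y * f) → ∀ w ∈ wt π A W l, π y w = w := by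
      intro y hy hyF w hw
      obtain ⟨z, hz, hz'⟩ := exists_prod_conj π W hPW hFW hFP l hy.1
        (fun f hf hfl u hu => hy.2 u ⟨f, hf, hfl, hu⟩) (fun f hf hfl => hyF f ⟨hf, hfl⟩)
      set m := Nat.card ↥(F ⊓ stab (cen π W P hPW) l) with hm
      let S' : Set V := {u | ∃ f ∈ F, u ∈ wt π A W (cj f l)}
      let K : Subgroup G := fixer π P S'
      have hKP : K ≤ P := fun y hy => hy.1
      have htr : ∀ g ∈ F, ∀ f ∈ F, ∀ u ∈ wt π A W (cj f l),
          π g⁻¹ u ∈ wt π A W (cj (g⁻¹ * f) l) := by
        intro g hg f hf u hu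
        rw [cj_mul]
        exact apply_mem_wt (hFA (F.inv_mem hg)) (hFW _ (F.inv_mem hg)) hu
      obtain ⟨d, hd, hd'⟩ := SignalizersComponents.CoprimeBasic.exists_fixed_in_coset F hF K
        (hsP K hKP) (by
          intro g hg d hd
          refine ⟨conj_mem_of_le_normalizer hFP hg hd.1, ?_⟩
          rintro u ⟨f, hf, hu⟩
          have h1 := hd.2 _ ⟨g⁻¹ * f, F.mul_mem (F.inv_mem hg) hf, htr g hg f hf u hu⟩
          rw [mul_apply', mul_apply', h1, apply_inv]) z (by
          intro g hg
          refine ⟨P.mul_mem (P.inv_mem hz) (conj_mem_of_le_normalizer hFP hg hz), ?_⟩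
          rintro u ⟨f, hf, hu⟩
          have h1 := hz' _ (F.mul_mem (F.inv_mem hg) hf) _ (htr g hg f hf u hu)
          have h2 : π (g * z * g⁻¹) u = π z u := by
            rw [mul_apply', mul_apply', h1, hz' f hf u hu, ← mul_apply', ← mul_apply']
            congr 2
            have h3 : (g⁻¹ * f * y * (g⁻¹ * f)⁻¹) = g⁻¹ * (f * y * f⁻¹) * g⁻¹⁻¹ := by group
            rw [h3, conj_pow]
            group
          rw [mul_apply', h2, inv_apply])
      have h1 : ∀ w ∈ W, π (z * d) w = w := by
        apply hCP _ (P.mul_mem hz hd.1)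
        intro f hf
        exact hd' f hf
      have hw1 : w ∈ wt π A W (cj 1 l) := by rwa [cj_one]
      have h2 : π z w = w := by
        have h3 := h1 w hw.1
        rwa [mul_apply', hd.2 w ⟨1, F.one_mem, hw1⟩] at h3
      rw [hz' 1 F.one_mem w hw1, one_mul, inv_one, mul_one] at h2
      have hcop : m.Coprime (orderOf y) := by
        obtain ⟨k, hk⟩ := (hF.to_le hF₁F).exists_card_eq
        obtain ⟨j, hj⟩ := hP ⟨y, hy.1⟩
        have hj' : y ^ p ^ j = 1 := congrArg Subtype.val hj
        have h3 : m = s ^ k := hk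
        rw [h3]
        apply Nat.Coprime.coprime_dvd_right (orderOf_dvd_of_pow_eq_one hj')
        exact Nat.Coprime.pow _ _ ((Nat.coprime_primes hs.out hp.out).mpr hps.symm)
      obtain ⟨j, hj⟩ := exists_pow_eq_self_of_coprime hcop
      have h3 : ∀ i : ℕ, π ((y ^ m) ^ i) w = w := by
        intro i
        induction i with
        | zero => simp
        | succ i ihi => rw [pow_succ', mul_apply', ihi, h2]
      rw [← hj]
      exact h3 j
    exact ih P₁ F₁ (wt π A W l) (by omega) (hP.to_le hP₁P) (hF.to_le hF₁F)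
      ((hPwt l).mono hP₁P) hF₁wt hRwt hRP₁ hRF₁ hF₁P₁ hCR₁ hCP₁ hfix₁ x hxP₁ hxR
      (fun w hw => hxC w hw.1) v hv

end Cfsg.Agent.H575.ModM
end

-- part: H575/GroupM
section
/-!
# The module lemma over arbitrary fields and for elementary abelian groups

`rep_main`: the main lemma of `ModMain` over an arbitrary field of characteristic prime to
everything; `group_lemma`: the version for an elementary abelian normal subgroup.
-/

set_option autoImplicit false
set_option linter.unusedSectionVars false

namespace Cfsg.Agent.H575.GroupM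

open Module TensorProduct Cfsg.Agent.H575.Dim Cfsg.Agent.H575.Weights Cfsg.Agent.H575.ModM

section Rep

variable {k : Type*} [Field k] {G V : Type*} [Group G] [Finite G]
  [AddCommGroup V] [Module k V] [FiniteDimensional k V]

theorem rep_main {p s : ℕ} [hp : Fact p.Prime] [hs : Fact s.Prime] (hps : p ≠ s)
    (ρ : Representation k G V) {P F R : Subgroup G} (hR : (Nat.card R).Prime)
    (hRp : Nat.card R ≠ p) (hRs : Nat.card R ≠ s) (hpk : (p : k) ≠ 0) (hsk : (s : k) ≠ 0)
    (hRk : (Nat.card R : k) ≠ 0)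
    (hP : IsPGroup p P) (hF : IsPGroup s F)
    (hRP : R ≤ Subgroup.normalizer (P : Set G)) (hRF : R ≤ Subgroup.normalizer (F : Set G))
    (hFP : F ≤ Subgroup.normalizer (P : Set G))
    (hCR : Nat.card ↥(F ⊓ Subgroup.centralizer (R : Set G)) ∣ s)
    (hCP : ∀ y ∈ P, (∀ f ∈ F, f * y = y * f) → ∀ v, ρ y v = v)
    (hCV : ∀ v, (∀ f ∈ F, ρ f v = v) → v = 0) {x : G} (hx : x ∈ P)
    (hxR : x ∈ Subgroup.centralizer (R : Set G))
    (hxC : ∀ v, (∀ r ∈ R, ρ r v = v) → ρ x v = v) : ∀ v, ρ x v = v := by
  classical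
  let E := AlgebraicClosure k
  let W := TensorProduct k E V
  have hcast : ∀ n : ℕ, (n : k) ≠ 0 → (n : E) ≠ 0 := by
    intro n hn h0
    apply hn
    have : algebraMap k E (n : k) = 0 := by
      rw [map_natCast]
      exact h0
    exact (map_eq_zero _).mp this
  let π : Representation E G W :=
    { toFun := fun g => (ρ g).baseChange E
      map_one' := by
        rw [map_one]
        exact LinearMap.baseChange_id
      map_mul' := by
        intro a b
        rw [map_mul]
        exact LinearMap.baseChange_comp _ _ }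
  have hπ : ∀ g, π g = (ρ g).baseChange E := fun g => rfl
  have hsumE : ∀ (H : Subgroup G) [Fintype H] (w : W), ∑ h : H, π h w =
      (∑ h : H, ρ h).baseChange E w := by
    intro H _ w
    have : ∑ h : H, π h = (∑ h : H, ρ h).baseChange E := by
      simp only [hπ]
      exact (map_sum (LinearMap.baseChangeHom k E V V) _ _).symm
    rw [← this, LinearMap.sum_apply]
  have hsumfix : ∀ (H : Subgroup G) [Fintype H] (v : V), ∀ g ∈ H,
      ρ g ((∑ h : H, ρ h) v) = (∑ h : H, ρ h) v := by
    intro H _ v g hg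
    rw [LinearMap.sum_apply, map_sum]
    refine Fintype.sum_bijective (fun y => ⟨g, hg⟩ * y) (Group.mulLeft_bijective _) _ _ fun y => ?_
    rw [← mul_apply']
    rfl
  have hfixsum : ∀ (H : Subgroup G) [Fintype H] (w : W), (∀ h ∈ H, π h w = w) →
      ∑ h : H, π h w = (Nat.card H : E) • w := by
    intro H _ w hw
    rw [Nat.card_eq_fintype_card, Nat.cast_smul_eq_nsmul, ← Finset.card_univ, ← Finset.sum_const]
    exact Finset.sum_congr rfl fun h _ => hw h h.2
  obtain ⟨ks, hks⟩ := hF.exists_card_eq
  have hFE : (Nat.card F : E) ≠ 0 := by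
    rw [hks, Nat.cast_pow]; exact pow_ne_zero _ (hcast s hsk)
  have : Fintype F := Fintype.ofFinite F
  have : Fintype R := Fintype.ofFinite R
  have hmain := main_aux (E := E) hps π hR hRp hRs (hcast p hpk) (hcast s hsk) _ P F ⊤ le_rfl hP hF
    (fun _ _ _ _ => Submodule.mem_top) (fun _ _ _ _ => Submodule.mem_top)
    (fun _ _ _ _ => Submodule.mem_top) hRP hRF hFP hCR
    (by
      intro y hy hyF w _
      have h1 : ρ y = LinearMap.id := LinearMap.ext fun v => hCP y hy hyF v
      rw [hπ, h1, LinearMap.baseChange_id, LinearMap.id_apply])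
    (by
      intro w _ hw
      have h1 := hfixsum F w hw
      have h2 : (∑ h : F, ρ h) = 0 := by
        apply LinearMap.ext
        intro v
        rw [LinearMap.zero_apply]
        apply hCV
        exact hsumfix F v
      rw [hsumE F w, h2, LinearMap.baseChange_zero, LinearMap.zero_apply] at h1
      exact (smul_eq_zero.mp h1.symm).resolve_left hFE) x hx hxR
    (by
      intro w _ hw
      have h1 := hfixsum R w hw
      have h2 : (ρ x) ∘ₗ (∑ h : R, ρ h) = ∑ h : R, ρ h := by
        apply LinearMap.ext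
        intro v
        rw [LinearMap.comp_apply]
        exact hxC _ (hsumfix R v)
      have h3 : π x (∑ h : R, π h w) = ∑ h : R, π h w := by
        rw [hsumE R w, hπ, ← LinearMap.comp_apply, ← LinearMap.baseChange_comp, h2]
      rw [h1, map_smul] at h3
      have h4 := congrArg (fun u => (Nat.card R : E)⁻¹ • u) h3
      simp only [smul_smul] at h4
      rwa [inv_mul_cancel₀ (hcast _ hRk), one_smul, one_smul] at h4)
  intro v
  have h1 := hmain (1 ⊗ₜ[k] v) Submodule.mem_top
  rw [hπ, LinearMap.baseChange_tmul] at h1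
  have hinj : Function.Injective (fun v : V => (1 : E) ⊗ₜ[k] v) :=
    Module.FaithfullyFlat.tensorProduct_mk_injective (A := k) (B := E) V
  exact hinj h1

end Rep

/-- **Group version.** -/
theorem group_lemma {G : Type*} [Group G] [Finite G] {p q s : ℕ} [hp : Fact p.Prime]
    [hq : Fact q.Prime] [hs : Fact s.Prime] (hpq : p ≠ q) (hps : p ≠ s) (hsq : s ≠ q)
    {P F R N : Subgroup G} [N.Normal] (hNc : ∀ x ∈ N, ∀ y ∈ N, x * y = y * x)
    (hNq : ∀ x ∈ N, x ^ q = 1) (hP : IsPGroup p P) (hF : IsPGroup s F) (hR : (Nat.card R).Prime)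
    (hRp : Nat.card R ≠ p) (hRs : Nat.card R ≠ s) (hRq : Nat.card R ≠ q)
    (hRP : R ≤ Subgroup.normalizer (P : Set G)) (hRF : R ≤ Subgroup.normalizer (F : Set G))
    (hFP : F ≤ Subgroup.normalizer (P : Set G))
    (hCR : Nat.card ↥(F ⊓ Subgroup.centralizer (R : Set G)) ∣ s)
    (hCP : P ⊓ Subgroup.centralizer (F : Set G) = ⊥)
    (hCN : N ⊓ Subgroup.centralizer (F : Set G) = ⊥) {x : G} (hx : x ∈ P)
    (hxR : x ∈ Subgroup.centralizer (R : Set G))
    (hxC : ∀ v ∈ N, v ∈ Subgroup.centralizer (R : Set G) → x * v = v * x) :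
    ∀ v ∈ N, x * v = v * x := by
  let instN : CommGroup N := { (inferInstance : Group N) with
    mul_comm := fun x y => Subtype.ext (hNc x x.2 y y.2) }
  have instM : Module (ZMod q) (Additive N) := AddCommGroup.zmodModule (n := q) (by
    intro x
    exact congrArg Additive.ofMul (Subtype.ext (hNq _ x.toMul.2) : x.toMul ^ q = 1))
  have hfin : FiniteDimensional (ZMod q) (Additive N) := inferInstance
  let ρ : Representation (ZMod q) G (Additive N) :=
    OddOrderLocal.FrobAct.toRep q (MulAut.conjNormal : G →* MulAut N)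
  have hρ : ∀ (g : G) (v : Additive N), (((ρ g v).toMul : N) : G) = g * (v.toMul : N) * g⁻¹ :=
    fun g v => rfl
  have hcast : ∀ n : ℕ, n.Prime → n ≠ q → (n : ZMod q) ≠ 0 := by
    intro n hn hnq h0
    rw [ZMod.natCast_eq_zero_iff] at h0
    exact hnq ((Nat.prime_dvd_prime_iff_eq hq.out hn).mp h0).symm
  have hfixiff : ∀ (g : G) (v : Additive N), ρ g v = v ↔
      g * ((v.toMul : N) : G) = ((v.toMul : N) : G) * g := by
    intro g v
    rw [← mul_inv_eq_iff_eq_mul, ← hρ]
    constructor
    · intro h
      rw [h]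
    · intro h
      exact Additive.toMul.injective (Subtype.ext h)
  have hmain := rep_main hps ρ hR hRp hRs (hcast p hp.out hpq) (hcast s hs.out hsq)
    (hcast _ hR hRq) hP hF hRP hRF hFP hCR
    (by
      intro y hy hyF v
      have h1 : y ∈ P ⊓ Subgroup.centralizer (F : Set G) :=
        ⟨hy, Subgroup.mem_centralizer_iff.mpr fun f hf => hyF f hf⟩
      rw [hCP, Subgroup.mem_bot] at h1
      rw [h1, map_one]
      rfl)
    (by
      intro v hv
      have h1 : ((v.toMul : N) : G) ∈ N ⊓ Subgroup.centralizer (F : Set G) :=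
        ⟨v.toMul.2, Subgroup.mem_centralizer_iff.mpr fun f hf => (hfixiff f v).mp (hv f hf)⟩
      rw [hCN, Subgroup.mem_bot] at h1
      exact Additive.toMul.injective (Subtype.ext h1)) hx hxR
    (by
      intro v hv
      rw [hfixiff]
      refine hxC _ v.toMul.2 (Subgroup.mem_centralizer_iff.mpr fun r hr => ?_)
      exact (hfixiff r v).mp (hv r hr))
  intro v hv
  exact (hfixiff x (Additive.ofMul ⟨v, hv⟩)).mp (hmain _)

end Cfsg.Agent.H575.GroupM
end
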