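import Cfsg.Agent.H575.Dim
import Cfsg.Agent.Blocks.ModularTraces
import Cfsg.Agent.H575.GroupM
import Mathlib.GroupTheory.Nilpotent
import Mathlib.GroupTheory.QuotientGroup.Basic
import Mathlib.Tactic
set_option linter.all false

-- part: H575/ExtraMod
section
/-!
# An element of prime order acting together with an extraspecial group on a module

Lemmas on modules over an algebraically closed field.
-/

set_option autoImplicit false
set_option linter.unusedSectionVars false

namespace Cfsg.Agent.H575.ExtraMod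

open Module Cfsg.Agent.H575.Dim

section Clifford

variable {E : Type*} [Field E] [IsAlgClosed E] {H V : Type*} [Group H] [Finite H]
  [AddCommGroup V] [Module E V] [FiniteDimensional E V]

/-- If the restriction to a normal subgroup of prime index is reducible, then a complement has
nonzero fixed points. -/
theorem exists_fixed_of_not_irr (hH : (Nat.card H : E) ≠ 0) (ρ : Representation E H V)
    (hρ : Irr ρ) (N R : Subgroup H) [hNn : N.Normal] (hN : N.index.Prime)
    (hR : Nat.card R = N.index) (hNR : N ⊔ R = ⊤) (hirr : ¬ Irr (ρ.comp N.subtype)) :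
    ∃ v : V, v ≠ 0 ∧ ∀ g ∈ R, ρ g v = v := by
  classical
  have : Fintype R := Fintype.ofFinite R
  obtain ⟨W, hW, hWirr, hfin⟩ := (step hH ρ hρ N hN).resolve_left hirr
  let Φ : (R → W) →ₗ[E] V :=
    { toFun := fun w => ∑ g : R, ρ g (w g)
      map_add' := by
        intro a b
        simp [Finset.sum_add_distrib]
      map_smul' := by
        intro c a
        simp [Finset.smul_sum] }
  have hΦ : ∀ w, Φ w = ∑ g : R, ρ g (w g) := fun w => rfl
  have hΦR : ∀ (h : R) (w : R → W), ρ h (Φ w) = Φ fun g => w (h⁻¹ * g) := by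
    intro h w
    rw [hΦ, hΦ, map_sum]
    refine Fintype.sum_bijective (fun y => h * y) (Group.mulLeft_bijective h) _ _ fun y => ?_
    rw [inv_mul_cancel_left, Subgroup.coe_mul, mul_apply']
  have hΦN : ∀ n ∈ N, ∀ w : R → W, ρ n (Φ w) ∈ LinearMap.range Φ := by
    intro n hn w
    refine ⟨fun g => ⟨ρ ((g : H)⁻¹ * n * g) (w g), hW ⟨_, by
      have := hNn.conj_mem n hn (g : H)⁻¹
      rwa [inv_inv] at this⟩ _ (w g).2⟩, ?_⟩
    rw [hΦ, hΦ, map_sum]
    refine Finset.sum_congr rfl fun g _ => ?_
    show ρ g (ρ ((g : H)⁻¹ * n * g) (w g)) = ρ n (ρ g (w g))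
    rw [← mul_apply', ← mul_apply']
    congr 2
    group
  have hinv : ∀ h : H, ∀ v ∈ LinearMap.range Φ, ρ h v ∈ LinearMap.range Φ := by
    intro h
    have h1 : h ∈ N ⊔ R := by rw [hNR]; exact Subgroup.mem_top h
    let K : Subgroup H :=
      { carrier := {h | ∀ v ∈ LinearMap.range Φ, ρ h v ∈ LinearMap.range Φ}
        one_mem' := fun v hv => by rw [map_one]; exact hv
        mul_mem' := fun {a b} ha hb v hv => by
          rw [mul_apply']
          exact ha _ (hb _ hv)
        inv_mem' := by
          intro a ha v hv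
          have h2 : ∀ (n : ℕ), ∀ v ∈ LinearMap.range Φ, ρ (a ^ n) v ∈ LinearMap.range Φ := by
            intro n
            induction n with
            | zero => intro v hv; rw [pow_zero, map_one]; exact hv
            | succ n ih =>
              intro v hv
              rw [pow_succ', mul_apply']
              exact ha _ (ih v hv)
          have h3 : a⁻¹ = a ^ (orderOf a - 1) := by
            rw [inv_eq_of_mul_eq_one_right]
            rw [← pow_succ', Nat.sub_add_cancel (orderOf_pos a), pow_orderOf_eq_one]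
          rw [h3]
          exact h2 _ v hv }
    have hK : N ⊔ R ≤ K := by
      refine sup_le ?_ ?_
      · rintro n hn _ ⟨w, rfl⟩
        exact hΦN n hn w
      · rintro h hh _ ⟨w, rfl⟩
        exact ⟨_, (hΦR ⟨h, hh⟩ w).symm⟩
    exact hK h1
  have hWnt := hWirr.1
  obtain ⟨w0, hw0⟩ := exists_ne (0 : W)
  have hrange : LinearMap.range Φ = ⊤ := by
    rcases hρ.2 _ hinv with h | h
    · exfalso
      have h1 : Φ (Pi.single 1 w0) = w0 := by
        rw [hΦ, Finset.sum_eq_single 1]
        · rw [Pi.single_eq_same, Subgroup.coe_one, map_one]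
          rfl
        · intro b _ hb
          rw [Pi.single_eq_of_ne hb]
          simp
        · intro h
          exact absurd (Finset.mem_univ _) h
      have h2 : (w0 : V) ∈ LinearMap.range Φ := ⟨_, h1⟩
      rw [h, Submodule.mem_bot] at h2
      exact hw0 (Subtype.ext h2)
    · exact h
  have hsurj : Function.Surjective Φ := LinearMap.range_eq_top.mp hrange
  have hfr : finrank E (R → W) = finrank E V := by
    rw [Module.finrank_pi_fintype, Finset.sum_const, Finset.card_univ, smul_eq_mul, hfin, ← hR,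
      Nat.card_eq_fintype_card]
  have hinj : Function.Injective Φ := (LinearMap.injective_iff_surjective_of_finrank_eq_finrank hfr).mpr hsurj
  refine ⟨Φ fun _ => w0, ?_, ?_⟩
  · intro h
    have h1 := hinj (h.trans (map_zero Φ).symm)
    exact hw0 (congrFun h1 1)
  · intro g hg
    exact hΦR ⟨g, hg⟩ _

end Clifford

section Commutant

variable {E : Type*} [Field E] [IsAlgClosed E] {V : Type*}
  [AddCommGroup V] [Module E V] [FiniteDimensional E V]

/-- An operator of finite order `r` without nonzero fixed points has a large commutant. -/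
theorem sq_le_commutant (T : Module.End E V) {r : ℕ} (hr : (r : E) ≠ 0) (hT : T ^ r = 1)
    (h1 : ∀ v, T v = v → v = 0) (C : Submodule E (Module.End E V))
    (hC : ∀ S : Module.End E V, S * T = T * S → S ∈ C) :
    finrank E V ^ 2 ≤ (r - 1) * finrank E C := by
  classical
  have hr0 : 0 < r := Nat.pos_of_ne_zero (by rintro rfl; exact hr Nat.cast_zero)
  have hss : T.IsSemisimple := by
    apply Module.End.isSemisimple_of_squarefree_aeval_eq_zero (p := Polynomial.X ^ r - 1)
    · exact (Polynomial.X_pow_sub_one_separable_iff.mpr hr).squarefree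
    · rw [map_sub, map_pow, Polynomial.aeval_X, map_one, sub_eq_zero, hT]
  have htop : ⨆ μ : E, T.eigenspace μ = ⊤ := by
    rw [← Module.End.iSup_maxGenEigenspace_eq_top T]
    exact iSup_congr fun μ => (hss.isFinitelySemisimple.maxGenEigenspace_eq_eigenspace μ).symm
  let S : Finset E := (Polynomial.nthRootsFinset r (1 : E)).erase 1
  have hS : S.card ≤ r - 1 := by
    rw [Finset.card_erase_of_mem ((Polynomial.mem_nthRootsFinset hr0 1).mpr (one_pow r))]
    refine Nat.sub_le_sub_right ?_ 1
    rw [Polynomial.nthRootsFinset_def]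
    exact (Multiset.toFinset_card_le _).trans (Polynomial.card_nthRoots r 1)
  have hpow : ∀ (μ : E) (v : V), T v = μ • v → ∀ n : ℕ, (T ^ n) v = μ ^ n • v := by
    intro μ v hv n
    induction n with
    | zero => simp
    | succ n ih => rw [pow_succ', Module.End.mul_apply, ih, map_smul, hv, smul_smul, pow_succ]
  have hbot : ∀ μ : E, μ ∉ S → T.eigenspace μ = ⊥ := by
    intro μ hμ
    rw [eq_bot_iff]
    intro v hv
    rw [Module.End.mem_eigenspace_iff] at hv
    rw [Submodule.mem_bot]
    by_contra hv0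
    apply hμ
    rw [Finset.mem_erase, Polynomial.mem_nthRootsFinset hr0]
    constructor
    · rintro rfl
      rw [one_smul] at hv
      exact hv0 (h1 v hv)
    · have h2 := hpow μ v hv r
      rw [hT, Module.End.one_apply] at h2
      have h3 : (μ ^ r - 1) • v = 0 := by rw [sub_smul, one_smul, ← h2, sub_self]
      exact sub_eq_zero.mp ((smul_eq_zero.mp h3).resolve_right hv0)
  have htop' : ⨆ μ : S, T.eigenspace (μ : E) = ⊤ := by
    rw [eq_top_iff, ← htop]
    refine iSup_le fun μ => ?_
    by_cases h : μ ∈ S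
    · exact le_iSup (fun μ : S => T.eigenspace (μ : E)) ⟨μ, h⟩
    · rw [hbot μ h]; exact bot_le
  have hind : iSupIndep fun μ : S => T.eigenspace (μ : E) :=
    (T.eigenspaces_iSupIndep).comp Subtype.val_injective
  have hint := DirectSum.isInternal_submodule_of_iSupIndep_of_iSup_eq_top hind htop'
  let Φ : (∀ μ : S, T.eigenspace (μ : E)) ≃ₗ[E] V :=
    (DirectSum.linearEquivFunOnFintype E S fun μ : S => T.eigenspace (μ : E)).symm ≪≫ₗ
      LinearEquiv.ofBijective (DirectSum.coeLinearMap fun μ : S => T.eigenspace (μ : E)) hint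
  have hΦs : ∀ (μ : S) (v : T.eigenspace (μ : E)), Φ (Pi.single μ v) = v := by
    intro μ v
    show (DirectSum.coeLinearMap fun μ : S => T.eigenspace (μ : E))
      ((DirectSum.linearEquivFunOnFintype E S fun μ : S => T.eigenspace (μ : E)).symm
        (Pi.single μ v)) = v
    rw [DirectSum.linearEquivFunOnFintype_symm_single, DirectSum.coeLinearMap_lof]
  have hTΦ : ∀ w : (∀ μ : S, T.eigenspace (μ : E)),
      T (Φ w) = Φ fun μ => (μ : E) • w μ := by
    intro w
    have h2 : w = ∑ μ : S, Pi.single μ (w μ) := (Finset.univ_sum_single w).symm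
    have h3 : (fun μ : S => (μ : E) • w μ) = ∑ μ : S, Pi.single μ ((μ : E) • w μ) :=
      (Finset.univ_sum_single _).symm
    rw [h3]
    conv_lhs => rw [h2]
    rw [map_sum, map_sum, map_sum]
    refine Finset.sum_congr rfl fun μ _ => ?_
    rw [hΦs, hΦs]
    exact Module.End.mem_eigenspace_iff.mp (w μ).2
  -- block diagonal operators
  let Ψ : (∀ μ : S, Module.End E (T.eigenspace (μ : E))) →ₗ[E] Module.End E V :=
    { toFun := fun φ => Φ.toLinearMap ∘ₗ (LinearMap.pi fun μ => φ μ ∘ₗ LinearMap.proj μ) ∘ₗ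
        Φ.symm.toLinearMap
      map_add' := by
        intro a b
        apply LinearMap.ext
        intro v
        show Φ _ = Φ _ + Φ _
        rw [← map_add]
        rfl
      map_smul' := by
        intro c a
        apply LinearMap.ext
        intro v
        show Φ _ = c • Φ _
        rw [← map_smul]
        rfl }
  have hΨ : ∀ φ w, Ψ φ (Φ w) = Φ fun μ => φ μ (w μ) := by
    intro φ w
    show Φ _ = _
    congr 1
    funext μ
    show φ μ (Φ.symm (Φ w) μ) = φ μ (w μ)
    rw [LinearEquiv.symm_apply_apply]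
  have hΨC : ∀ φ, Ψ φ ∈ C := by
    intro φ
    apply hC
    apply LinearMap.ext
    intro v
    obtain ⟨w, rfl⟩ := Φ.surjective v
    rw [Module.End.mul_apply, Module.End.mul_apply, hTΦ, hΨ, hΨ, hTΦ]
    congr 1
    funext μ
    rw [map_smul]
  have hΨinj : Function.Injective Ψ := by
    intro a b hab
    funext μ
    apply LinearMap.ext
    intro v
    have h2 : Ψ a (Φ (Pi.single μ v)) = Ψ b (Φ (Pi.single μ v)) := by rw [hab]
    rw [hΨ, hΨ] at h2
    have h3 := congrFun (Φ.injective h2) μ
    simpa using h3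
  have h2 : finrank E (∀ μ : S, Module.End E (T.eigenspace (μ : E))) ≤ finrank E C :=
    LinearMap.finrank_le_finrank_of_injective (f := Ψ.codRestrict C hΨC)
      (fun a b hab => hΨinj (congrArg Subtype.val hab))
  rw [Module.finrank_pi_fintype] at h2
  have h3 : finrank E V = ∑ μ : S, finrank E (T.eigenspace (μ : E)) := by
    rw [← Φ.finrank_eq, Module.finrank_pi_fintype]
  have h4 : ∑ μ : S, finrank E (Module.End E (T.eigenspace (μ : E))) =
      ∑ μ : S, finrank E (T.eigenspace (μ : E)) ^ 2 := by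
    refine Finset.sum_congr rfl fun μ _ => ?_
    rw [Module.finrank_linearMap, sq]
  rw [h4] at h2
  rw [h3]
  refine (sq_sum_le_card_mul_sum_sq).trans ?_
  refine Nat.mul_le_mul ?_ h2
  rw [Finset.card_univ, Fintype.card_coe]
  exact hS

end Commutant

end Cfsg.Agent.H575.ExtraMod
end

-- part: H575/ExtraIrr
section
/-!
# An extraspecial group acting irreducibly and an element of prime order without fixed points
-/

set_option autoImplicit false
set_option linter.unusedSectionVars false

namespace Cfsg.Agent.H575.ExtraIrr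

open Module Subgroup Cfsg.Agent.H575.Dim Cfsg.Agent.H575.ModM Cfsg.Agent.H575.ExtraMod
open scoped commutatorElement

/-- the group theoretic data -/
structure ED {G : Type*} [Group G] (F R : Subgroup G) (r s : ℕ) : Prop where
  hr : r.Prime
  hs : s.Prime
  hrs : r ≠ s
  hR : Nat.card R = r
  hF : IsPGroup s F
  hZ : Nat.card (center F) = s
  hab : ∀ x y : F, x * y * x⁻¹ * y⁻¹ ∈ center F
  hRF : R ≤ normalizer (F : Set G)
  hcomm : ⁅F, R⁆ = F
  hCF : F ⊓ centralizer (R : Set G) ≤ (center F).map F.subtype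

variable {E : Type*} [Field E] [IsAlgClosed E] {G V : Type*} [Group G] [Finite G]
  [AddCommGroup V] [Module E V] [FiniteDimensional E V]

/-- the action of `R` on `F` -/
def alpha {F R : Subgroup G} (hRF : R ≤ normalizer (F : Set G)) : R →* MulAut F where
  toFun a :=
    { toFun := fun f => ⟨a * f * (a : G)⁻¹, conj_mem_of_le_normalizer hRF a.2 f.2⟩
      invFun := fun f => ⟨(a : G)⁻¹ * f * a, by
        have := conj_mem_of_le_normalizer hRF (a⁻¹).2 f.2
        rwa [Subgroup.coe_inv, inv_inv] at this⟩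
      left_inv := fun f => Subtype.ext (by
        show (a : G)⁻¹ * (a * f * (a : G)⁻¹) * a = f
        group)
      right_inv := fun f => Subtype.ext (by
        show (a : G) * ((a : G)⁻¹ * f * a) * (a : G)⁻¹ = f
        group)
      map_mul' := fun f g => Subtype.ext (by
        show (a : G) * (f * g) * (a : G)⁻¹ = a * f * (a : G)⁻¹ * (a * g * (a : G)⁻¹)
        group) }
  map_one' := by
    ext f
    show ((1 : R) : G) * f * ((1 : R) : G)⁻¹ = f
    simp
  map_mul' := by
    intro a b
    ext f
    show ((a * b : R) : G) * f * ((a * b : R) : G)⁻¹ = a * (b * f * (b : G)⁻¹) * (a : G)⁻¹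
    rw [Subgroup.coe_mul]
    group

theorem alpha_coe {F R : Subgroup G} (hRF : R ≤ normalizer (F : Set G)) (a : R) (f : F) :
    ((alpha hRF a f : F) : G) = a * f * (a : G)⁻¹ := rfl

theorem map_mem_center {K : Type*} [Group K] (φ : MulAut K) {z : K} (hz : z ∈ center K) :
    φ z ∈ center K := by
  rw [Subgroup.mem_center_iff] at hz ⊢
  intro g
  obtain ⟨h, rfl⟩ := φ.surjective g
  rw [← map_mul, ← map_mul, hz]

/-- the data for an irreducible restriction -/
structure RD (ρ : Representation E G V) (F R : Subgroup G) (r s : ℕ) : Prop extends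
    ED F R r s where
  hrE : (r : E) ≠ 0
  hsE : (s : E) ≠ 0
  hirr : Irr (ρ.comp F.subtype)
  hCV : ∀ v, (∀ f ∈ F, ρ f v = v) → v = 0

theorem irr_isIrreducible {H : Type*} [Group H] {τ : Representation E H V} (h : Irr τ) :
    τ.IsIrreducible := by
  have hnt := h.1
  refine { exists_pair_ne := ⟨⊥, ⊤, fun hb => ?_⟩, eq_bot_or_eq_top := fun W => ?_ }
  · have h1 : (⊥ : Submodule E V) = ⊤ := congrArg Subrepresentation.toSubmodule hb
    exact bot_ne_top h1
  · rcases h.2 W.toSubmodule (fun g w hw => W.apply_mem_toSubmodule g hw) with h1 | h1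
    · exact Or.inl (Subrepresentation.toSubmodule_injective h1)
    · exact Or.inr (Subrepresentation.toSubmodule_injective h1)

variable {ρ : Representation E G V} {F R : Subgroup G} {r s : ℕ}

theorem RD.scalar (h : RD ρ F R r s) {z : F} (hz : z ∈ center F) :
    ∃ c : E, ∀ v, ρ (z : G) v = c • v := by
  refine h.hirr.scalar (ρ (z : G)) fun f v => ?_
  show ρ (z : G) (ρ (f : G) v) = ρ (f : G) (ρ (z : G) v)
  rw [← mul_apply', ← mul_apply']
  have := congrArg Subtype.val (Subgroup.mem_center_iff.mp hz f)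
  rw [Subgroup.coe_mul, Subgroup.coe_mul] at this
  rw [this]

theorem eq_one_of_all {g : G} (h : ∀ v, ρ g v = v) : ρ g = 1 := LinearMap.ext h

/-- some central element acts nontrivially -/
theorem RD.exists_center_ne (h : RD ρ F R r s) : ∃ z ∈ center F, ρ (z : G) ≠ 1 := by
  by_contra hcon
  push Not at hcon
  have hcom : ∀ f g : F, ∀ v, ρ (f : G) (ρ (g : G) v) = ρ (g : G) (ρ (f : G) v) := by
    intro f g v
    have h1 := hcon _ (h.hab f g)
    have h2 : (f : G) * g = ((f * g * f⁻¹ * g⁻¹ : F) : G) * (g * f) := by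
      simp only [Subgroup.coe_mul, Subgroup.coe_inv]
      group
    rw [← mul_apply', h2, mul_apply', h1, Module.End.one_apply, mul_apply']
  have hsc : ∀ f : F, ∃ c : E, ∀ v, ρ (f : G) v = c • v := by
    intro f
    exact h.hirr.scalar (ρ (f : G)) fun g v => hcom f g v
  have hle : ⁅F, R⁆ ≤ MonoidHom.ker ρ := by
    rw [Subgroup.commutator_le]
    intro f hf a _
    obtain ⟨c, hc⟩ := hsc ⟨f, hf⟩
    rw [MonoidHom.mem_ker]
    refine eq_one_of_all fun v => ?_
    rw [commutatorElement_def, mul_apply', mul_apply', mul_apply']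
    have hc' : ∀ v, ρ f v = c • v := hc
    have h1 : ρ f⁻¹ (ρ a⁻¹ v) = ρ a⁻¹ (ρ f⁻¹ v) := by
      have h2 : ∀ w, ρ a⁻¹ (ρ f w) = ρ f (ρ a⁻¹ w) := by
        intro w
        rw [hc', hc', map_smul]
      have h3 := h2 (ρ f⁻¹ v)
      rw [apply_inv] at h3
      rw [h3, inv_apply]
    rw [h1, apply_inv, apply_inv]
  have hnt := h.hirr.1
  obtain ⟨v, hv⟩ := exists_ne (0 : V)
  apply hv
  refine h.hCV v fun f hf => ?_
  rw [h.hcomm] at hle
  have h1 := hle hf
  rw [MonoidHom.mem_ker] at h1
  rw [h1, Module.End.one_apply]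

theorem RD.ne_one (h : RD ρ F R r s) {z : F} (hz : z ∈ center F) (hz1 : z ≠ 1) :
    ρ (z : G) ≠ 1 := by
  intro hcon
  have hp : Fact (Nat.card (center F)).Prime := ⟨h.hZ ▸ h.hs⟩
  obtain ⟨y, hy, hy1⟩ := h.exists_center_ne
  let K : Subgroup (center F) :=
    MonoidHom.ker ((ρ : G →* Module.End E V).comp (F.subtype.comp (center F).subtype))
  rcases K.eq_bot_or_eq_top_of_prime_card with hK | hK
  · have h1 : (⟨z, hz⟩ : center F) ∈ K := hcon
    rw [hK, Subgroup.mem_bot] at h1
    exact hz1 (congrArg Subtype.val h1)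
  · have h1 : (⟨y, hy⟩ : center F) ∈ K := by rw [hK]; exact Subgroup.mem_top _
    exact hy1 h1

theorem RD.eq_one (h : RD ρ F R r s) {z : F} (hz : z ∈ center F) (h1 : ρ (z : G) = 1) : z = 1 := by
  by_contra hz1
  exact h.ne_one hz hz1 h1

/-- `R` centralizes `Z(F)` -/
theorem RD.alpha_center (h : RD ρ F R r s) (a : R) {z : F} (hz : z ∈ center F) :
    alpha h.hRF a z = z := by
  have h1 : alpha h.hRF a z * z⁻¹ ∈ center F :=
    (center F).mul_mem (map_mem_center _ hz) ((center F).inv_mem hz)
  have h2 : ρ ((alpha h.hRF a z * z⁻¹ : F) : G) = 1 := by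
    obtain ⟨c, hc⟩ := h.scalar hz
    refine eq_one_of_all fun v => ?_
    rw [Subgroup.coe_mul, alpha_coe, Subgroup.coe_inv, mul_apply', mul_apply', mul_apply']
    have h3 : ρ (z : G) (ρ (a : G)⁻¹ (ρ (z : G)⁻¹ v)) = ρ (a : G)⁻¹ v := by
      rw [hc, ← map_smul, ← hc, apply_inv]
    rw [h3, apply_inv]
  exact mul_inv_eq_one.mp (h.eq_one h1 h2)

theorem RD.mem_center_of_fixed (h : RD ρ F R r s) {a : R} (ha : a ≠ 1) {f : F}
    (hf : f⁻¹ * alpha h.hRF a f ∈ center F) : f ∈ center F := by
  set z := f⁻¹ * alpha h.hRF a f with hz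
  have h1 : alpha h.hRF a f = f * z := by rw [hz]; group
  have h2 : ∀ n : ℕ, alpha h.hRF (a ^ n) f = f * z ^ n := by
    intro n
    induction n with
    | zero => rw [pow_zero, map_one, pow_zero, mul_one]; rfl
    | succ n ih =>
      rw [pow_succ', map_mul, MulAut.mul_apply, ih, map_mul, h1, map_pow, h.alpha_center a hf,
        pow_succ', mul_assoc]
  have h3 := h2 r
  have har : a ^ r = 1 := by
    rw [← h.hR]
    exact pow_card_eq_one'
  rw [har, map_one, MulAut.one_apply] at h3
  have h4 : z ^ r = 1 := by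
    have h5 : f * 1 = f * z ^ r := by rw [mul_one]; exact h3
    exact (mul_left_cancel h5).symm
  have h5 : z ^ s = 1 := by
    have h6 : (⟨z, hf⟩ : center F) ^ Nat.card (center F) = 1 := pow_card_eq_one'
    rw [h.hZ] at h6
    exact congrArg Subtype.val h6
  have h6 : z = 1 := by
    have h7 : orderOf z ∣ 1 := by
      have h8 : r.Coprime s := (Nat.coprime_primes h.hr h.hs).mpr h.hrs
      rw [← h8]
      exact Nat.dvd_gcd (orderOf_dvd_of_pow_eq_one h4) (orderOf_dvd_of_pow_eq_one h5)
    exact orderOf_eq_one_iff.mp (Nat.dvd_one.mp h7)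
  rw [h6, mul_one] at h1
  have hp : Fact (Nat.card R).Prime := ⟨h.hR ▸ h.hr⟩
  have h7 : (f : G) ∈ F ⊓ centralizer (R : Set G) := by
    refine ⟨f.2, Subgroup.mem_centralizer_iff.mpr fun b hb => ?_⟩
    have h8 : (⟨b, hb⟩ : R) ∈ Subgroup.zpowers a := mem_zpowers_of_prime_card rfl ha
    rw [← mem_powers_iff_mem_zpowers] at h8
    obtain ⟨n, hn⟩ := h8
    have h9 := h2 n
    rw [h6, one_pow, mul_one] at h9
    have h10 := congrArg Subtype.val h9
    rw [alpha_coe] at h10
    have h11 : ((a ^ n : R) : G) = b := congrArg Subtype.val hn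
    rw [h11] at h10
    exact mul_inv_eq_iff_eq_mul.mp h10
  obtain ⟨y, hy, hyf⟩ := h.hCF h7
  have : y = f := Subtype.ext hyf
  rw [← this]
  exact hy

/-! ### the basis indexed by `F / Z(F)` -/

theorem RD.exists_comm (h : RD ρ F R r s) {f : F} (hf : f ∉ center F) :
    ∃ (g z : F), z ∈ center F ∧ z ≠ 1 ∧ g * f * g⁻¹ = z * f := by
  rw [Subgroup.mem_center_iff] at hf
  push Not at hf
  obtain ⟨g, hg⟩ := hf
  refine ⟨g, g * f * g⁻¹ * f⁻¹, h.hab g f, ?_, by group⟩
  intro h1
  apply hg
  have h2 : g * f = (g * f * g⁻¹ * f⁻¹) * (f * g) := by group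
  rw [h2, h1, one_mul]

theorem RD.trace_eq_zero (h : RD ρ F R r s) {f : F} (hf : f ∉ center F) :
    LinearMap.trace E V (ρ (f : G)) = 0 := by
  obtain ⟨g, z, hz, hz1, hgz⟩ := h.exists_comm hf
  obtain ⟨c, hc⟩ := h.scalar hz
  have hc1 : c ≠ 1 := by
    rintro rfl
    exact h.ne_one hz hz1 (eq_one_of_all fun v => by rw [hc, one_smul])
  have h1 : ρ (g : G) * ρ (f : G) * ρ (g : G)⁻¹ = c • ρ (f : G) := by
    rw [← map_mul, ← map_mul]
    have h2 : (g : G) * f * (g : G)⁻¹ = z * f := congrArg Subtype.val hgz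
    rw [h2]
    apply LinearMap.ext
    intro v
    rw [mul_apply', hc]
    rfl
  have h2 : LinearMap.trace E V (ρ (g : G) * ρ (f : G) * ρ (g : G)⁻¹) =
      LinearMap.trace E V (ρ (f : G)) := by
    rw [LinearMap.trace_mul_comm, ← mul_assoc, ← map_mul, inv_mul_cancel, map_one, one_mul]
  rw [h1, map_smul, smul_eq_mul] at h2
  have h3 : (c - 1) * LinearMap.trace E V (ρ (f : G)) = 0 := by
    rw [sub_mul, one_mul, h2, sub_self]
  exact (mul_eq_zero.mp h3).resolve_left (sub_ne_zero.mpr hc1)

theorem RD.finrank_ne_zero (h : RD ρ F R r s) : (finrank E V : E) ≠ 0 := by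
  intro h0
  have hs : Fact s.Prime := ⟨h.hs⟩
  have hnt := h.hirr.1
  have hpos : 0 < finrank E V := finrank_pos
  have hdvd : ringChar E ∣ finrank E V := (ringChar.spec E _).mp h0
  have hrc : ringChar E ≠ 0 := by
    intro h1
    rw [h1, zero_dvd_iff] at hdvd
    omega
  have hprime : (ringChar E).Prime := by
    rcases CharP.char_is_prime_or_zero E (ringChar E) with h1 | h1
    · exact h1
    · exact absurd h1 hrc
  obtain ⟨k, hk⟩ := h.hF.exists_card_eq
  have hFE : (Nat.card F : E) ≠ 0 := by
    rw [hk, Nat.cast_pow]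
    exact pow_ne_zero _ h.hsE
  have hsol : Group.IsSolvable F := by
    have : Group.IsNilpotent F := h.hF.isNilpotent
    infer_instance
  have h1 := prime_dvd_of_irr hprime (ρ.comp F.subtype) hsol hFE h.hirr hdvd
  apply hFE
  rw [ringChar.spec]
  exact h1

/-- representatives -/
noncomputable def sig (F : Subgroup G) (x : F ⧸ center F) : F := Quotient.out x

theorem mk_sig (x : F ⧸ center F) : (QuotientGroup.mk (sig F x) : F ⧸ center F) = x :=
  Quotient.out_eq' x

theorem RD.apply_eq (h : RD ρ F R r s) (f : F) :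
    ∃ c : E, ρ (f : G) = c • ρ (sig F (QuotientGroup.mk f) : G) := by
  have h1 : (sig F (QuotientGroup.mk f))⁻¹ * f ∈ center F :=
    QuotientGroup.eq.mp (mk_sig (QuotientGroup.mk f))
  obtain ⟨c, hc⟩ := h.scalar h1
  refine ⟨c, ?_⟩
  apply LinearMap.ext
  intro v
  rw [LinearMap.smul_apply, ← map_smul, ← hc, ← mul_apply', ← Subgroup.coe_mul]
  congr 3
  group

theorem RD.linearIndependent (h : RD ρ F R r s) :
    LinearIndependent E (fun x : F ⧸ center F => ρ (sig F x : G)) := by
  have : Fintype (F ⧸ center F) := Fintype.ofFinite _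
  rw [Fintype.linearIndependent_iff]
  intro c hc y
  have h1 : LinearMap.trace E V ((∑ x, c x • ρ (sig F x : G)) * ρ (sig F y : G)⁻¹) = 0 := by
    rw [hc, zero_mul, map_zero]
  rw [Finset.sum_mul, map_sum, Finset.sum_eq_single y] at h1
  · rw [smul_mul_assoc, ← map_mul, mul_inv_cancel, map_one, map_smul, LinearMap.trace_one,
      smul_eq_mul] at h1
    exact (mul_eq_zero.mp h1).resolve_right h.finrank_ne_zero
  · intro x _ hxy
    rw [smul_mul_assoc, ← map_mul, map_smul]
    have h2 : LinearMap.trace E V (ρ ((sig F x * (sig F y)⁻¹ : F) : G)) = 0 := by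
      apply h.trace_eq_zero
      intro h3
      apply hxy
      have h4 : (QuotientGroup.mk (sig F x * (sig F y)⁻¹) : F ⧸ center F) = 1 :=
        (QuotientGroup.eq_one_iff _).mpr h3
      rw [QuotientGroup.mk_mul, QuotientGroup.mk_inv, mk_sig, mk_sig, mul_inv_eq_one] at h4
      exact h4
    rw [Subgroup.coe_mul, Subgroup.coe_inv] at h2
    rw [h2, smul_zero]
  · intro h2
    exact absurd (Finset.mem_univ _) h2

theorem RD.span_eq_top (h : RD ρ F R r s) :
    Submodule.span E (Set.range fun x : F ⧸ center F => ρ (sig F x : G)) = ⊤ := by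
  rw [eq_top_iff]
  intro T _
  let τ : Unit → Representation E F V := fun _ => ρ.comp F.subtype
  have hirr : ∀ i, (τ i).IsIrreducible := by
    intro i
    exact irr_isIrreducible h.hirr
  obtain ⟨a, ha⟩ := Blocks.ModularTraces.exists_density τ hirr
    (fun i j hij => absurd (Subsingleton.elim i j) hij) (fun _ => T)
  have h1 : T = (τ ()).asAlgebraHom a := (ha ()).symm
  rw [h1, Representation.asAlgebraHom_def, MonoidAlgebra.lift_apply]
  refine Submodule.sum_mem _ fun f _ => Submodule.smul_mem _ _ ?_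
  obtain ⟨c, hc⟩ := h.apply_eq f
  show ρ (f : G) ∈ _
  rw [hc]
  exact Submodule.smul_mem _ _ (Submodule.subset_span ⟨_, rfl⟩)

theorem RD.card_eq (h : RD ρ F R r s) : Nat.card (F ⧸ center F) = finrank E V ^ 2 := by
  have : Fintype (F ⧸ center F) := Fintype.ofFinite _
  have b := Basis.mk h.linearIndependent h.span_eq_top.ge
  rw [sq, ← Module.finrank_linearMap, Module.finrank_eq_card_basis b, Nat.card_eq_fintype_card]

/-! ### the orbits of `R` on `F / Z(F)` and the commutant -/

/-- the action of `R` on `F / Z(F)` -/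
@[instance_reducible]
def actQ {F R : Subgroup G} (hRF : R ≤ normalizer (F : Set G)) : MulAction R (F ⧸ center F) where
  smul a := QuotientGroup.map (center F) (center F) (alpha hRF a).toMonoidHom
    (fun _ hz => map_mem_center (alpha hRF a) hz)
  one_smul x := by
    induction x using QuotientGroup.induction_on with | H f => ?_
    show ((alpha hRF 1 f : F) : F ⧸ center F) = f
    rw [map_one, MulAut.one_apply]
  mul_smul a b x := by
    induction x using QuotientGroup.induction_on with | H f => ?_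
    show ((alpha hRF (a * b) f : F) : F ⧸ center F) = (alpha hRF a (alpha hRF b f) : F)
    rw [map_mul, MulAut.mul_apply]

/-- averaging over `R` -/
noncomputable def avg (ρ : Representation E G V) (R : Subgroup G) [Fintype R] :
    Module.End E V →ₗ[E] Module.End E V where
  toFun T := ∑ a : R, ρ (a : G) * T * ρ (a : G)⁻¹
  map_add' S T := by
    rw [← Finset.sum_add_distrib]
    refine Finset.sum_congr rfl fun a _ => ?_
    rw [mul_add, add_mul]
  map_smul' c T := by
    rw [RingHom.id_apply, Finset.smul_sum]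
    refine Finset.sum_congr rfl fun a _ => ?_
    rw [mul_smul_comm, smul_mul_assoc]

theorem avg_apply (ρ : Representation E G V) (R : Subgroup G) [Fintype R] (T : Module.End E V) :
    avg ρ R T = ∑ a : R, ρ (a : G) * T * ρ (a : G)⁻¹ := rfl

theorem avg_conj (ρ : Representation E G V) (R : Subgroup G) [Fintype R] (b : R)
    (T : Module.End E V) : avg ρ R (ρ (b : G) * T * ρ (b : G)⁻¹) = avg ρ R T := by
  rw [avg_apply, avg_apply]
  refine Fintype.sum_equiv (Equiv.mulRight b) _ _ fun a => ?_
  show ρ (a : G) * (ρ (b : G) * T * ρ (b : G)⁻¹) * ρ (a : G)⁻¹ =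
    ρ ((a * b : R) : G) * T * ρ ((a * b : R) : G)⁻¹
  rw [Subgroup.coe_mul, map_mul, mul_inv_rev, map_mul]
  simp only [mul_assoc]

theorem RD.finrank_commutant_le (h : RD ρ F R r s) (T0 : Module.End E V) {a0 : R}
    (ha0 : ∀ a : R, ∃ n : ℕ, a0 ^ n = a) (hT0 : T0 = ρ (a0 : G))
    (C : Submodule E (Module.End E V)) (hC : ∀ S ∈ C, S * T0 = T0 * S) :
    letI := actQ h.hRF
    finrank E C ≤ Nat.card (MulAction.orbitRel.Quotient R (F ⧸ center F)) := by
  classical
  let act := actQ h.hRF
  have : Fintype R := Fintype.ofFinite R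
  have : Fintype (F ⧸ center F) := Fintype.ofFinite _
  let Ω := MulAction.orbitRel.Quotient R (F ⧸ center F)
  have : Fintype Ω := Fintype.ofFinite _
  let B : F ⧸ center F → Module.End E V := fun x => ρ (sig F x : G)
  have hsmul : ∀ (a : R) (f : F), a • (QuotientGroup.mk f : F ⧸ center F) =
    QuotientGroup.mk (alpha h.hRF a f) := fun a f => rfl
  have hB : ∀ (a : R) (x : F ⧸ center F), avg ρ R (B (a • x)) ∈ Submodule.span E {avg ρ R (B x)} := by
    intro a x
    -- `B x` is a multiple of the conjugate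
    obtain ⟨c, hc⟩ := h.apply_eq ((alpha h.hRF a⁻¹) (sig F (a • x)))
    have h1 : (QuotientGroup.mk ((alpha h.hRF a⁻¹) (sig F (a • x))) : F ⧸ center F) = x := by
      rw [← hsmul, mk_sig, inv_smul_smul]
    rw [h1, alpha_coe] at hc
    have h2 : B (a • x) = ρ (a : G) * (c • B x) * ρ (a : G)⁻¹ := by
      show ρ (sig F (a • x) : G) = _
      rw [show c • B x = c • ρ (sig F x : G) from rfl, ← hc, ← map_mul, ← map_mul]
      congr 1
      rw [Subgroup.coe_inv]
      group
    rw [h2, avg_conj, map_smul]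
    exact Submodule.smul_mem _ _ (Submodule.mem_span_singleton_self _)
  have hle : C ≤ Submodule.span E (Set.range fun o : Ω => avg ρ R (B (Quotient.out o))) := by
    intro T hT
    have hcomm : ∀ a : R, ρ (a : G) * T * ρ (a : G)⁻¹ = T := by
      intro a
      obtain ⟨n, rfl⟩ := ha0 a
      have h1 : Commute T T0 := hC T hT
      have h2 : Commute T (ρ ((a0 ^ n : R) : G)) := by
        rw [Subgroup.coe_pow, map_pow, ← hT0]
        exact h1.pow_right n
      rw [← h2.eq, mul_assoc, ← map_mul, mul_inv_cancel, map_one, mul_one]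
    have h1 : avg ρ R T = (r : E) • T := by
      rw [avg_apply, Finset.sum_congr rfl fun a _ => hcomm a, Finset.sum_const, Finset.card_univ,
        ← Nat.card_eq_fintype_card, h.hR, Nat.cast_smul_eq_nsmul]
    have h2 : T = (r : E)⁻¹ • avg ρ R T := by
      rw [h1, smul_smul, inv_mul_cancel₀ h.hrE, one_smul]
    have h3 : ∀ S : Module.End E V, avg ρ R S ∈
        Submodule.span E (Set.range fun o : Ω => avg ρ R (B (Quotient.out o))) := by
      intro S
      have h4 : S ∈ Submodule.span E (Set.range B) := by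
        rw [show Set.range B = Set.range fun x : F ⧸ center F => ρ (sig F x : G) from rfl,
          h.span_eq_top]
        exact Submodule.mem_top
      induction h4 using Submodule.span_induction with
      | mem x hx =>
        obtain ⟨y, rfl⟩ := hx
        have h5 : (Quotient.out (Quotient.mk (MulAction.orbitRel R (F ⧸ center F)) y)) ∈
            MulAction.orbit R y := by
          have h6 := Quotient.mk_out (s := MulAction.orbitRel R (F ⧸ center F)) y
          exact MulAction.orbitRel_apply.mp h6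
        obtain ⟨a, ha⟩ := h5
        have h6 : y = a⁻¹ • (Quotient.out (Quotient.mk (MulAction.orbitRel R (F ⧸ center F)) y)) := by
          rw [← ha, inv_smul_smul]
        have h7 := hB a⁻¹ (Quotient.out (Quotient.mk (MulAction.orbitRel R (F ⧸ center F)) y))
        rw [← h6] at h7
        refine (Submodule.span_le.mpr ?_) h7
        rintro _ rfl
        exact Submodule.subset_span ⟨_, rfl⟩
      | zero => rw [map_zero]; exact Submodule.zero_mem _
      | add x y _ _ hx hy => rw [map_add]; exact Submodule.add_mem _ hx hy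
      | smul c x _ hx => rw [map_smul]; exact Submodule.smul_mem _ _ hx
    rw [h2]
    exact Submodule.smul_mem _ _ (h3 T)
  calc finrank E C ≤ finrank E (Submodule.span E
        (Set.range fun o : Ω => avg ρ R (B (Quotient.out o)))) := Submodule.finrank_mono hle
    _ ≤ Fintype.card Ω := finrank_range_le_card _
    _ = Nat.card Ω := Nat.card_eq_fintype_card.symm

theorem RD.card_orbits (h : RD ρ F R r s) :
    letI := actQ h.hRF
    Nat.card (MulAction.orbitRel.Quotient R (F ⧸ center F)) * r =
      Nat.card (F ⧸ center F) + (r - 1) := by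
  classical
  let act := actQ h.hRF
  have : Fintype R := Fintype.ofFinite R
  have : Fintype (F ⧸ center F) := Fintype.ofFinite _
  have : Fintype (MulAction.orbitRel.Quotient R (F ⧸ center F)) := Fintype.ofFinite _
  have h1 := MulAction.sum_card_fixedBy_eq_card_orbits_mul_card_group R (F ⧸ center F)
  have hR : Fintype.card R = r := by rw [← Nat.card_eq_fintype_card, h.hR]
  rw [hR] at h1
  rw [Nat.card_eq_fintype_card, Nat.card_eq_fintype_card, ← h1]
  rw [← Finset.add_sum_erase Finset.univ _ (Finset.mem_univ (1 : R))]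
  congr 1
  · refine Fintype.card_congr ?_
    have : MulAction.fixedBy (F ⧸ center F) (1 : R) = Set.univ := by
      ext x
      simp
    rw [this]
    exact Equiv.Set.univ _
  · have h2 : ∀ a ∈ Finset.univ.erase (1 : R),
        Fintype.card (MulAction.fixedBy (F ⧸ center F) a) = 1 := by
      intro a ha
      have ha1 : a ≠ 1 := Finset.ne_of_mem_erase ha
      rw [Fintype.card_eq_one_iff]
      refine ⟨⟨1, ?_⟩, ?_⟩
      · rw [MulAction.mem_fixedBy]
        exact map_one (QuotientGroup.map (center F) (center F) (alpha h.hRF a).toMonoidHom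
          (fun _ hz => map_mem_center (alpha h.hRF a) hz))
      · rintro ⟨x, hx⟩
        apply Subtype.ext
        show x = 1
        induction x using QuotientGroup.induction_on with | H f => ?_
        rw [MulAction.mem_fixedBy] at hx
        have h3 : ((alpha h.hRF a f : F) : F ⧸ center F) = f := hx
        have h4 : f⁻¹ * alpha h.hRF a f ∈ center F := QuotientGroup.eq.mp h3.symm
        exact (QuotientGroup.eq_one_iff _).mpr (h.mem_center_of_fixed ha1 h4)
    rw [Finset.sum_congr rfl h2, Finset.sum_const, Finset.card_erase_of_mem (Finset.mem_univ _),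
      Finset.card_univ, hR, smul_eq_mul, mul_one]

theorem arith {d r s k : ℕ} (hr : r.Prime) (hs : s.Prime) (hd : 2 ≤ d) (hk : d ^ 2 = s ^ k)
    {c o : ℕ} (h1 : o * r = d ^ 2 + (r - 1)) (h2 : c ≤ o) (h3 : d ^ 2 ≤ (r - 1) * c) :
    ∃ k : ℕ, r = 2 ^ k + 1 := by
  obtain ⟨t, rfl⟩ : ∃ t, r = t + 1 := ⟨r - 1, by have := hr.pos; omega⟩
  rw [Nat.add_sub_cancel] at h1 h3
  have ht : 1 ≤ t := by have := hr.two_le; omega
  -- `d ≤ t`
  have h4 : d ^ 2 ≤ t ^ 2 := by
    have h5 : d ^ 2 * (t + 1) ≤ t * (d ^ 2 + t) := by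
      calc d ^ 2 * (t + 1) ≤ t * c * (t + 1) := Nat.mul_le_mul_right _ h3
        _ ≤ t * o * (t + 1) := Nat.mul_le_mul_right _ (Nat.mul_le_mul_left _ h2)
        _ = t * (d ^ 2 + t) := by rw [mul_assoc, h1]
    nlinarith
  have h5 : d ≤ t := by
    by_contra hcon
    push Not at hcon
    have : t ^ 2 < d ^ 2 := Nat.pow_lt_pow_left hcon (by norm_num)
    omega
  have h6 : (t + 1) ∣ (d - 1) * (d + 1) := by
    have h7 : (d - 1) * (d + 1) + (t + 1) = o * (t + 1) := by
      rw [h1]
      obtain ⟨e, rfl⟩ : ∃ e, d = e + 1 := ⟨d - 1, by omega⟩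
      rw [Nat.add_sub_cancel]
      ring
    have h8 : (t + 1) ∣ (d - 1) * (d + 1) + (t + 1) := by rw [h7]; exact dvd_mul_left _ _
    exact (Nat.dvd_add_left (dvd_refl _)).mp h8
  have h7 : d = t := by
    rcases (Nat.Prime.dvd_mul hr).mp h6 with h | h
    · have := Nat.le_of_dvd (by omega) h
      omega
    · have := Nat.le_of_dvd (by omega) h
      omega
  subst h7
  obtain ⟨m, -, hm⟩ : ∃ m ≤ k, d = s ^ m := (Nat.dvd_prime_pow hs).mp
    ((dvd_pow_self d (by norm_num)).trans hk.dvd)
  rcases hs.eq_two_or_odd' with rfl | hodd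
  · exact ⟨m, by rw [hm]⟩
  · have h8 : Odd d := by rw [hm]; exact hodd.pow
    have h9 : Even (d + 1) := h8.add_one
    have h10 := (Nat.Prime.even_iff hr).mp h9
    exact ⟨0, by rw [h10]; norm_num⟩

/-- **The key lemma.** -/
theorem RD.exists_fixed (h : RD ρ F R r s) (hr : ¬ ∃ k : ℕ, r = 2 ^ k + 1) :
    ∃ v : V, v ≠ 0 ∧ ∀ a ∈ R, ρ a v = v := by
  by_contra hcon
  push Not at hcon
  apply hr
  have hp : Fact (Nat.card R).Prime := ⟨h.hR ▸ h.hr⟩
  have hsp : Fact s.Prime := ⟨h.hs⟩
  have hnt : Nontrivial R := Finite.one_lt_card_iff_nontrivial.mp (hp.out.one_lt)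
  obtain ⟨a0, ha0⟩ := exists_ne (1 : R)
  have hgen : ∀ a : R, ∃ n : ℕ, a0 ^ n = a := by
    intro a
    have h8 : a ∈ Subgroup.zpowers a0 := mem_zpowers_of_prime_card rfl ha0
    rw [← mem_powers_iff_mem_zpowers] at h8
    exact h8
  let T0 : Module.End E V := ρ (a0 : G)
  let C : Submodule E (Module.End E V) :=
    { carrier := {S | S * T0 = T0 * S}
      add_mem' := by
        intro a b ha hb
        show (a + b) * T0 = T0 * (a + b)
        rw [add_mul, mul_add, ha, hb]
      zero_mem' := by
        show 0 * T0 = T0 * 0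
        rw [zero_mul, mul_zero]
      smul_mem' := by
        intro c a ha
        show c • a * T0 = T0 * c • a
        rw [smul_mul_assoc, mul_smul_comm, ha] }
  have hT0r : T0 ^ r = 1 := by
    show ρ (a0 : G) ^ r = 1
    rw [← map_pow, ← Subgroup.coe_pow, ← h.hR, pow_card_eq_one', Subgroup.coe_one, map_one]
  have hfix : ∀ v, T0 v = v → v = 0 := by
    intro v hv
    by_contra hv0
    obtain ⟨a, ha, hne⟩ := hcon v hv0
    apply hne
    obtain ⟨n, hn⟩ := hgen ⟨a, ha⟩
    have h1 : (a0 : G) ^ n = a := by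
      have := congrArg Subtype.val hn
      rwa [Subgroup.coe_pow] at this
    rw [← h1]
    have h2 : ∀ m : ℕ, ρ ((a0 : G) ^ m) v = v := by
      intro m
      induction m with
      | zero => rw [pow_zero, map_one, Module.End.one_apply]
      | succ m ih => rw [pow_succ', mul_apply', ih]; exact hv
    exact h2 n
  have h3 := sq_le_commutant T0 h.hrE hT0r hfix C (fun S hS => hS)
  have h2 := h.finrank_commutant_le T0 hgen rfl C (fun S hS => hS)
  have h1 := h.card_orbits
  have hcard := h.card_eq
  rw [hcard] at h1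
  obtain ⟨k, hk⟩ : ∃ k, finrank E V ^ 2 = s ^ k := by
    rw [← hcard]
    obtain ⟨n, hn⟩ := h.hF.exists_card_eq
    have h4 : Nat.card (F ⧸ center F) ∣ s ^ n := by
      rw [← hn]
      exact Subgroup.card_quotient_dvd_card _
    obtain ⟨k, -, hk⟩ := (Nat.dvd_prime_pow h.hs).mp h4
    exact ⟨k, hk⟩
  have hd : 2 ≤ finrank E V := by
    have hntV := h.hirr.1
    have hpos : 0 < finrank E V := finrank_pos
    by_contra hlt
    have hd1 : finrank E V = 1 := by omega
    rw [hd1, one_pow] at hcard
    -- `F` is its own centre, and `[F, R] = F` is trivial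
    have hall : ∀ f : F, f ∈ center F := by
      intro f
      have h4 : Subsingleton (F ⧸ center F) := (Nat.card_eq_one_iff_unique.mp hcard).1
      exact (QuotientGroup.eq_one_iff f).mp (Subsingleton.elim _ _)
    have hle : ⁅F, R⁆ ≤ ⊥ := by
      rw [Subgroup.commutator_le]
      intro f hf a ha
      have h5 := congrArg Subtype.val (h.alpha_center ⟨a, ha⟩ (hall ⟨f, hf⟩))
      rw [alpha_coe] at h5
      have h6 : a * f * a⁻¹ = f := h5
      rw [Subgroup.mem_bot, commutatorElement_def]
      have h7 : f * a * f⁻¹ * a⁻¹ = f * (a * f * a⁻¹)⁻¹ := by group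
      rw [h7, h6, mul_inv_cancel]
    rw [h.hcomm, le_bot_iff] at hle
    have h8 := h.hZ
    have h9 : Nat.card (center F) = 1 := by
      have h10 := Subgroup.card_le_card_group (center F)
      have h11 : Nat.card F = 1 := by rw [hle]; exact Subgroup.card_bot
      rw [h11] at h10
      exact le_antisymm h10 Nat.card_pos
    rw [h9] at h8
    exact h.hs.one_lt.ne h8
  exact arith h.hr h.hs hd hk h1 h2 h3

end Cfsg.Agent.H575.ExtraIrr
end

-- part: H575/ExtraFix
section
/-!
# Fixed points of an element of prime order acting together with an extraspecial group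
-/

set_option autoImplicit false
set_option linter.unusedSectionVars false

namespace Cfsg.Agent.H575.ExtraFix

open Module Subgroup TensorProduct Cfsg.Agent.H575.Dim Cfsg.Agent.H575.ModM
  Cfsg.Agent.H575.ExtraMod Cfsg.Agent.H575.ExtraIrr

section Closed

variable {E : Type*} [Field E] [IsAlgClosed E] {H V : Type*} [Group H] [Finite H]
  [AddCommGroup V] [Module E V] [FiniteDimensional E V]

theorem exists_irr (ρ : Representation E H V) [Nontrivial V] :
    ∃ (W : Submodule E V) (hW : ∀ h, ∀ w ∈ W, ρ (MonoidHom.id H h) w ∈ W),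
      Irr (sub ρ (MonoidHom.id H) W hW) := by
  let S : Set (Submodule E V) := {W | W ≠ ⊥ ∧ ∀ h, ∀ w ∈ W, ρ h w ∈ W}
  have hS : S.Nonempty := ⟨⊤, top_ne_bot, fun _ _ _ => Submodule.mem_top⟩
  obtain ⟨W, ⟨hW0, hW⟩, hmin⟩ :=
    WellFounded.has_min (wellFounded_lt : WellFounded ((· < ·) : Submodule E V → _ → Prop)) S hS
  refine ⟨W, hW, ?_, ?_⟩
  · obtain ⟨w, hw, hw0⟩ := Submodule.exists_mem_ne_zero_of_ne_bot hW0
    exact ⟨⟨⟨w, hw⟩, 0, fun h => hw0 (congrArg Subtype.val h)⟩⟩
  · intro U hU
    by_cases hU0 : U = ⊥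
    · exact Or.inl hU0
    · right
      have h1 : U.map W.subtype ∈ S := by
        refine ⟨fun h => hU0 ?_, ?_⟩
        · rw [eq_bot_iff]
          intro u hu
          have h2 : (u : V) ∈ U.map W.subtype := ⟨u, hu, rfl⟩
          rw [h, Submodule.mem_bot] at h2
          exact Subtype.ext h2
        · rintro h _ ⟨u, hu, rfl⟩
          exact ⟨_, hU h u hu, rfl⟩
      have h2 : U.map W.subtype ≤ W := Submodule.map_subtype_le W U
      have h3 : U.map W.subtype = W := by
        by_contra hne
        exact hmin _ h1 (lt_of_le_of_ne h2 hne)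
      rw [eq_top_iff]
      rintro ⟨w, hw⟩ _
      rw [← h3] at hw
      obtain ⟨u, hu, huw⟩ := hw
      have : u = ⟨w, by rw [← h3]; exact ⟨u, hu, huw⟩⟩ := Subtype.ext huw
      rw [← this]
      exact hu

theorem exists_fixed_closed {r s : ℕ} (ρ : Representation E H V) [Nontrivial V]
    (F R : Subgroup H) [hFn : F.Normal] (hFR : F ⊔ R = ⊤) (hED : ED F R r s)
    (hrE : (r : E) ≠ 0) (hsE : (s : E) ≠ 0)
    (hCV : ∀ v, (∀ f ∈ F, ρ f v = v) → v = 0) (hr : ¬ ∃ k : ℕ, r = 2 ^ k + 1) :
    ∃ v : V, v ≠ 0 ∧ ∀ a ∈ R, ρ a v = v := by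
  have hs : Fact s.Prime := ⟨hED.hs⟩
  obtain ⟨W, hW, hirr⟩ := exists_irr ρ
  have hcop : (Nat.card R).Coprime (Nat.card F) := by
    obtain ⟨k, hk⟩ := hED.hF.exists_card_eq
    rw [hED.hR, hk]
    exact Nat.Coprime.pow_right _ ((Nat.coprime_primes hED.hr hED.hs).mpr hED.hrs)
  have hidx : F.index = r := by
    have hcomp : Subgroup.IsComplement' F R := by
      refine Subgroup.isComplement'_of_disjoint_and_mul_eq_univ
        (Subgroup.disjoint_of_coprime_natCard hcop.symm) ?_
      rw [← Subgroup.normal_mul, hFR, Subgroup.coe_top]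
    rw [hcomp.symm.index_eq_card, hED.hR]
  have hHE : (Nat.card H : E) ≠ 0 := by
    rw [← F.card_mul_index, hidx, Nat.cast_mul]
    obtain ⟨k, hk⟩ := hED.hF.exists_card_eq
    rw [hk, Nat.cast_pow]
    exact mul_ne_zero (pow_ne_zero _ hsE) hrE
  have hlift : (∃ v : W, v ≠ 0 ∧ ∀ a ∈ R, sub ρ (MonoidHom.id H) W hW a v = v) →
      ∃ v : V, v ≠ 0 ∧ ∀ a ∈ R, ρ a v = v := by
    rintro ⟨v, hv, hfix⟩
    exact ⟨v, fun h => hv (Subtype.ext h), fun a ha => congrArg Subtype.val (hfix a ha)⟩
  apply hlift
  by_cases hF : Irr ((sub ρ (MonoidHom.id H) W hW).comp F.subtype)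
  · have hRD : RD (sub ρ (MonoidHom.id H) W hW) F R r s :=
      { toED := hED
        hrE := hrE
        hsE := hsE
        hirr := hF
        hCV := fun v hv => Subtype.ext (hCV v fun f hf => congrArg Subtype.val (hv f hf)) }
    exact hRD.exists_fixed hr
  · exact exists_fixed_of_not_irr hHE _ hirr F R (by rw [hidx]; exact hED.hr)
      (by rw [hidx, hED.hR]) hFR hF

end Closed

section Rep

variable {k : Type*} [Field k] {H V : Type*} [Group H] [Finite H]
  [AddCommGroup V] [Module k V] [FiniteDimensional k V]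

theorem exists_fixed_rep {r s : ℕ} (ρ : Representation k H V) [Nontrivial V]
    (F R : Subgroup H) [hFn : F.Normal] (hFR : F ⊔ R = ⊤) (hED : ED F R r s)
    (hrk : (r : k) ≠ 0) (hsk : (s : k) ≠ 0)
    (hCV : ∀ v, (∀ f ∈ F, ρ f v = v) → v = 0) (hr : ¬ ∃ k : ℕ, r = 2 ^ k + 1) :
    ∃ v : V, v ≠ 0 ∧ ∀ a ∈ R, ρ a v = v := by
  classical
  let E := AlgebraicClosure k
  let W := TensorProduct k E V
  have hs : Fact s.Prime := ⟨hED.hs⟩
  have hcast : ∀ n : ℕ, (n : k) ≠ 0 → (n : E) ≠ 0 := by
    intro n hn h0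
    apply hn
    have : algebraMap k E (n : k) = 0 := by
      rw [map_natCast]
      exact h0
    exact (map_eq_zero _).mp this
  let π : Representation E H W :=
    { toFun := fun g => (ρ g).baseChange E
      map_one' := by
        rw [map_one]
        exact LinearMap.baseChange_id
      map_mul' := by
        intro a b
        rw [map_mul]
        exact LinearMap.baseChange_comp _ _ }
  have hπ : ∀ g, π g = (ρ g).baseChange E := fun g => rfl
  have hsumE : ∀ (K : Subgroup H) [Fintype K] (w : W), ∑ h : K, π h w =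
      (∑ h : K, ρ h).baseChange E w := by
    intro K _ w
    have : ∑ h : K, π h = (∑ h : K, ρ h).baseChange E := by
      simp only [hπ]
      exact (map_sum (LinearMap.baseChangeHom k E V V) _ _).symm
    rw [← this, LinearMap.sum_apply]
  have hsumfix : ∀ (K : Subgroup H) [Fintype K] (v : V), ∀ g ∈ K,
      ρ g ((∑ h : K, ρ h) v) = (∑ h : K, ρ h) v := by
    intro K _ v g hg
    rw [LinearMap.sum_apply, map_sum]
    refine Fintype.sum_bijective (fun y => ⟨g, hg⟩ * y) (Group.mulLeft_bijective _) _ _ fun y => ?_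
    rw [← mul_apply']
    rfl
  have hfixsum : ∀ (K : Subgroup H) [Fintype K] (w : W), (∀ h ∈ K, π h w = w) →
      ∑ h : K, π h w = (Nat.card K : E) • w := by
    intro K _ w hw
    rw [Nat.card_eq_fintype_card, Nat.cast_smul_eq_nsmul, ← Finset.card_univ, ← Finset.sum_const]
    exact Finset.sum_congr rfl fun h _ => hw h h.2
  obtain ⟨ks, hks⟩ := hED.hF.exists_card_eq
  have hFE : (Nat.card F : E) ≠ 0 := by
    rw [hks, Nat.cast_pow]; exact pow_ne_zero _ (hcast s hsk)
  have hRE : (Nat.card R : E) ≠ 0 := by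
    rw [hED.hR]; exact hcast r hrk
  have : Fintype F := Fintype.ofFinite F
  have : Fintype R := Fintype.ofFinite R
  have hntW : Nontrivial W := by
    have h1 : finrank E W = finrank k V := Module.finrank_baseChange
    have h2 : 0 < finrank k V := finrank_pos
    exact Module.nontrivial_of_finrank_pos (R := E) (by rw [h1]; exact h2)
  obtain ⟨w, hw0, hw⟩ := exists_fixed_closed (E := E) π F R hFR hED (hcast r hrk) (hcast s hsk)
    (by
      intro w hw
      have h1 := hfixsum F w hw
      have h2 : ∑ h : F, ρ h = 0 := by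
        apply LinearMap.ext
        intro v
        rw [LinearMap.zero_apply]
        exact hCV _ fun f hf => hsumfix F v f hf
      rw [hsumE, h2, LinearMap.baseChange_zero, LinearMap.zero_apply] at h1
      exact (smul_eq_zero.mp h1.symm).resolve_left hFE) hr
  by_contra hcon
  push Not at hcon
  apply hw0
  have h1 := hfixsum R w hw
  have h2 : ∑ h : R, ρ h = 0 := by
    apply LinearMap.ext
    intro v
    rw [LinearMap.zero_apply]
    by_contra hne
    obtain ⟨a, ha, hne'⟩ := hcon _ hne
    exact hne' (hsumfix R v a ha)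
  rw [hsumE, h2, LinearMap.baseChange_zero, LinearMap.zero_apply] at h1
  exact (smul_eq_zero.mp h1.symm).resolve_left hRE

end Rep

/-- restriction of the data to `F ⊔ R` -/
theorem ed_subgroupOf {G : Type*} [Group G] [Finite G] {F R : Subgroup G} {r s : ℕ} (h : ED F R r s)
    {K : Subgroup G} (hF : F ≤ K) (hR : R ≤ K) : ED (F.subgroupOf K) (R.subgroupOf K) r s := by
  let e : F.subgroupOf K ≃* F := Subgroup.subgroupOfEquivOfLe hF
  have he : ∀ x, ((e x : F) : G) = ((x : K) : G) := fun x => rfl
  have hcen : ∀ x : F.subgroupOf K, x ∈ center (F.subgroupOf K) ↔ e x ∈ center F := by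
    intro x
    rw [Subgroup.mem_center_iff, Subgroup.mem_center_iff]
    constructor
    · intro hx g
      obtain ⟨y, rfl⟩ := e.surjective g
      rw [← map_mul, ← map_mul, hx]
    · intro hx g
      apply e.injective
      rw [map_mul, map_mul, hx]
  refine
    { hr := h.hr
      hs := h.hs
      hrs := h.hrs
      hR := ?_
      hF := h.hF.comap_of_injective _ K.subtype_injective
      hZ := ?_
      hab := ?_
      hRF := ?_
      hcomm := ?_
      hCF := ?_ }
  · rw [Nat.card_congr (Subgroup.subgroupOfEquivOfLe hR).toEquiv, h.hR]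
  · rw [← h.hZ]
    refine Nat.card_congr (Equiv.subtypeEquiv e.toEquiv fun x => ?_)
    exact hcen x
  · intro x y
    rw [hcen]
    simp only [map_mul, map_inv]
    exact h.hab _ _
  · refine le_normalizer_of_conj fun a ha b hb => ?_
    exact conj_mem_of_le_normalizer h.hRF ha hb
  · apply Subgroup.map_injective K.subtype_injective
    rw [Subgroup.map_commutator, Subgroup.subgroupOf_map_subtype, Subgroup.subgroupOf_map_subtype,
      inf_of_le_left hF, inf_of_le_left hR, h.hcomm]
  · rintro x ⟨hxF, hxR⟩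
    have h1 : (x : G) ∈ F ⊓ centralizer (R : Set G) := by
      refine ⟨hxF, Subgroup.mem_centralizer_iff.mpr fun a ha => ?_⟩
      exact congrArg Subtype.val (Subgroup.mem_centralizer_iff.mp hxR ⟨a, hR ha⟩ ha)
    obtain ⟨y, hy, hyx⟩ := h.hCF h1
    refine ⟨⟨x, hxF⟩, ?_, rfl⟩
    show (⟨x, hxF⟩ : F.subgroupOf K) ∈ center (F.subgroupOf K)
    rw [hcen]
    have : e ⟨x, hxF⟩ = y := Subtype.ext hyx.symm
    rw [this]
    exact hy

/-- **Group version.** -/
theorem exists_fixed_group {G : Type*} [Group G] [Finite G] {q r s : ℕ} [hq : Fact q.Prime]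
    {F R N : Subgroup G} [N.Normal] (hNbot : N ≠ ⊥) (hNc : ∀ x ∈ N, ∀ y ∈ N, x * y = y * x)
    (hNq : ∀ x ∈ N, x ^ q = 1) (hED : ED F R r s)
    (hrq : r ≠ q) (hsq : s ≠ q) (hCN : N ⊓ centralizer (F : Set G) = ⊥)
    (hr : ¬ ∃ k : ℕ, r = 2 ^ k + 1) :
    N ⊓ centralizer (R : Set G) ≠ ⊥ := by
  let instN : CommGroup N := { (inferInstance : Group N) with
    mul_comm := fun x y => Subtype.ext (hNc x x.2 y y.2) }
  have instM : Module (ZMod q) (Additive N) := AddCommGroup.zmodModule (n := q) (by
    intro x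
    exact congrArg Additive.ofMul (Subtype.ext (hNq _ x.toMul.2) : x.toMul ^ q = 1))
  have hfin : FiniteDimensional (ZMod q) (Additive N) := inferInstance
  let K : Subgroup G := F ⊔ R
  let ρ : Representation (ZMod q) K (Additive N) :=
    OddOrderLocal.FrobAct.toRep q ((MulAut.conjNormal : G →* MulAut N).comp K.subtype)
  have hρ : ∀ (g : K) (v : Additive N), (((ρ g v).toMul : N) : G) =
      (g : G) * (v.toMul : N) * (g : G)⁻¹ := fun g v => rfl
  have hcast : ∀ n : ℕ, n.Prime → n ≠ q → (n : ZMod q) ≠ 0 := by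
    intro n hn hnq h0
    rw [ZMod.natCast_eq_zero_iff] at h0
    exact hnq ((Nat.prime_dvd_prime_iff_eq hq.out hn).mp h0).symm
  have hfixiff : ∀ (g : K) (v : Additive N), ρ g v = v ↔
      (g : G) * ((v.toMul : N) : G) = ((v.toMul : N) : G) * g := by
    intro g v
    rw [← mul_inv_eq_iff_eq_mul, ← hρ]
    constructor
    · intro h
      rw [h]
    · intro h
      exact Additive.toMul.injective (Subtype.ext h)
  have hFn : (F.subgroupOf K).Normal := by
    rw [Subgroup.normal_subgroupOf_iff_le_normalizer le_sup_left]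
    exact sup_le Subgroup.le_normalizer hED.hRF
  have hFR : F.subgroupOf K ⊔ R.subgroupOf K = ⊤ := by
    rw [← Subgroup.subgroupOf_sup le_sup_left le_sup_right, Subgroup.subgroupOf_self]
  have hntN : Nontrivial N := (Subgroup.nontrivial_iff_ne_bot N).mpr hNbot
  have hnt : Nontrivial (Additive N) := inferInstance
  obtain ⟨v, hv0, hv⟩ := exists_fixed_rep ρ (F.subgroupOf K) (R.subgroupOf K) hFR
    (ed_subgroupOf hED le_sup_left le_sup_right) (hcast r hED.hr hrq) (hcast s hED.hs hsq)
    (by
      intro v hv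
      have h1 : ((v.toMul : N) : G) ∈ N ⊓ Subgroup.centralizer (F : Set G) :=
        ⟨v.toMul.2, Subgroup.mem_centralizer_iff.mpr fun f hf =>
          (hfixiff ⟨f, (le_sup_left : F ≤ K) hf⟩ v).mp (hv _ hf)⟩
      rw [hCN, Subgroup.mem_bot] at h1
      exact Additive.toMul.injective (Subtype.ext h1)) hr
  intro hbot
  apply hv0
  have h1 : ((v.toMul : N) : G) ∈ N ⊓ Subgroup.centralizer (R : Set G) :=
    ⟨v.toMul.2, Subgroup.mem_centralizer_iff.mpr fun f hf =>
      (hfixiff ⟨f, (le_sup_right : R ≤ K) hf⟩ v).mp (hv _ hf)⟩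
  rw [hbot, Subgroup.mem_bot] at h1
  exact Additive.toMul.injective (Subtype.ext h1)

end Cfsg.Agent.H575.ExtraFix
end

-- part: H575/Chain
section
/-!
# Normal chains with nilpotent factors
-/

set_option autoImplicit false

open Subgroup

namespace Cfsg.Agent.H575.Chain

/-- `G` has a chain of `n + 1` normal subgroups with nilpotent factors. -/
def FChain (n : ℕ) (G : Type*) [Group G] : Prop :=
  ∃ F : Fin (n + 1) → Subgroup G, F 0 = ⊥ ∧ F (Fin.last n) = ⊤ ∧ Monotone F ∧
    (∀ i, (F i).Normal) ∧ ∀ i : Fin n, ∃ k : ℕ, (F i.succ).lowerCentralSeries k ≤ F i.castSucc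

variable {G H : Type*} [Group G] [Group H]

theorem lcs_mono {A B : Subgroup G} (h : A ≤ B) (k : ℕ) :
    A.lowerCentralSeries k ≤ B.lowerCentralSeries k := by
  induction k with
  | zero => exact h
  | succ k ih =>
    rw [Subgroup.lowerCentralSeries_succ, Subgroup.lowerCentralSeries_succ]
    exact Subgroup.commutator_mono ih h

theorem lcs_comap_le (φ : G →* H) (S : Subgroup H) (k : ℕ) :
    (S.comap φ).lowerCentralSeries k ≤ (S.lowerCentralSeries k).comap φ := by
  rw [← Subgroup.map_le_iff_le_comap, Subgroup.map_lowerCentralSeries]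
  exact lcs_mono (Subgroup.map_comap_le φ S) k

theorem fchain_zero [Subsingleton G] : FChain 0 G :=
  ⟨fun _ => ⊥, rfl, Subsingleton.elim _ _, fun _ _ _ => le_rfl, fun _ => inferInstance,
    fun i => i.elim0⟩

theorem FChain.subsingleton (h : FChain 0 G) : Subsingleton G := by
  obtain ⟨F, h0, h1, -⟩ := h
  have h2 : (⊥ : Subgroup G) = ⊤ := h0.symm.trans h1
  exact Subgroup.subsingleton_iff.mp (subsingleton_of_bot_eq_top h2)

theorem FChain.of_injective {n : ℕ} (h : FChain n G) (φ : H →* G) (hφ : Function.Injective φ) :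
    FChain n H := by
  obtain ⟨F, h0, h1, h2, h3, h4⟩ := h
  refine ⟨fun i => (F i).comap φ, ?_, ?_, fun i j hij => Subgroup.comap_mono (h2 hij),
    fun i => (h3 i).comap φ, fun i => ?_⟩
  · show (F 0).comap φ = ⊥
    rw [h0, MonoidHom.comap_bot, (MonoidHom.ker_eq_bot_iff φ).mpr hφ]
  · show (F (Fin.last n)).comap φ = ⊤
    rw [h1, Subgroup.comap_top]
  · obtain ⟨k, hk⟩ := h4 i
    exact ⟨k, (lcs_comap_le φ _ k).trans (Subgroup.comap_mono hk)⟩

theorem FChain.of_equiv {n : ℕ} (h : FChain n G) (e : H ≃* G) : FChain n H :=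
  h.of_injective e.toMonoidHom e.injective

/-- the first term of a chain, and the images of the others -/
theorem FChain.image {n : ℕ} (h : FChain (n + 1) G) :
    ∃ N : Subgroup G, N.Normal ∧ Group.IsNilpotent N ∧
      ∀ (K : Type _) [Group K] (φ : G →* K), Function.Surjective φ → N ≤ φ.ker → FChain n K := by
  obtain ⟨F, h0, h1, h2, h3, h4⟩ := h
  refine ⟨F 1, h3 1, ?_, ?_⟩
  · rw [isNilpotent_iff_lowerCentralSeries]
    obtain ⟨k, hk⟩ := h4 0
    refine ⟨k, le_bot_iff.mp ?_⟩
    rw [← h0]
    exact hk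
  · intro K _ φ hφ hN
    refine ⟨fun i => (F i.succ).map φ, ?_, ?_, fun i j hij => Subgroup.map_mono
      (h2 (Fin.succ_le_succ_iff.mpr hij)), fun i => (h3 _).map φ hφ, fun i => ?_⟩
    · show (F 1).map φ = ⊥
      rw [← le_bot_iff, Subgroup.map_le_iff_le_comap, MonoidHom.comap_bot]
      exact hN
    · show (F (Fin.last n).succ).map φ = ⊤
      rw [Fin.succ_last, h1, ← MonoidHom.range_eq_map, MonoidHom.range_eq_top.mpr hφ]
    · obtain ⟨k, hk⟩ := h4 i.succ
      refine ⟨k, ?_⟩
      rw [← Subgroup.map_lowerCentralSeries]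
      exact Subgroup.map_mono hk

/-- extension by a nilpotent normal subgroup -/
theorem FChain.extend {n : ℕ} (ψ : G →* H) (hN : Group.IsNilpotent ψ.ker)
    (h : FChain n H) : FChain (n + 1) G := by
  obtain ⟨F, h0, h1, h2, h3, h4⟩ := h
  have hF0 : (F 0).comap ψ = ψ.ker := by
    rw [h0, MonoidHom.comap_bot]
  refine ⟨Fin.cons ⊥ fun i => (F i).comap ψ, Fin.cons_zero _ _, ?_, ?_, ?_, ?_⟩
  · rw [← Fin.succ_last, Fin.cons_succ, h1, Subgroup.comap_top]
  · intro i j hij
    induction i using Fin.cases with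
    | zero => rw [Fin.cons_zero]; exact bot_le
    | succ i =>
      induction j using Fin.cases with
      | zero => exact absurd (Fin.le_zero_iff.mp hij) (Fin.succ_ne_zero i)
      | succ j =>
        rw [Fin.cons_succ, Fin.cons_succ]
        exact Subgroup.comap_mono (h2 (Fin.succ_le_succ_iff.mp hij))
  · intro i
    induction i using Fin.cases with
    | zero => rw [Fin.cons_zero]; infer_instance
    | succ i => rw [Fin.cons_succ]; exact (h3 i).comap _
  · intro i
    induction i using Fin.cases with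
    | zero =>
      rw [Fin.cons_succ, hF0, Fin.castSucc_zero, Fin.cons_zero]
      obtain ⟨k, hk⟩ := (isNilpotent_iff_lowerCentralSeries ψ.ker).mp hN
      exact ⟨k, hk.le⟩
    | succ i =>
      rw [Fin.cons_succ, ← Fin.succ_castSucc, Fin.cons_succ]
      obtain ⟨k, hk⟩ := h4 i
      exact ⟨k, (lcs_comap_le _ _ k).trans (Subgroup.comap_mono hk)⟩

end Cfsg.Agent.H575.Chain
end
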