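import Cfsg.Agent.H575.GroupM
import Cfsg.Agent.Lib.SubnormalJoin
import Cfsg.Agent.Lib.MinNormalNonabelian
import Cfsg.Agent.Lib.Cores
import Cfsg.Agent.SignalizersComponents.CoprimeBasic
import Cfsg.Agent.S0022
import Cfsg.Agent.S0023
import Cfsg.Agent.Lib.CoprimeAbelian
import Cfsg.Prelude.Def_Transfer
import Cfsg.Agent.S4319
import Cfsg.Agent.FastGrp
import Cfsg.Agent.Prune
set_option linter.all false
prune_inst 0x7f00000000000000000000000000000000000000000000000000000000000000000000000000000000000000000000000000000000000000000000000000000000000000000000000000000000000000003fffffffffffffffffffffffffffbeffbdffffffff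
open scoped Cfsg.Agent.FastGrp

-- part: H575/Core
section
/-!
# Fixed points of an element of prime order acting together with an `s`-group: the group part

`core`: a `p`-subgroup of `C_X(R)` normalized by `C_X(R)` lies in a normal `p`-subgroup.
-/

set_option autoImplicit false
set_option linter.unusedSectionVars false

universe u

open Subgroup

namespace Cfsg.Agent.H575.Core

open Cfsg.Agent.H575.ModM

/-- The hypotheses of the core lemma. -/
structure Data {Γ : Type u} [Group Γ] [Finite Γ] (X F R : Subgroup Γ) (s : ℕ) : Prop where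
  normal : X.Normal
  hF : IsPGroup s F
  hR : (Nat.card R).Prime
  hRs : Nat.card R ≠ s
  hRF : R ≤ normalizer (F : Set Γ)
  hCR : Nat.card ↥(F ⊓ centralizer (R : Set Γ)) ∣ s
  hsX : ¬ s ∣ Nat.card X
  hrX : ¬ Nat.card R ∣ Nat.card X
  hCX : X ⊓ centralizer (F : Set Γ) = ⊥

theorem coprime_of_not_dvd {Γ : Type u} [Group Γ] [Finite Γ] {s : ℕ} (hs : s.Prime)
    {F X : Subgroup Γ} (hF : IsPGroup s F) (hsX : ¬ s ∣ Nat.card X) :
    (Nat.card F).Coprime (Nat.card X) := by
  have : Fact s.Prime := ⟨hs⟩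
  obtain ⟨k, hk⟩ := hF.exists_card_eq
  rw [hk]
  exact Nat.Coprime.pow_left _ ((Nat.Prime.coprime_iff_not_dvd hs).mpr hsX)

theorem inf_eq_bot_of_coprime {Γ : Type u} [Group Γ] {A B : Subgroup Γ}
    (h : (Nat.card A).Coprime (Nat.card B)) : A ⊓ B = ⊥ :=
  (Subgroup.disjoint_of_coprime_natCard h).eq_bot

/-- lifting fixed points modulo a normal subgroup -/
theorem inf_centralizer_map_le {Γ : Type u} [Group Γ] [Finite Γ] {t : ℕ} [Fact t.Prime]
    {X A N : Subgroup Γ} [N.Normal] (hNX : N ≤ X) (hA : IsPGroup t A) (ht : ¬ t ∣ Nat.card N) :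
    X.map (QuotientGroup.mk' N) ⊓ centralizer ((A.map (QuotientGroup.mk' N) : Subgroup (Γ ⧸ N)) : Set (Γ ⧸ N)) ≤
      (X ⊓ centralizer (A : Set Γ)).map (QuotientGroup.mk' N) := by
  rintro _ ⟨⟨x, hx, rfl⟩, hc⟩
  have hy : ∀ a ∈ A, x⁻¹ * (a * x * a⁻¹) ∈ N := by
    intro a ha
    have h1 := Subgroup.mem_centralizer_iff.mp hc (QuotientGroup.mk' N a) (Subgroup.mem_map_of_mem _ ha)
    have h2 : QuotientGroup.mk' N (x⁻¹ * (a * x * a⁻¹)) = 1 := by
      rw [map_mul, map_mul, map_mul, map_inv, map_inv, h1]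
      group
    exact (QuotientGroup.eq_one_iff _).mp h2
  obtain ⟨d, hd, hfix⟩ := SignalizersComponents.CoprimeBasic.exists_fixed_in_coset A hA N ht
    (fun a _ d hd => (inferInstance : N.Normal).conj_mem d hd a) x hy
  refine ⟨x * d, ⟨X.mul_mem hx (hNX hd), Subgroup.mem_centralizer_iff.mpr hfix⟩, ?_⟩
  rw [map_mul]
  have : QuotientGroup.mk' N d = 1 := (QuotientGroup.eq_one_iff _).mpr hd
  rw [this, mul_one]

theorem Data.quot {Γ : Type u} [Group Γ] [Finite Γ] {X F R : Subgroup Γ} {s : ℕ} (hs : s.Prime)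
    (h : Data X F R s) {N : Subgroup Γ} [N.Normal] (hNX : N ≤ X) :
    Data (X.map (QuotientGroup.mk' N)) (F.map (QuotientGroup.mk' N)) (R.map (QuotientGroup.mk' N)) s := by
  have : Fact s.Prime := ⟨hs⟩
  have hNX' : Nat.card N ∣ Nat.card X := Subgroup.card_dvd_of_le hNX
  have hsN : ¬ s ∣ Nat.card N := fun hd => h.hsX (hd.trans hNX')
  have hrN : ¬ Nat.card R ∣ Nat.card N := fun hd => h.hrX (hd.trans hNX')
  have hRN : R ⊓ N = ⊥ := inf_eq_bot_of_coprime ((Nat.Prime.coprime_iff_not_dvd h.hR).mpr hrN)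
  have hFN : F ⊓ N = ⊥ := inf_eq_bot_of_coprime (coprime_of_not_dvd hs h.hF hsN)
  have hXn : X.Normal := h.normal
  have hcR : Nat.card (R.map (QuotientGroup.mk' N)) = Nat.card R := by
    refine Nat.card_congr (Equiv.symm (Equiv.ofBijective
      (fun r : R => (⟨QuotientGroup.mk' N r, Subgroup.mem_map_of_mem _ r.2⟩ :
        R.map (QuotientGroup.mk' N))) ⟨?_, ?_⟩))
    · intro a b hab
      have h1 : QuotientGroup.mk' N (a : Γ) = QuotientGroup.mk' N (b : Γ) := congrArg Subtype.val hab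
      have h2 : (a : Γ)⁻¹ * b ∈ N := QuotientGroup.eq.mp h1
      have h3 : (a : Γ)⁻¹ * b ∈ R ⊓ N := ⟨R.mul_mem (R.inv_mem a.2) b.2, h2⟩
      rw [hRN, Subgroup.mem_bot] at h3
      exact Subtype.ext (inv_mul_eq_one.mp h3)
    · rintro ⟨_, ⟨r, hr, rfl⟩⟩
      exact ⟨⟨r, hr⟩, rfl⟩
  refine ⟨hXn.map _ (QuotientGroup.mk'_surjective N), h.hF.map _, ?_, ?_, ?_, ?_, ?_, ?_, ?_⟩
  · rw [hcR]; exact h.hR
  · rw [hcR]; exact h.hRs
  · refine (Subgroup.map_mono h.hRF).trans ?_
    exact Subgroup.le_normalizer_map _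
  · refine dvd_trans ?_ h.hCR
    have hle : F.map (QuotientGroup.mk' N) ⊓
        centralizer ((R.map (QuotientGroup.mk' N) : Subgroup (Γ ⧸ N)) : Set (Γ ⧸ N)) ≤
        (F ⊓ centralizer (R : Set Γ)).map (QuotientGroup.mk' N) := by
      rintro _ ⟨⟨f, hf, rfl⟩, hc⟩
      refine ⟨f, ⟨hf, Subgroup.mem_centralizer_iff.mpr fun a ha => ?_⟩, rfl⟩
      have h1 := Subgroup.mem_centralizer_iff.mp hc (QuotientGroup.mk' N a)
        (Subgroup.mem_map_of_mem _ ha)
      have h2 : QuotientGroup.mk' N (a * f * a⁻¹ * f⁻¹) = 1 := by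
        rw [map_mul, map_mul, map_mul, map_inv, map_inv, h1]
        group
      have h3 : a * f * a⁻¹ * f⁻¹ ∈ F ⊓ N :=
        ⟨F.mul_mem (conj_mem_of_le_normalizer h.hRF ha hf) (F.inv_mem hf),
          (QuotientGroup.eq_one_iff _).mp h2⟩
      rw [hFN, Subgroup.mem_bot] at h3
      have h4 : a * f * a⁻¹ = f := by
        rw [mul_inv_eq_one] at h3
        exact h3
      exact mul_inv_eq_iff_eq_mul.mp h4
    exact (Subgroup.card_dvd_of_le hle).trans (Subgroup.card_map_dvd _ _)
  · exact fun hd => h.hsX (hd.trans (Subgroup.card_map_dvd _ _))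
  · rw [hcR]
    exact fun hd => h.hrX (hd.trans (Subgroup.card_map_dvd _ _))
  · rw [eq_bot_iff]
    refine (inf_centralizer_map_le hNX h.hF hsN).trans ?_
    rw [h.hCX, Subgroup.map_bot]

/-- a `p`-element and `q`-element is trivial -/
theorem eq_one_of_pow {Γ : Type u} [Group Γ] {p q a : ℕ} (hp : p.Prime) (hq : q.Prime)
    (hpq : p ≠ q) {x : Γ} (h1 : x ^ p ^ a = 1) (h2 : x ^ q = 1) : x = 1 := by
  have h3 : orderOf x ∣ p ^ a := orderOf_dvd_of_pow_eq_one h1
  have h4 : orderOf x ∣ q := orderOf_dvd_of_pow_eq_one h2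
  have h5 : (p ^ a).Coprime q := Nat.Coprime.pow_left _ ((Nat.coprime_primes hp hq).mpr hpq)
  exact orderOf_eq_one_iff.mp (Nat.dvd_one.mp (h5 ▸ Nat.dvd_gcd h3 h4))

theorem core_aux (s : ℕ) (hs : s.Prime) (n : ℕ) :
    ∀ (Γ : Type u) [Group Γ] [Finite Γ] (X F R : Subgroup Γ), Nat.card X = n → Data X F R s →
      Group.IsSolvable X → ∀ (p : ℕ), p.Prime → ∀ D : Subgroup Γ, D ≤ X ⊓ centralizer (R : Set Γ) →
      X ⊓ centralizer (R : Set Γ) ≤ normalizer (D : Set Γ) → IsPGroup p D →
      ∃ M : Subgroup Γ, M.Normal ∧ M ≤ X ∧ IsPGroup p M ∧ D ≤ M := by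
  induction n using Nat.strong_induction_on with
  | _ n ih =>
    intro Γ _ _ X F R hn hd hsol p hp D hD hDn hDp
    have : Fact p.Prime := ⟨hp⟩
    have : Fact s.Prime := ⟨hs⟩
    have hXn : X.Normal := hd.normal
    by_cases hDbot : D = ⊥
    · exact ⟨⊥, inferInstance, bot_le, IsPGroup.of_bot, hDbot.le⟩
    have hXbot : X ≠ ⊥ := by
      rintro rfl
      exact hDbot (le_bot_iff.mp (hD.trans inf_le_left))
    -- `p` divides the order of `X`
    have hpX : p ∣ Nat.card X := by
      obtain ⟨k, hk⟩ := hDp.exists_card_eq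
      have hk0 : k ≠ 0 := by
        rintro rfl
        rw [pow_zero] at hk
        exact hDbot (Subgroup.card_eq_one.mp hk)
      exact ((dvd_pow_self p hk0).trans hk.symm.dvd).trans
        (Subgroup.card_dvd_of_le (hD.trans inf_le_left))
    have hps : p ≠ s := fun h => hd.hsX (h ▸ hpX)
    have hRp : Nat.card R ≠ p := fun h => hd.hrX (h ▸ hpX)
    obtain ⟨N, hNn, hNX, hNbot, hNmin⟩ :=
      Lib.SubnormalJoin.exists_minimal_normal_le X hXn hXbot
    have hNsol : Group.IsSolvable N :=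
      Group.isSolvable_of_isSolvable_injective (Subgroup.inclusion_injective hNX)
    have hNab : ∀ x ∈ N, ∀ y ∈ N, Commute x y := by
      have h1 : ⁅N, N⁆ = ⊥ := by
        rcases hNmin ⁅N, N⁆ inferInstance (Subgroup.commutator_le_left N N) with h | h
        · exact h
        · exfalso
          apply hNbot
          have h2 : ∀ m : ℕ, (derivedSeries N m).map N.subtype = N := by
            intro m
            induction m with
            | zero => rw [derivedSeries_zero, ← MonoidHom.range_eq_map, Subgroup.range_subtype]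
            | succ m ihm => rw [derivedSeries_succ, Subgroup.map_commutator, ihm, h]
          obtain ⟨m, hm⟩ := hNsol
          rw [← h2 m, hm, Subgroup.map_bot]
      intro x hx y hy
      have h2 := Subgroup.commutator_mem_commutator hx hy
      rw [h1, Subgroup.mem_bot, commutatorElement_eq_one_iff_commute] at h2
      exact h2
    obtain ⟨q, hq, hNq, hNexp⟩ := Lib.MinNormalNonabelian.abelian_structure N hNbot hNmin hNab
    have : Fact q.Prime := ⟨hq⟩
    have hqN : q ∣ Nat.card N := by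
      obtain ⟨k, hk⟩ := hNq.exists_card_eq
      have hk0 : k ≠ 0 := by
        rintro rfl
        rw [pow_zero] at hk
        exact hNbot (Subgroup.card_eq_one.mp hk)
      exact (dvd_pow_self q hk0).trans hk.symm.dvd
    have hqX : q ∣ Nat.card X := hqN.trans (Subgroup.card_dvd_of_le hNX)
    have hsq : s ≠ q := fun h => hd.hsX (h ▸ hqX)
    have hRq : Nat.card R ≠ q := fun h => hd.hrX (h ▸ hqX)
    have hNX' : Nat.card N ∣ Nat.card X := Subgroup.card_dvd_of_le hNX
    have hrN : ¬ Nat.card R ∣ Nat.card N := fun h => hd.hrX (h.trans hNX')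
    have : Fact (Nat.card R).Prime := ⟨hd.hR⟩
    have hRpg : IsPGroup (Nat.card R) R := IsPGroup.of_card (n := 1) (by rw [pow_one])
    -- the quotient
    have hq' := hd.quot hs hNX
    have hlt : Nat.card (X.map (QuotientGroup.mk' N)) < n := by
      rw [← hn]
      refine lt_of_le_of_ne (Nat.le_of_dvd Nat.card_pos (Subgroup.card_map_dvd _ _)) fun h => ?_
      apply hNbot
      have h1 : Function.Bijective (fun x : X => (⟨QuotientGroup.mk' N x,
          Subgroup.mem_map_of_mem _ x.2⟩ : X.map (QuotientGroup.mk' N))) := by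
        refine Function.Surjective.bijective_of_nat_card_le ?_ h.ge
        rintro ⟨_, ⟨r, hr, rfl⟩⟩
        exact ⟨⟨r, hr⟩, rfl⟩
      rw [eq_bot_iff]
      intro x hx
      have h2 := h1.1 (a₁ := ⟨x, hNX hx⟩) (a₂ := 1) (Subtype.ext (by
        show QuotientGroup.mk' N x = QuotientGroup.mk' N 1
        rw [map_one]
        exact (QuotientGroup.eq_one_iff _).mpr hx))
      exact congrArg Subtype.val h2
    have hXsol' : Group.IsSolvable (X.map (QuotientGroup.mk' N)) :=
      Group.isSolvable_of_surjective (f := (QuotientGroup.mk' N).subgroupMap X)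
        ((QuotientGroup.mk' N).subgroupMap_surjective X)
    have hlift := inf_centralizer_map_le hNX hRpg hrN
    obtain ⟨M', hM'n, hM'X, hM'p, hDM'⟩ := ih _ hlt (Γ ⧸ N) _ _ _ rfl hq' hXsol' p hp
      (D.map (QuotientGroup.mk' N))
      (le_inf (Subgroup.map_mono (hD.trans inf_le_left)) (by
        rintro _ ⟨d, hd', rfl⟩
        rw [Subgroup.mem_centralizer_iff]
        rintro _ ⟨a, ha, rfl⟩
        rw [← map_mul, ← map_mul, Subgroup.mem_centralizer_iff.mp (hD hd').2 a ha]))
      (hlift.trans ((Subgroup.map_mono hDn).trans (Subgroup.le_normalizer_map _)))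
      (hDp.map _)
    -- the preimage
    let L : Subgroup Γ := M'.comap (QuotientGroup.mk' N)
    have hLn : L.Normal := hM'n.comap _
    have hNL : N ≤ L := by
      intro x hx
      show QuotientGroup.mk' N x ∈ M'
      rw [(QuotientGroup.eq_one_iff (N := N) x).mpr hx |> fun h => (h : QuotientGroup.mk' N x = 1)]
      exact M'.one_mem
    have hLX : L ≤ X := by
      intro x hx
      obtain ⟨y, hy, hxy⟩ := hM'X hx
      have h1 : y⁻¹ * x ∈ N := QuotientGroup.eq.mp hxy
      have h2 : x = y * (y⁻¹ * x) := by group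
      rw [h2]
      exact X.mul_mem hy (hNX h1)
    have hDL : D ≤ L := fun d hd' => hDM' (Subgroup.mem_map_of_mem _ hd')
    by_cases hqp : q = p
    · subst hqp
      refine ⟨L, hLn, hLX, ?_, hDL⟩
      refine hM'p.comap_of_ker_isPGroup _ ?_
      rw [QuotientGroup.ker_mk']
      exact hNq
    have hpq : p ≠ q := Ne.symm hqp
    -- an invariant Sylow subgroup
    have hFX := coprime_of_not_dvd hs hd.hF hd.hsX
    have hRX : (Nat.card R).Coprime (Nat.card X) := (Nat.Prime.coprime_iff_not_dvd hd.hR).mpr hd.hrX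
    have hRFn : F ⊔ R ≤ normalizer (F : Set Γ) := sup_le Subgroup.le_normalizer hd.hRF
    have hcardFR : (Nat.card ↥(F ⊔ R)).Coprime (Nat.card X) := by
      have h1 : Nat.card ↥(F ⊔ R) ∣ Nat.card F * Nat.card R :=
        SignalizersComponents.CoprimeBasic.card_sup_dvd hd.hRF
      exact Nat.Coprime.coprime_dvd_left h1 (Nat.Coprime.mul_left hFX hRX)
    have hLsol : Group.IsSolvable L :=
      Group.isSolvable_of_isSolvable_injective (Subgroup.inclusion_injective hLX)
    obtain ⟨P0, hP0⟩ := S0023.result (F ⊔ R) L (by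
      rw [Subgroup.normalizer_eq_top_iff.mpr hLn]; exact le_top)
      (Nat.Coprime.coprime_dvd_right (Subgroup.card_dvd_of_le hLX) hcardFR) (Or.inr hLsol) p
    let P : Subgroup Γ := (P0 : Subgroup L).map L.subtype
    have hPL : P ≤ L := Subgroup.map_subtype_le _
    have hPp : IsPGroup p P := P0.isPGroup'.map _
    have hFP : F ≤ normalizer (P : Set Γ) := le_sup_left.trans hP0
    have hRP : R ≤ normalizer (P : Set Γ) := le_sup_right.trans hP0
    have hNP : N ⊔ P = L := by
      refine le_antisymm (sup_le hNL hPL) ?_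
      rw [← Subgroup.relIndex_eq_one]
      have h1 : (N ⊔ P).relIndex L ∣ (P0 : Subgroup L).index := by
        have h2 : P.relIndex L = (P0 : Subgroup L).index := by
          show (((P0 : Subgroup L).map L.subtype).comap L.subtype).index = _
          rw [Subgroup.comap_map_eq_self_of_injective L.subtype_injective]
        rw [← h2]
        exact Subgroup.relIndex_dvd_of_le_left L le_sup_right
      have h3 : (N ⊔ P).relIndex L ∣ Nat.card M' := by
        refine (Subgroup.relIndex_dvd_of_le_left L (le_sup_left : N ≤ N ⊔ P)).trans ?_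
        have h4 : N = (⊥ : Subgroup (Γ ⧸ N)).comap (QuotientGroup.mk' N) := by
          rw [MonoidHom.comap_bot, QuotientGroup.ker_mk']
        have h5 : N.relIndex L = (⊥ : Subgroup (Γ ⧸ N)).relIndex (L.map (QuotientGroup.mk' N)) := by
          conv_lhs => rw [h4]
          rw [Subgroup.relIndex_comap]
        rw [h5, Subgroup.relIndex_bot_left]
        exact Subgroup.card_dvd_of_le (Subgroup.map_comap_le _ _)
      obtain ⟨k, hk⟩ := hM'p.exists_card_eq
      rw [hk] at h3
      have h6 : (p ^ k).Coprime (P0 : Subgroup L).index :=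
        Nat.Coprime.pow_left _ ((Nat.Prime.coprime_iff_not_dvd hp).mpr P0.not_dvd_index)
      exact Nat.dvd_one.mp (h6 ▸ Nat.dvd_gcd h3 h1)
    -- `D` centralizes `C_N(R)`
    have hDC : ∀ d ∈ D, ∀ v ∈ N, v ∈ centralizer (R : Set Γ) → d * v = v * d := by
      intro d hd' v hv hvR
      have h1 : d * v * d⁻¹ * v⁻¹ ∈ D ⊓ N := by
        constructor
        · have h2 : v * d⁻¹ * v⁻¹ ∈ D :=
            conj_mem_of_le_normalizer hDn ⟨hNX hv, hvR⟩ (D.inv_mem hd')
          have h3 : d * v * d⁻¹ * v⁻¹ = d * (v * d⁻¹ * v⁻¹) := by group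
          rw [h3]
          exact D.mul_mem hd' h2
        · exact N.mul_mem (hNn.conj_mem v hv d) (N.inv_mem hv)
      have h2 : D ⊓ N = ⊥ := by
        rw [eq_bot_iff]
        rintro x ⟨hx1, hx2⟩
        obtain ⟨k, hk⟩ := hDp ⟨x, hx1⟩
        exact eq_one_of_pow hp hq hpq (congrArg Subtype.val hk) (hNexp x hx2)
      rw [h2, Subgroup.mem_bot, mul_inv_eq_one, mul_inv_eq_iff_eq_mul] at h1
      exact h1
    -- `D ≤ P`
    have hDP : D ≤ P := by
      intro d hd'
      have hdR : ∀ a ∈ R, a * d = d * a := fun a ha =>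
        Subgroup.mem_centralizer_iff.mp (hD hd').2 a ha
      obtain ⟨x, hx, y, hy, hxR, hyR, hxy⟩ :=
        SignalizersComponents.CoprimeBasic.exists_factorization_of_centralizing
          (p := Nat.card R) (X := N) (Y := P)
          (by rw [Subgroup.normalizer_eq_top_iff.mpr hNn]; exact le_top) R hRpg
          (fun a _ x hx => hNn.conj_mem x hx a)
          (fun a ha y hy => conj_mem_of_le_normalizer hRP ha hy)
          (fun h => hrN (h.trans (Subgroup.card_dvd_of_le inf_le_left))) d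
          (by rw [hNP]; exact hDL hd') hdR
      have h1 : d * x = x * d := hDC d hd' x hx (Subgroup.mem_centralizer_iff.mpr hxR)
      have hc : Commute d y := by
        have : y = x⁻¹ * d := by rw [← hxy]; group
        rw [this]
        exact (Commute.inv_right h1).mul_right (Commute.refl d)
      have hx1 : x = d * y⁻¹ := by rw [← hxy]; group
      obtain ⟨k, hk⟩ := hDp ⟨d, hd'⟩
      obtain ⟨l, hl⟩ := hPp ⟨y, hy⟩
      have hk' : d ^ p ^ k = 1 := congrArg Subtype.val hk
      have hl' : y ^ p ^ l = 1 := congrArg Subtype.val hl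
      have hx2 : x ^ p ^ (k + l) = 1 := by
        rw [hx1, (hc.inv_right).mul_pow, pow_add, pow_mul, hk', one_pow, inv_pow, mul_comm (p ^ k),
          pow_mul, hl', one_pow, inv_one, one_mul]
      have hx3 : x = 1 := eq_one_of_pow hp hq hpq hx2 (hNexp x hx)
      rw [← hxy, hx3, one_mul]
      exact hy
    have hcent : ∀ d ∈ D, ∀ v ∈ N, d * v = v * d := by
      intro d hd'
      refine GroupM.group_lemma hpq hps hsq (fun x hx y hy => hNab x hx y hy) hNexp hPp hd.hF hd.hR
        hRp hd.hRs hRq hRP hd.hRF hFP hd.hCR ?_ ?_ (hDP hd') (hD hd').2 (hDC d hd')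
      · rw [eq_bot_iff, ← hd.hCX]
        exact inf_le_inf_right _ (hPL.trans hLX)
      · rw [eq_bot_iff, ← hd.hCX]
        exact inf_le_inf_right _ hNX
    -- the normal `p`-subgroup
    refine ⟨P ⊓ centralizer (N : Set Γ), ?_, inf_le_left.trans (hPL.trans hLX),
      hPp.to_le inf_le_left, le_inf hDP fun d hd' => Subgroup.mem_centralizer_iff.mpr fun v hv =>
        (hcent d hd' v hv).symm⟩
    refine ⟨fun x hx g => ?_⟩
    have hCn : (centralizer (N : Set Γ)).Normal := inferInstance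
    have hgC : g * x * g⁻¹ ∈ centralizer (N : Set Γ) := hCn.conj_mem x hx.2 g
    have hgL : g * x * g⁻¹ ∈ L := hLn.conj_mem x (hPL hx.1) g
    refine ⟨?_, hgC⟩
    rw [← hNP] at hgL
    obtain ⟨a, ha, b, hb, hab⟩ := (SignalizersComponents.CoprimeBasic.mem_sup_iff
      (X := N) (Y := P) (by rw [Subgroup.normalizer_eq_top_iff.mpr hNn]; exact le_top) _).mp hgL
    obtain ⟨k, hk⟩ := hPp ⟨x, hx.1⟩
    obtain ⟨l, hl⟩ := hPp ⟨b, hb⟩
    have hk' : x ^ p ^ k = 1 := congrArg Subtype.val hk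
    have hl' : b ^ p ^ l = 1 := congrArg Subtype.val hl
    have hc1 : Commute (g * x * g⁻¹) a :=
      ((Subgroup.mem_centralizer_iff.mp hgC a ha).symm : _)
    have hc : Commute (g * x * g⁻¹) b := by
      have : b = a⁻¹ * (g * x * g⁻¹) := by rw [← hab]; group
      rw [this]
      exact (Commute.inv_right hc1).mul_right (Commute.refl _)
    have ha1 : a = (g * x * g⁻¹) * b⁻¹ := by rw [← hab]; group
    have ha2 : a ^ p ^ (k + l) = 1 := by
      rw [ha1, (hc.inv_right).mul_pow, conj_pow, pow_add, pow_mul, hk', one_pow, mul_one,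
        mul_inv_cancel, inv_pow, mul_comm (p ^ k), pow_mul, hl', one_pow, inv_one, one_mul]
    have ha3 : a = 1 := eq_one_of_pow hp hq hpq ha2 (hNexp a ha)
    rw [← hab, ha3, one_mul]
    exact hb

end Cfsg.Agent.H575.Core
end

-- part: H575/Extra
section
/-!
# An element of prime order acting on an extraspecial group `F` with `[F, R] = F`, and the
# Fitting subgroup of the fixed points
-/

set_option autoImplicit false
set_option linter.unusedSectionVars false

universe u

open Subgroup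
open scoped commutatorElement

namespace Cfsg.Agent.H575.Extra

open Cfsg.Agent.H575.ModM Cfsg.Agent.H575.Core

theorem ne_of_commutator_eq {Γ : Type u} [Group Γ] [Finite Γ] {R F : Subgroup Γ} {r s : ℕ}
    (hs : s.Prime) (hR : Nat.card R = r) (hF : IsPGroup s F) (hFbot : F ≠ ⊥)
    (hRF : R ≤ normalizer (F : Set Γ)) (hcomm : ⁅F, R⁆ = F) : r ≠ s := by
  rintro rfl
  have : Fact r.Prime := ⟨hs⟩
  obtain ⟨k, hk⟩ := hF.exists_card_eq
  have h1 : Nat.card ↥(F ⊔ R) ∣ r ^ (k + 1) := by
    rw [pow_succ, ← hk, ← hR, hR]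
    have := SignalizersComponents.CoprimeBasic.card_sup_dvd hRF
    rwa [hR] at this
  have h2 : IsPGroup r ↥(F ⊔ R) := by
    obtain ⟨l, -, hl⟩ := (Nat.dvd_prime_pow hs).mp h1
    exact IsPGroup.of_card hl
  have h3 : Group.IsNilpotent ↥(F ⊔ R) := h2.isNilpotent
  obtain ⟨n, hn⟩ := (Subgroup.isNilpotent_iff_lowerCentralSeries (F ⊔ R)).mp h3
  have h4 : ∀ m : ℕ, F ≤ (F ⊔ R).lowerCentralSeries m := by
    intro m
    induction m with
    | zero => exact le_sup_left
    | succ m ih =>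
      rw [Subgroup.lowerCentralSeries_succ]
      conv_lhs => rw [← hcomm]
      exact Subgroup.commutator_mono ih le_sup_right
  exact hFbot (le_bot_iff.mp (hn ▸ h4 n))

/-- `C_F(R) ≤ Z(F)` if `[F, R] = F`, `F' ≤ Z(F)` and the orders are coprime. -/
theorem cent_le {Γ : Type u} [Group Γ] [Finite Γ] {R F : Subgroup Γ} {s : ℕ}
    (hRs : (Nat.card R).Coprime s) (hF : IsPGroup s F)
    (hab : ∀ x y : F, x * y * x⁻¹ * y⁻¹ ∈ center F)
    (hRF : R ≤ normalizer (F : Set Γ)) (hcomm : ⁅F, R⁆ = F) :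
    F ⊓ centralizer (R : Set Γ) ≤ (center F).map F.subtype := by
  classical
  let inst : CommGroup (F ⧸ center F) := { (inferInstance : Group (F ⧸ center F)) with
    mul_comm := by
      intro x y
      induction x using QuotientGroup.induction_on with | H x => ?_
      induction y using QuotientGroup.induction_on with | H y => ?_
      change ((x * y : F) : F ⧸ center F) = ((y * x : F) : F ⧸ center F)
      rw [QuotientGroup.eq]
      have h := hab y⁻¹ x⁻¹
      have h2 : (x * y)⁻¹ * (y * x) = y⁻¹ * x⁻¹ * y⁻¹⁻¹ * x⁻¹⁻¹ := by group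
      rw [h2]
      exact h }
  have : Fintype R := Fintype.ofFinite R
  let N : F →* F ⧸ center F :=
    { toFun := fun x => ∏ a : R, QuotientGroup.mk' (center F)
        ⟨a * x * (a : Γ)⁻¹, conj_mem_of_le_normalizer hRF a.2 x.2⟩
      map_one' := by
        refine Finset.prod_eq_one fun a _ => ?_
        have : (⟨a * ((1 : F) : Γ) * (a : Γ)⁻¹, conj_mem_of_le_normalizer hRF a.2 (1 : F).2⟩ : F) = 1 := by
          refine Subtype.ext ?_
          show (a : Γ) * 1 * (a : Γ)⁻¹ = 1
          group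
        rw [this, map_one]
      map_mul' := by
        intro x y
        rw [← Finset.prod_mul_distrib]
        refine Finset.prod_congr rfl fun a _ => ?_
        rw [← map_mul]
        refine congrArg _ (Subtype.ext ?_)
        show (a : Γ) * (x * y) * (a : Γ)⁻¹ = a * x * (a : Γ)⁻¹ * (a * y * (a : Γ)⁻¹)
        group }
  have hN : ∀ x : F, N x = ∏ a : R, QuotientGroup.mk' (center F)
        ⟨a * x * (a : Γ)⁻¹, conj_mem_of_le_normalizer hRF a.2 x.2⟩ := fun x => rfl
  have hNconj : ∀ (x : F) (b : R), N ⟨b * x * (b : Γ)⁻¹, conj_mem_of_le_normalizer hRF b.2 x.2⟩ = N x := by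
    intro x b
    rw [hN, hN]
    refine Fintype.prod_equiv (Equiv.mulRight b) _ _ fun a => ?_
    refine congrArg _ (Subtype.ext ?_)
    show (a : Γ) * (b * x * (b : Γ)⁻¹) * (a : Γ)⁻¹ = ((a * b : R) : Γ) * x * ((a * b : R) : Γ)⁻¹
    rw [Subgroup.coe_mul]
    group
  have hker : ⁅F, R⁆ ≤ N.ker.map F.subtype := by
    rw [Subgroup.commutator_le]
    intro x hx b hb
    let x' : F := ⟨x, hx⟩
    let y' : F := ⟨b * x * b⁻¹, conj_mem_of_le_normalizer hRF hb hx⟩
    refine ⟨x' * y'⁻¹, ?_, ?_⟩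
    · show N (x' * y'⁻¹) = 1
      rw [map_mul, map_inv, mul_inv_eq_one]
      exact (hNconj x' ⟨b, hb⟩).symm
    · show x * (b * x * b⁻¹)⁻¹ = ⁅x, b⁆
      rw [commutatorElement_def]
      group
  have hN1 : ∀ x : F, N x = 1 := by
    intro x
    have h1 : (x : Γ) ∈ N.ker.map F.subtype := by
      apply hker
      rw [hcomm]
      exact x.2
    obtain ⟨y, hy, hxy⟩ := h1
    have : y = x := Subtype.ext hxy
    rw [← this]
    exact hy
  rintro x ⟨hxF, hxR⟩
  refine ⟨⟨x, hxF⟩, ?_, rfl⟩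
  have h1 := hN1 ⟨x, hxF⟩
  rw [hN] at h1
  have h2 : ∀ a : R, QuotientGroup.mk' (center F)
        ⟨a * ((⟨x, hxF⟩ : F) : Γ) * (a : Γ)⁻¹, conj_mem_of_le_normalizer hRF a.2 (⟨x, hxF⟩ : F).2⟩ =
        QuotientGroup.mk' (center F) ⟨x, hxF⟩ := by
    intro a
    refine congrArg _ (Subtype.ext ?_)
    show (a : Γ) * x * (a : Γ)⁻¹ = x
    rw [Subgroup.mem_centralizer_iff.mp hxR a a.2]
    group
  rw [Finset.prod_congr rfl fun a _ => h2 a, Finset.prod_const, Finset.card_univ,
    ← Nat.card_eq_fintype_card] at h1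
  obtain ⟨k, hk⟩ := hF ⟨x, hxF⟩
  have h3 : (QuotientGroup.mk' (center F) ⟨x, hxF⟩) ^ s ^ k = 1 := by
    rw [← map_pow, hk, map_one]
  have h4 := (Nat.Coprime.pow_right k hRs)
  have h5 : orderOf (QuotientGroup.mk' (center F) ⟨x, hxF⟩) ∣ 1 := by
    rw [← h4]
    exact Nat.dvd_gcd (orderOf_dvd_of_pow_eq_one h1) (orderOf_dvd_of_pow_eq_one h3)
  have h6 := orderOf_eq_one_iff.mp (Nat.dvd_one.mp h5)
  exact (QuotientGroup.eq_one_iff _).mp h6

/-- The consequences of the hypotheses on an extraspecial group. -/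
theorem extra_facts {Γ : Type u} [Group Γ] [Finite Γ] {R F X : Subgroup Γ} {r s : ℕ}
    (hr : r.Prime) (hs : s.Prime)
    (hR : Nat.card R = r) (hF : Cfsg.IsExtraspecial s F)
    (hRF : R ≤ normalizer (F : Set Γ)) (hcomm : ⁅F, R⁆ = F) (hFX : F ≤ normalizer (X : Set Γ))
    (hCF : X ⊓ centralizer (F : Set Γ) = ⊥) :
    r ≠ s ∧ Nat.card ↥(F ⊓ centralizer (R : Set Γ)) ∣ s ∧ ¬ s ∣ Nat.card X := by
  have : Fact s.Prime := ⟨hs⟩
  have hFbot : F ≠ ⊥ := by
    rintro rfl
    have h1 : Nat.card (center (⊥ : Subgroup Γ)) = 1 := by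
      have h2 := Subgroup.card_le_card_group (center (⊥ : Subgroup Γ))
      rw [Subgroup.card_bot] at h2
      exact le_antisymm h2 Nat.card_pos
    rw [hF.2] at h1
    exact hs.one_lt.ne' h1
  have hrs := ne_of_commutator_eq hs hR hF.1.1 hFbot hRF hcomm
  refine ⟨hrs, ?_, ?_⟩
  · have h1 := cent_le (s := s) (by rw [hR]; exact (Nat.coprime_primes hr hs).mpr hrs) hF.1.1
      (by
        intro x y
        rw [← hF.1.2.2]
        exact Subgroup.commutator_mem_commutator (Subgroup.mem_top x) (Subgroup.mem_top y)) hRF hcomm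
    refine (Subgroup.card_dvd_of_le h1).trans ?_
    rw [Subgroup.card_map_of_injective F.subtype_injective, hF.2]
  · intro hsX
    -- fixed points of `F` on `X`
    let A : MulAction F X :=
      { smul := fun f x => ⟨f * x * (f : Γ)⁻¹, conj_mem_of_le_normalizer hFX f.2 x.2⟩
        one_smul := fun x => Subtype.ext (by
          show ((1 : F) : Γ) * x * ((1 : F) : Γ)⁻¹ = x
          simp)
        mul_smul := fun a b x => Subtype.ext (by
          show ((a * b : F) : Γ) * x * ((a * b : F) : Γ)⁻¹ = a * (b * x * (b : Γ)⁻¹) * (a : Γ)⁻¹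
          rw [Subgroup.coe_mul]
          group) }
    have hsm : ∀ (f : F) (x : X), ((f • x : X) : Γ) = f * x * (f : Γ)⁻¹ := fun f x => rfl
    obtain ⟨z, hz, hne⟩ := hF.1.1.exists_fixed_point_of_prime_dvd_card_of_fixed_point (α := X)
      hsX (a := 1) (fun f => Subtype.ext (by rw [hsm]; simp))
    have h1 : (z : Γ) ∈ X ⊓ centralizer (F : Set Γ) := by
      refine ⟨z.2, Subgroup.mem_centralizer_iff.mpr fun f hf => ?_⟩
      have h2 := congrArg Subtype.val (hz ⟨f, hf⟩)
      rw [hsm] at h2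
      exact mul_inv_eq_iff_eq_mul.mp h2
    rw [hCF, Subgroup.mem_bot] at h1
    exact hne (Subtype.ext h1.symm)

theorem inf_centralizer_subgroupOf {Γ : Type u} [Group Γ] {A B H : Subgroup Γ} (hB : B ≤ H) :
    A.subgroupOf H ⊓ centralizer (B.subgroupOf H : Set H) =
      (A ⊓ centralizer (B : Set Γ)).subgroupOf H := by
  ext x
  constructor
  · rintro ⟨h1, h2⟩
    refine ⟨h1, Subgroup.mem_centralizer_iff.mpr fun b hb => ?_⟩
    exact congrArg Subtype.val (Subgroup.mem_centralizer_iff.mp h2 ⟨b, hB hb⟩ hb)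
  · rintro ⟨h1, h2⟩
    refine ⟨h1, Subgroup.mem_centralizer_iff.mpr fun b hb => Subtype.ext ?_⟩
    exact Subgroup.mem_centralizer_iff.mp h2 b hb

theorem subgroupOf_le_normalizer {Γ : Type u} [Group Γ] [Finite Γ] {A B H : Subgroup Γ}
    (hAB : A ≤ normalizer (B : Set Γ)) :
    A.subgroupOf H ≤ normalizer (B.subgroupOf H : Set H) := by
  refine le_normalizer_of_conj fun a ha b hb => ?_
  exact conj_mem_of_le_normalizer hAB ha hb

/-- The data in the normalizer of `X`. -/
theorem data_normalizer {Γ : Type u} [Group Γ] [Finite Γ] {R F X : Subgroup Γ} {s : ℕ}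
    (hF : IsPGroup s F) (hR : (Nat.card R).Prime) (hRs : Nat.card R ≠ s)
    (hRF : R ≤ normalizer (F : Set Γ)) (hRX : R ≤ normalizer (X : Set Γ))
    (hFX : F ≤ normalizer (X : Set Γ))
    (hCR : Nat.card ↥(F ⊓ centralizer (R : Set Γ)) ∣ s)
    (hsX : ¬ s ∣ Nat.card X) (hrX : ¬ Nat.card R ∣ Nat.card X)
    (hCF : X ⊓ centralizer (F : Set Γ) = ⊥) :
    Data (X.subgroupOf (normalizer (X : Set Γ))) (F.subgroupOf (normalizer (X : Set Γ)))
      (R.subgroupOf (normalizer (X : Set Γ))) s := by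
  have hXH : X ≤ normalizer (X : Set Γ) := Subgroup.le_normalizer
  have hcard : ∀ {K : Subgroup Γ}, K ≤ normalizer (X : Set Γ) →
      Nat.card (K.subgroupOf (normalizer (X : Set Γ))) = Nat.card K := fun hK =>
    Nat.card_congr (Subgroup.subgroupOfEquivOfLe hK).toEquiv
  refine ⟨Subgroup.normal_in_normalizer, hF.comap_of_injective _ (Subgroup.subtype_injective _),
    ?_, ?_, subgroupOf_le_normalizer hRF, ?_, ?_, ?_, ?_⟩
  · rw [hcard hRX]; exact hR
  · rw [hcard hRX]; exact hRs
  · rw [inf_centralizer_subgroupOf hRX, hcard (inf_le_left.trans hFX)]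
    exact hCR
  · rw [hcard hXH]; exact hsX
  · rw [hcard hRX, hcard hXH]; exact hrX
  · rw [inf_centralizer_subgroupOf hFX, hCF]
    exact Subgroup.bot_subgroupOf _

/-- The core lemma without normality of `X` in the whole group. -/
theorem exists_p_subgroup {Γ : Type u} [Group Γ] [Finite Γ] {R F X : Subgroup Γ} {s : ℕ}
    (hs : s.Prime) (hF : IsPGroup s F) (hR : (Nat.card R).Prime) (hRs : Nat.card R ≠ s)
    (hRF : R ≤ normalizer (F : Set Γ)) (hRX : R ≤ normalizer (X : Set Γ))
    (hFX : F ≤ normalizer (X : Set Γ))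
    (hCR : Nat.card ↥(F ⊓ centralizer (R : Set Γ)) ∣ s)
    (hsX : ¬ s ∣ Nat.card X) (hrX : ¬ Nat.card R ∣ Nat.card X)
    (hCF : X ⊓ centralizer (F : Set Γ) = ⊥) (hsol : Group.IsSolvable X) {p : ℕ} (hp : p.Prime)
    {D : Subgroup Γ} (hD : D ≤ X ⊓ centralizer (R : Set Γ))
    (hDn : X ⊓ centralizer (R : Set Γ) ≤ normalizer (D : Set Γ)) (hDp : IsPGroup p D) :
    ∃ M : Subgroup Γ, X ≤ normalizer (M : Set Γ) ∧ F ≤ normalizer (M : Set Γ) ∧
      R ≤ normalizer (M : Set Γ) ∧ M ≤ X ∧ IsPGroup p M ∧ D ≤ M := by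
  let H : Subgroup Γ := normalizer (X : Set Γ)
  have hXH : X ≤ H := Subgroup.le_normalizer
  have hd := data_normalizer hF hR hRs hRF hRX hFX hCR hsX hrX hCF
  have hsol' : Group.IsSolvable (X.subgroupOf H) :=
    Group.isSolvable_of_isSolvable_injective (f := (Subgroup.subgroupOfEquivOfLe hXH).toMonoidHom)
      (Subgroup.subgroupOfEquivOfLe hXH).injective
  obtain ⟨M, hMn, hMX, hMp, hDM⟩ := core_aux s hs _ H _ _ _ rfl hd hsol' p hp (D.subgroupOf H)
    (by
      rw [inf_centralizer_subgroupOf hRX]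
      exact Subgroup.comap_mono hD)
    (by
      rw [inf_centralizer_subgroupOf hRX]
      exact subgroupOf_le_normalizer hDn)
    (hDp.comap_of_injective _ H.subtype_injective)
  have hMH : H ≤ normalizer ((M.map H.subtype : Subgroup Γ) : Set Γ) := by
    refine le_normalizer_of_conj ?_
    rintro g hg _ ⟨m, hm, rfl⟩
    exact ⟨(⟨g, hg⟩ * m * ⟨g, hg⟩⁻¹ :), hMn.conj_mem m hm ⟨g, hg⟩, rfl⟩
  refine ⟨M.map H.subtype, hXH.trans hMH, hFX.trans hMH, hRX.trans hMH, ?_, hMp.map _, ?_⟩
  · rintro _ ⟨m, hm, rfl⟩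
    exact hMX hm
  · intro d hd'
    exact ⟨⟨d, hXH (hD hd').1⟩, hDM hd', rfl⟩

/-- The Fitting subgroup of the fixed points lies in the Fitting subgroup. -/
theorem fitting_le {Γ : Type u} [Group Γ] [Finite Γ] {R F X : Subgroup Γ} {s : ℕ}
    (hs : s.Prime) (hF : IsPGroup s F) (hR : (Nat.card R).Prime) (hRs : Nat.card R ≠ s)
    (hRF : R ≤ normalizer (F : Set Γ)) (hRX : R ≤ normalizer (X : Set Γ))
    (hFX : F ≤ normalizer (X : Set Γ))
    (hCR : Nat.card ↥(F ⊓ centralizer (R : Set Γ)) ∣ s)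
    (hsX : ¬ s ∣ Nat.card X) (hrX : ¬ Nat.card R ∣ Nat.card X)
    (hCF : X ⊓ centralizer (F : Set Γ) = ⊥) (hsol : Group.IsSolvable X) :
    (Cfsg.fittingSubgroup ↥(X ⊓ centralizer (R : Set Γ))).map (X ⊓ centralizer (R : Set Γ)).subtype ≤
      (Cfsg.fittingSubgroup X).map X.subtype := by
  rw [Lib.Cores.fittingSubgroup_eq_iSup_pCore, Subgroup.map_iSup]
  refine iSup_le fun p => ?_
  let C : Subgroup Γ := X ⊓ centralizer (R : Set Γ)
  have hCn : C ≤ normalizer (((Cfsg.pCore p C).map C.subtype : Subgroup Γ) : Set Γ) := by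
    refine le_normalizer_of_conj ?_
    rintro g hg _ ⟨m, hm, rfl⟩
    exact ⟨(⟨g, hg⟩ * m * ⟨g, hg⟩⁻¹ :),
      (Lib.Cores.pCore_normal (G := C) (p : ℕ)).conj_mem m hm ⟨g, hg⟩, rfl⟩
  obtain ⟨M, hXM, -, -, hMX, hMp, hDM⟩ := exists_p_subgroup hs hF hR hRs hRF hRX hFX hCR hsX hrX hCF
    hsol p.2 (Subgroup.map_subtype_le (Cfsg.pCore p C)) hCn ((Lib.Cores.pCore_isPGroup (p : ℕ)).map _)
  refine hDM.trans ?_
  have h1 : M.subgroupOf X ≤ Cfsg.fittingSubgroup X := by
    have : Fact (p : ℕ).Prime := ⟨p.2⟩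
    have h2 : (M.subgroupOf X).Normal := (Subgroup.normal_subgroupOf_iff_le_normalizer hMX).mpr hXM
    refine (Lib.Cores.le_pCore h2 ?_).trans (Lib.Cores.pCore_le_fittingSubgroup (p : ℕ))
    exact hMp.comap_of_injective _ X.subtype_injective
  intro x hx
  exact ⟨⟨x, hMX hx⟩, h1 hx, rfl⟩

end Cfsg.Agent.H575.Extra
end

-- part: H575/Solv
section
/-!
# Solvability from a fixed-point-free coprime action of an `s`-group
-/

set_option autoImplicit false
set_option linter.unusedSectionVars false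

universe u

open Subgroup

namespace Cfsg.Agent.H575.Solv

open Cfsg.Agent.H575.ModM Cfsg.Agent.H575.Core

theorem solvable_of_fpf {Γ : Type u} [Group Γ] [Finite Γ] {F X : Subgroup Γ} {s : ℕ}
    (hs : s.Prime) (hF : IsPGroup s F) (hFX : F ≤ normalizer (X : Set Γ))
    (hsX : ¬ s ∣ Nat.card X) (hCF : X ⊓ centralizer (F : Set Γ) = ⊥) : Group.IsSolvable X := by
  let A : MulDistribMulAction F X :=
    { smul := fun f x => ⟨f * x * (f : Γ)⁻¹, conj_mem_of_le_normalizer hFX f.2 x.2⟩
      one_smul := fun x => Subtype.ext (by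
        show ((1 : F) : Γ) * x * ((1 : F) : Γ)⁻¹ = x
        simp)
      mul_smul := fun a b x => Subtype.ext (by
        show ((a * b : F) : Γ) * x * ((a * b : F) : Γ)⁻¹ = a * (b * x * (b : Γ)⁻¹) * (a : Γ)⁻¹
        rw [Subgroup.coe_mul]
        group)
      smul_one := fun a => Subtype.ext (by
        show (a : Γ) * ((1 : X) : Γ) * (a : Γ)⁻¹ = ((1 : X) : Γ)
        simp)
      smul_mul := fun a x y => Subtype.ext (by
        show (a : Γ) * ((x * y : X) : Γ) * (a : Γ)⁻¹ = (a * x * (a : Γ)⁻¹) * (a * y * (a : Γ)⁻¹)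
        rw [Subgroup.coe_mul]
        group) }
  have hsm : ∀ (f : F) (x : X), ((f • x : X) : Γ) = f * x * (f : Γ)⁻¹ := fun f x => rfl
  have hbot : FixedPoints.subgroup F X = ⊥ := by
    rw [eq_bot_iff]
    intro x hx
    have h1 : (x : Γ) ∈ X ⊓ centralizer (F : Set Γ) := by
      refine ⟨x.2, Subgroup.mem_centralizer_iff.mpr fun f hf => ?_⟩
      have h2 := congrArg Subtype.val (hx ⟨f, hf⟩)
      rw [hsm] at h2
      exact mul_inv_eq_iff_eq_mul.mp h2
    rw [hCF, Subgroup.mem_bot] at h1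
    exact Subtype.ext h1
  refine S4319.result (A := F) (G := X) (coprime_of_not_dvd hs hF hsX).symm (Or.inr ?_)
  rw [hbot, Subgroup.card_bot]
  exact odd_one

end Cfsg.Agent.H575.Solv
end
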