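import Cfsg.Agent.H575.KLCore
import Mathlib
set_option linter.all false

-- part: H575/KL
section
/-!
# Elements acting nontrivially act nontrivially on the fixed points of `R` in `[V, P, R]`
-/

set_option autoImplicit false
set_option linter.unusedSectionVars false
set_option linter.unusedVariables false

namespace Cfsg.Agent.H575.KL

open Module Subgroup Cfsg.Agent.H575.Dim Cfsg.Agent.H575.Weights Cfsg.Agent.H575.Sect
  Cfsg.Agent.H575.Fix Cfsg.Agent.H575.Lev Cfsg.Agent.H575.ModM Cfsg.Agent.H575.Tower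
  Cfsg.Agent.H575.Mult Cfsg.Agent.H575.HA
open scoped commutatorElement

variable {E : Type*} [Field E] [IsAlgClosed E] {G V : Type*} [Group G] [Finite G]
  [AddCommGroup V] [Module E V] [FiniteDimensional E V] {P Z A R : Subgroup G} {r s q : ℕ}

theorem cop_s (h : LD P Z A R r s q) {H : Subgroup G} {p : ℕ} (hp : p.Prime) (hps : p ≠ s)
    (hH : IsPGroup p H) : (Nat.card H).Coprime s := by
  have : Fact p.Prime := ⟨hp⟩
  obtain ⟨k, hk⟩ := hH.exists_card_eq
  rw [hk]
  exact Nat.Coprime.pow_left _ ((Nat.coprime_primes hp h.hs).mpr hps)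

theorem cent_inv (h : LD P Z A R r s q) {μ : G → E} : ∀ g ∈ A, ∀ z ∈ Z, μ (g * z * g⁻¹) = μ z := by
  intro g hg z hz
  rw [← h.hZA z hz g hg, mul_inv_cancel_right]

/-- the form is not zero on `[P, R]` -/
theorem exists_BB (h : LD P Z A R r s q) {μ : G → E} (h1 : μ 1 = 1)
    (h2 : ∀ a ∈ Z, ∀ b ∈ Z, μ (a * b) = μ a * μ b)
    (hRμ : ∀ g ∈ R, ∀ z ∈ Z, μ (g * z * g⁻¹) = μ z)
    (hne : ∃ x ∈ ⁅P, A⁆, ∃ y ∈ P, μ ⁅x, y⁆ ≠ 1) :
    ∃ b ∈ ⁅P, R⁆, ∃ b' ∈ ⁅P, R⁆, μ ⁅b, b'⁆ ≠ 1 := by
  have hAμ : ∀ g ∈ A, ∀ z ∈ Z, μ (g * z * g⁻¹) = μ z := cent_inv h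
  set N := rad h.hPP h.hZ μ h1 h2 with hN
  have hAN : A ≤ normalizer (N : Set G) := le_normalizer_rad h.hAP hAμ
  have hRN : R ≤ normalizer (N : Set G) := le_normalizer_rad h.hRP hRμ
  have hBP : ⁅P, R⁆ ≤ P := Lib.CoprimeCommutator.commutator_le_left h.hRP
  have hBne : ¬ ⁅P, R⁆ ≤ N := by
    intro hBN
    obtain ⟨x, hx, y, hy, hxy⟩ := hne
    apply hxy
    have h3 : R ≤ cmod P N := fun a ha => ⟨hRN ha, fun y hy => by
      have h4 : ⁅a, y⁆ = ⁅y, a⁆⁻¹ := (commutatorElement_inv y a).symm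
      rw [h4]
      exact N.inv_mem (hBN (commutator_mem_commutator hy ha))⟩
    have h4 : A ≤ cmod P N := by
      rw [← h.hcomm]
      exact commutator_le_cmod h3 h.hAP hAN
    have h5 : ⁅P, A⁆ ≤ N := by
      rw [commutator_le]
      intro u hu a ha
      have h6 : ⁅u, a⁆ = ⁅a, u⁆⁻¹ := (commutatorElement_inv a u).symm
      rw [h6]
      exact N.inv_mem ((h4 ha).2 u hu)
    exact (h5 hx).2 y hy
  by_contra hc
  push Not at hc
  apply hBne
  intro b hb
  refine ⟨hBP hb, ?_⟩
  exact ndg_beta h.hPP h.hZ h.hPs h1 h2 le_rfl h.hRP hRμ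
    (cop_s h h.hr h.hrs (isPGroup_R h)) hb (hc b hb)

/-- fixed vectors of `R` in the weight space are in the commutator space -/
theorem wt_le_br_of_BB (h : LD P Z A R r s q) {π : Representation E G V} {μ : G → E}
    (hBB : ∃ b ∈ ⁅P, R⁆, ∃ b' ∈ ⁅P, R⁆, μ ⁅b, b'⁆ ≠ 1) : wt π Z ⊤ μ ≤ br π ⁅P, R⁆ := by
  obtain ⟨b, hb, b', hb', hne⟩ := hBB
  have hBP : ⁅P, R⁆ ≤ P := Lib.CoprimeCommutator.commutator_le_left h.hRP
  intro v hv
  have hB : ⁅b, b'⁆ ∈ ⁅P, R⁆ := by
    rw [commutatorElement_def]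
    exact mul_mem (mul_mem (mul_mem hb hb') (inv_mem hb)) (inv_mem hb')
  exact mem_br_of_scal hB (hv.2 _ (h.hPP _ (hBP hb) _ (hBP hb'))) hne

theorem R_inv_iff (h : LD P Z A R r s q) {μ : G → E} {N : Subgroup G}
    (hinv : ∀ a ∈ R, Same N (cj a μ) μ) : ∀ g ∈ R, ∀ z ∈ N, μ (g * z * g⁻¹) = μ z := by
  intro g hg z hz
  have h1 := hinv g⁻¹ (R.inv_mem hg) z hz
  have h2 : μ (g⁻¹⁻¹ * z * g⁻¹) = μ z := h1
  rwa [inv_inv] at h2

theorem comm_inv (h : LD P Z A R r s q) {μ : G → E}
    (hRμ : ∀ g ∈ R, ∀ z ∈ Z, μ (g * z * g⁻¹) = μ z) {d : G} (hd : d ∈ P)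
    (hdR : d ∈ centralizer (R : Set G)) : ∀ g ∈ R, ∀ x ∈ P, μ ⁅d, g * x * g⁻¹⁆ = μ ⁅d, x⁆ := by
  intro g hg x hx
  have h1 : ⁅d, g * x * g⁻¹⁆ = g * ⁅d, x⁆ * g⁻¹ := by
    have h2 : g * d * g⁻¹ = d := by
      rw [mem_centralizer_iff.mp hdR g hg, mul_inv_cancel_right]
    calc ⁅d, g * x * g⁻¹⁆ = ⁅g * d * g⁻¹, g * x * g⁻¹⁆ := by rw [h2]
      _ = g * ⁅d, x⁆ * g⁻¹ := by
        simp only [commutatorElement_def]
        group
  rw [h1, hRμ g hg _ (h.hPP d hd x hx)]

/-- for `d` commuting with `R` the form `[d, -]` vanishes on `[P, R]` -/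
theorem comm_kills (h : LD P Z A R r s q) {μ : G → E} (h1 : μ 1 = 1)
    (h2 : ∀ a ∈ Z, ∀ b ∈ Z, μ (a * b) = μ a * μ b)
    (hRμ : ∀ g ∈ R, ∀ z ∈ Z, μ (g * z * g⁻¹) = μ z) {d : G} (hd : d ∈ P)
    (hdR : d ∈ centralizer (R : Set G)) : ∀ x ∈ ⁅P, R⁆, μ ⁅d, x⁆ = 1 := by
  refine kills h.hRP (fun x => μ ⁅d, x⁆) (by rw [commutatorElement_one_right, h1]) ?_ ?_
  · intro x hx y hy
    show μ ⁅d, x * y⁆ = μ ⁅d, x⁆ * μ ⁅d, y⁆
    rw [comm_mul_right h.hPP h.hZ hd hx hy, h2 _ (h.hPP d hd x hx) _ (h.hPP d hd y hy)]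
  · exact comm_inv h hRμ hd hdR

/-- the two elements commuting with `R` and a vector fixed by the first -/
theorem mu_eq_one_of_fixed (h : LD P Z A R r s q) {π : Representation E G V} {μ : G → E}
    (hBB : ∃ b ∈ ⁅P, R⁆, ∃ b' ∈ ⁅P, R⁆, μ ⁅b, b'⁆ ≠ 1) {v : V} (hv : v ∈ wt π Z ⊤ μ)
    (hv0 : v ≠ 0) (hvR : ∀ a ∈ R, π a v = v) {x t : G} (hx : x ∈ P) (ht : t ∈ P)
    (htR : t ∈ centralizer (R : Set G)) (hinv : Inv π ⁅P, R⁆ R x) : μ ⁅x, t⁆ = 1 := by
  have h1 : π x v = v := hinv v (wt_le_br_of_BB h hBB hv) hvR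
  have h2 : π t v ∈ wt π Z ⊤ μ := pres_wt_of_comm π h.hZ t ht v hv
  have h3 : π x (π t v) = π t v := by
    refine hinv _ (wt_le_br_of_BB h hBB h2) fun a ha => ?_
    rw [← mul_apply', mem_centralizer_iff.mp htR a ha, mul_apply', hvR a ha]
  have h4 : x * t = ⁅x, t⁆ * (t * x) := by
    simp only [commutatorElement_def]
    group
  have h5 : π t v = μ ⁅x, t⁆ • π t v := by
    conv_lhs => rw [← h3]
    rw [← mul_apply', h4, mul_apply', mul_apply' π t x, h1]
    exact h2.2 _ (h.hPP x hx t ht)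
  have h6 : (μ ⁅x, t⁆ - 1) • π t v = 0 := by rw [sub_smul, one_smul, ← h5, sub_self]
  have h7 : π t v ≠ 0 := by
    intro h0
    apply hv0
    rw [← inv_apply π t v, h0, map_zero]
  exact sub_eq_zero.mp ((smul_eq_zero.mp h6).resolve_right h7)

/-- weights not invariant under `R`: elements of `P` commuting with `R` and invisible act trivially -/
theorem trivial_of_noninv (h : LD P Z A R r s q) {π : Representation E G V} {μ : G → E}
    (hμ : ¬ ∀ a ∈ R, Same Z (cj a μ) μ) {d : G} (hd : d ∈ P)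
    (hdR : d ∈ centralizer (R : Set G)) (hinv : Inv π ⁅P, R⁆ R d) :
    ∀ w ∈ wt π Z ⊤ μ, π d w = w := by
  intro w hw
  have hRB : R ≤ normalizer ((⁅P, R⁆ : Subgroup G) : Set G) :=
    Lib.CoprimeCommutator.right_le_normalizer_commutator P R
  have hPB : P ≤ normalizer ((⁅P, R⁆ : Subgroup G) : Set G) :=
    Lib.CoprimeCommutator.left_le_normalizer_commutator P R
  have hwbr : w ∈ br π ⁅P, R⁆ := wt_le_br h.hRZ (commutator_mono h.hZP le_rfl) hμ hw
  refine trivial_of_not_fixed π (br π ⁅P, R⁆) (A := Z) (R := R) (pres_br hRB) h.hRZ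
    (by rw [h.hR]; exact h.hr) (pres_br hPB d hd) ?_ hdR (fun v hv hvR => hinv v hv hvR) μ hμ w
    ⟨hwbr, hw.2⟩
  intro a ha v _
  rw [← mul_apply', ← mul_apply', h.hZ a ha d hd]

/-- commutativity on the weight space -/
theorem comm_on_wt {π : Representation E G V} {μ : G → E} {a b : G} (hab : ⁅a, b⁆ ∈ Z)
    (h1 : μ ⁅a, b⁆ = 1) {w : V} (hw : π b (π a w) ∈ wt π Z ⊤ μ) : π a (π b w) = π b (π a w) := by
  have h2 : a * b = ⁅a, b⁆ * (b * a) := by
    simp only [commutatorElement_def]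
    group
  rw [← mul_apply' π a b, h2, mul_apply', mul_apply' π b a, hw.2 _ hab, h1, one_smul]

section Sum

open Classical in
/-- the product over `R` of the conjugates of a weight -/
theorem prod_kills (h : LD P Z A R r s q) {N : Subgroup G} (hNP : N ≤ P)
    (hRN : R ≤ normalizer (N : Set G)) [Fintype R] {l : G → E} (l1 : l 1 = 1)
    (lm : ∀ a ∈ N, ∀ b ∈ N, l (a * b) = l a * l b) {u : G} (hu : u ∈ N) :
    ∃ c ∈ N, c ∈ centralizer (R : Set G) ∧ c⁻¹ * u ∈ ⁅N, R⁆ ∧
      ∏ j : R, l ((j : G) * u * (j : G)⁻¹) = l c ^ r := by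
  have hrN : ¬ r ∣ Nat.card N := cop_of_ne h.hr h.hs h.hrs (h.hP.to_le hNP)
  obtain ⟨c, hcN, hcR, hcu⟩ := exists_cent_mul h.hr (isPGroup_R h) hRN hrN hu
  refine ⟨c, hcN, hcR, hcu, ?_⟩
  have hle : ⁅N, R⁆ ≤ N := Lib.CoprimeCommutator.commutator_le_left hRN
  have hk := kills hRN (fun x => ∏ j : R, l ((j : G) * x * (j : G)⁻¹)) (by
      refine Finset.prod_eq_one fun j _ => ?_
      rw [mul_one, mul_inv_cancel, l1]) (by
      intro x hx y hy
      show ∏ j : R, l ((j : G) * (x * y) * (j : G)⁻¹) = _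
      rw [← Finset.prod_mul_distrib]
      refine Finset.prod_congr rfl fun j _ => ?_
      rw [← lm _ (Sect.conj_mem hRN j.2 hx) _ (Sect.conj_mem hRN j.2 hy)]
      congr 1
      group) (by
      intro g hg x hx
      refine Fintype.prod_equiv (Equiv.mulRight ⟨g, hg⟩) _ _ fun j => ?_
      congr 1
      show (j : G) * (g * x * g⁻¹) * (j : G)⁻¹ = ((j * ⟨g, hg⟩ : R) : G) * x * ((j * ⟨g, hg⟩ : R) : G)⁻¹
      rw [Subgroup.coe_mul]
      group) _ hcu
  have h1 : ∏ j : R, l ((j : G) * u * (j : G)⁻¹) =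
      ∏ j : R, (l c * l ((j : G) * (c⁻¹ * u) * (j : G)⁻¹)) := by
    refine Finset.prod_congr rfl fun j _ => ?_
    rw [← lm _ hcN _ (Sect.conj_mem hRN j.2 (hle hcu))]
    congr 1
    have h2 : (j : G) * c * (j : G)⁻¹ = c := by
      rw [mem_centralizer_iff.mp hcR j j.2, mul_inv_cancel_right]
    calc (j : G) * u * (j : G)⁻¹ = ((j : G) * c * (j : G)⁻¹) * ((j : G) * (c⁻¹ * u) * (j : G)⁻¹) := by
          group
      _ = _ := by rw [h2]
  have hk' : ∏ j : R, l ((j : G) * (c⁻¹ * u) * (j : G)⁻¹) = 1 := hk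
  rw [h1, Finset.prod_mul_distrib, hk', mul_one, Finset.prod_const, Finset.card_univ,
    ← Nat.card_eq_fintype_card, h.hR]

end Sum

/-- conjugation by `Y`, which commutes with `A` modulo the centralizer of `P` -/
theorem conj_comm {Y : Subgroup G} (hY : Y ≤ normalizer (P : Set G))
    (hA : A ≤ normalizer (P : Set G))
    (hAY : ∀ a ∈ A, ∀ y ∈ Y, ∀ x ∈ P, ⁅a, y⁆ * x = x * ⁅a, y⁆) {a y x : G} (ha : a ∈ A)
    (hy : y ∈ Y) (hx : x ∈ P) : a * (y * x * y⁻¹) * a⁻¹ = y * (a * x * a⁻¹) * y⁻¹ := by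
  have h1 : y * (a * x * a⁻¹) * y⁻¹ ∈ P := Sect.conj_mem hY hy (Sect.conj_mem hA ha hx)
  have h2 := hAY a ha y hy _ h1
  calc a * (y * x * y⁻¹) * a⁻¹ = ⁅a, y⁆ * (y * (a * x * a⁻¹) * y⁻¹) * ⁅a, y⁆⁻¹ := by
        simp only [commutatorElement_def]
        group
    _ = _ := by rw [h2, mul_inv_cancel_right]

theorem le_normalizer_L {Y : Subgroup G} (hY : Y ≤ normalizer (P : Set G))
    (hA : A ≤ normalizer (P : Set G))
    (hAY : ∀ a ∈ A, ∀ y ∈ Y, ∀ x ∈ P, ⁅a, y⁆ * x = x * ⁅a, y⁆) :
    Y ≤ normalizer ((⁅P, A⁆ : Subgroup G) : Set G) := by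
  refine le_norm fun y hy g hg => ?_
  have h1 : (⁅P, A⁆).map (MulAut.conj y).toMonoidHom ≤ ⁅P, A⁆ := by
    rw [map_le_iff_le_comap, commutator_le]
    intro x hx a ha
    show y * ⁅x, a⁆ * y⁻¹ ∈ ⁅P, A⁆
    have h2 : y * ⁅x, a⁆ * y⁻¹ = ⁅y * x * y⁻¹, a⁆ := by
      have h3 := conj_comm hY hA hAY ha hy (P.inv_mem hx)
      calc y * ⁅x, a⁆ * y⁻¹ = (y * x * y⁻¹) * (y * (a * x⁻¹ * a⁻¹) * y⁻¹) := by
            simp only [commutatorElement_def]
            group
        _ = (y * x * y⁻¹) * (a * (y * x⁻¹ * y⁻¹) * a⁻¹) := by rw [h3]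
        _ = ⁅y * x * y⁻¹, a⁆ := by
            simp only [commutatorElement_def]
            group
    rw [h2]
    exact commutator_mem_commutator (Sect.conj_mem hY hy hx) ha
  exact h1 ⟨g, hg, rfl⟩

/-- a weight space of the radical -/
theorem lam_facts (h : LD P Z A R r s q) {π : Representation E G V} {μ l : G → E} {N : Subgroup G}
    (hZN : Z ≤ N) (hl : wt π N (wt π Z ⊤ μ) l ≠ ⊥) : ∀ z ∈ Z, l z = μ z := by
  intro z hz
  obtain ⟨v, hv, hv0⟩ := Submodule.exists_mem_ne_zero_of_ne_bot hl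
  have h1 : l z • v = μ z • v := by rw [← hv.2 z (hZN hz), hv.1.2 z hz]
  have h2 : (l z - μ z) • v = 0 := by rw [sub_smul, h1, sub_self]
  exact sub_eq_zero.mp ((smul_eq_zero.mp h2).resolve_right hv0)

/-- weights of the radical which are not invariant are trivial on invisible elements -/
theorem G3_aux (h : LD P Z A R r s q) {π : Representation E G V} {μ : G → E}
    (hRμ : ∀ g ∈ R, ∀ z ∈ Z, μ (g * z * g⁻¹) = μ z) {N : Subgroup G} (hNP : N ≤ P)
    (hN : ∀ x ∈ N, ∀ y ∈ P, μ ⁅x, y⁆ = 1) (hRN : R ≤ normalizer (N : Set G)) {l : G → E}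
    (hl : wt π N (wt π Z ⊤ μ) l ≠ ⊥) (hlR : ¬ ∀ a ∈ R, Same N (cj a l) l) {d : G} (hd : d ∈ N)
    (hdR : d ∈ centralizer (R : Set G)) (hinv : Inv π ⁅P, R⁆ R d) : l d = 1 := by
  obtain ⟨v, hv, hv0⟩ := Submodule.exists_mem_ne_zero_of_ne_bot hl
  have hRB : R ≤ normalizer ((⁅P, R⁆ : Subgroup G) : Set G) :=
    Lib.CoprimeCommutator.right_le_normalizer_commutator P R
  have hPB : P ≤ normalizer ((⁅P, R⁆ : Subgroup G) : Set G) :=
    Lib.CoprimeCommutator.left_le_normalizer_commutator P R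
  have hPW : Pres π P (wt π Z ⊤ μ) := pres_wt_of_comm π h.hZ
  have hRW : Pres π R (wt π Z ⊤ μ) := pres_wt_of_inv π h.hRZ hRμ
  have hvbr : v ∈ br π ⁅P, R⁆ := wt_le_br hRN (commutator_mono hNP le_rfl) hlR hv
  have h1 : π d v = v := by
    refine trivial_of_not_fixed π (br π ⁅P, R⁆ ⊓ wt π Z ⊤ μ) (A := N) (R := R)
      (fun a ha w hw => ⟨pres_br hRB a ha w hw.1, hRW a ha w hw.2⟩) hRN (by rw [h.hR]; exact h.hr)
      (fun w hw => ⟨pres_br hPB d (hNP hd) w hw.1, hPW d (hNP hd) w hw.2⟩) ?_ hdR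
      (fun w hw hwR => hinv w hw.1 hwR) l hlR v ⟨⟨hvbr, hv.1⟩, hv.2⟩
    intro a ha w hw
    exact comm_on_wt (h.hPP _ (hNP ha) _ (hNP hd)) (hN a ha d (hNP hd))
      (hPW d (hNP hd) _ (hPW a (hNP ha) w hw.2))
  rw [hv.2 d hd] at h1
  have h2 : (l d - 1) • v = 0 := by rw [sub_smul, one_smul, h1, sub_self]
  exact sub_eq_zero.mp ((smul_eq_zero.mp h2).resolve_right hv0)

/-- **The key lemma.** -/
theorem kl (h : LD P Z A R r s q) (π : Representation E G V) (hsE : (s : E) ≠ 0)
    (hrE : (r : E) ≠ 0) (Y : Subgroup G) (hY : IsPGroup q Y)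
    (hYR : ∀ y ∈ Y, ∀ a ∈ R, y * a = a * y) (hYP : Y ≤ normalizer (P : Set G))
    (hZY : ∀ z ∈ Z, ∀ y ∈ Y, z * y = y * z)
    (hAY : ∀ a ∈ A, ∀ y ∈ Y, ∀ x ∈ P, ⁅a, y⁆ * x = x * ⁅a, y⁆) {D : Subgroup G}
    (hD : D = ⁅⁅P, A⁆ ⊓ centralizer (R : Set G), Y⁆)
    (hinv : ∀ x ∈ D, Inv π ⁅P, R⁆ R x) : ∀ x ∈ D, π x = 1 := by
  classical
  have : Fintype R := Fintype.ofFinite R
  set L := ⁅P, A⁆ with hL
  set C := L ⊓ centralizer (R : Set G) with hC
  have hLP : L ≤ P := Lib.CoprimeCommutator.commutator_le_left h.hAP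
  have hYL : Y ≤ normalizer (L : Set G) := le_normalizer_L hYP h.hAP hAY
  have hRL : R ≤ normalizer (L : Set G) := le_normalizer_commutator h.hRP h.hRA
  have hYcR : Y ≤ normalizer (R : Set G) := by
    refine le_norm fun y hy a ha => ?_
    rw [hYR y hy a ha, mul_inv_cancel_right]
    exact ha
  have hYC : Y ≤ normalizer (C : Set G) :=
    le_normalizer_inf hYL (le_normalizer_centralizer hYcR)
  have hDC : D ≤ C := by
    rw [hD]
    exact Lib.CoprimeCommutator.commutator_le_left hYC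
  have hDP : D ≤ P := hDC.trans (inf_le_left.trans hLP)
  have hDR : ∀ d ∈ D, d ∈ centralizer (R : Set G) := fun d hd => (hDC hd).2
  have hCs : IsPGroup s C := h.hP.to_le (inf_le_left.trans hLP)
  have hDY : ⁅D, Y⁆ = D := by
    rw [hD]
    exact Lib.CoprimeCommutator.commutator_commutator_eq Y C hYC (cop_card h.hs h.hq h.hqs.symm hY hCs)
  have hZμY : ∀ μ : G → E, ∀ g ∈ Y, ∀ z ∈ Z, μ (g * z * g⁻¹) = μ z := by
    intro μ g hg z hz
    rw [← hZY z hz g hg, mul_inv_cancel_right]
  -- it suffices to consider weight spaces of `Z`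
  suffices hkey : ∀ μ : G → E, wt π Z ⊤ μ ≤ fix π D by
    have hZE : (Nat.card Z : E) ≠ 0 := card_ne_zero_of_pgroup h.hs (h.hP.to_le h.hZP) hsE
    have h1 : (⊤ : Submodule E V) ≤ fix π D := by
      refine le_of_wt_le hZE (fun _ _ _ _ => Submodule.mem_top) (fun a ha b hb w _ => ?_) _ hkey
      rw [← mul_apply', ← mul_apply', h.hZ a ha b (h.hZP hb)]
    intro x hx
    apply LinearMap.ext
    intro v
    exact h1 (Submodule.mem_top : v ∈ ⊤) x hx
  intro μ
  by_cases hbot : wt π Z ⊤ μ = ⊥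
  · rw [hbot]; exact bot_le
  obtain ⟨h1, h2, -, -⟩ := wt_facts hbot
  by_cases hμ : ∀ a ∈ R, Same Z (cj a μ) μ
  swap
  · intro w hw d hd
    exact trivial_of_noninv h hμ (hDP hd) (hDR d hd) (hinv d hd) w hw
  have hRμ := R_inv_iff h hμ
  set N := rad h.hPP h.hZ μ h1 h2 with hN
  have hNP : N ≤ P := fun x hx => hx.1
  have hNr : ∀ x ∈ N, ∀ y ∈ P, μ ⁅x, y⁆ = 1 := fun x hx => hx.2
  have hZN : Z ≤ N := by
    intro z hz
    refine ⟨h.hZP hz, fun y hy => ?_⟩
    rw [commutatorElement_eq_one_iff_mul_comm.mpr (h.hZ z hz y hy), h1]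
  have hAN : A ≤ normalizer (N : Set G) := le_normalizer_rad h.hAP (cent_inv h)
  have hRN : R ≤ normalizer (N : Set G) := le_normalizer_rad h.hRP hRμ
  have hYN : Y ≤ normalizer (N : Set G) := le_normalizer_rad hYP (hZμY μ)
  have hPW : Pres π P (wt π Z ⊤ μ) := pres_wt_of_comm π h.hZ
  have hAW : Pres π A (wt π Z ⊤ μ) := pres_wt_of_comm π h.hZA
  have hRW : Pres π R (wt π Z ⊤ μ) := pres_wt_of_inv π h.hRZ hRμ
  -- `D` lies in the radical
  have hDN : D ≤ N := by
    by_contra hcon
    obtain ⟨d, hd, hdN⟩ := SetLike.not_le_iff_exists.mp hcon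
    have hd' : ∃ d' ∈ D, μ ⁅d, d'⁆ ≠ 1 := by
      by_contra hc
      push Not at hc
      apply hdN
      refine ⟨hDP hd, ?_⟩
      have h3 : ∀ c ∈ C, μ ⁅d, c⁆ = 1 := by
        refine ndg_beta h.hPP h.hZ h.hPs h1 h2 (inf_le_left.trans hLP) hYC (hZμY μ)
          (cop_s h h.hq h.hqs hY) (by rw [← hD]; exact hd) ?_
        rw [← hD]
        exact hc
      have h4 : ∀ p ∈ L, μ ⁅d, p⁆ = 1 := by
        intro p hp
        obtain ⟨c, hcL, hcR, hcp⟩ := exists_cent_mul h.hr (isPGroup_R h) hRL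
          (cop_of_ne h.hr h.hs h.hrs (h.hP.to_le hLP)) hp
        have h5 : c⁻¹ * p ∈ ⁅P, R⁆ := commutator_mono hLP le_rfl hcp
        have h6 : c⁻¹ * p ∈ P := Lib.CoprimeCommutator.commutator_le_left h.hRP h5
        have h7 : p = c * (c⁻¹ * p) := by group
        rw [h7, comm_mul_right h.hPP h.hZ (hDP hd) (hLP hcL) h6,
          h2 _ (h.hPP _ (hDP hd) _ (hLP hcL)) _ (h.hPP _ (hDP hd) _ h6), h3 c ⟨hcL, hcR⟩,
          comm_kills h h1 h2 hRμ (hDP hd) (hDR d hd) _ h5, one_mul]
      exact ndg_beta h.hPP h.hZ h.hPs h1 h2 le_rfl h.hAP (cent_inv h)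
        (cop_s h h.hq h.hqs h.hA) (hDC hd).1 h4
    obtain ⟨d', hd', hne⟩ := hd'
    have hne' : ∃ x ∈ ⁅P, A⁆, ∃ y ∈ P, μ ⁅x, y⁆ ≠ 1 := ⟨d, (hDC hd).1, d', hDP hd', hne⟩
    obtain ⟨v, hv, hv0, hvR⟩ := ha h π hsE hrE μ hRμ hbot hne'
    exact hne (mu_eq_one_of_fixed h (exists_BB h h1 h2 hRμ hne') hv hv0 hvR (hDP hd) (hDP hd')
      (hDR d' hd') (hinv d hd))
  -- weights of the radical
  have hNE : (Nat.card N : E) ≠ 0 := card_ne_zero_of_pgroup h.hs (h.hP.to_le hNP) hsE
  refine le_of_wt_le hNE (hPW.mono hNP) (fun a ha b hb w hw => ?_) _ fun l => ?_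
  · exact comm_on_wt (h.hPP _ (hNP ha) _ (hNP hb)) (hNr a ha b (hNP hb))
      (hPW b (hNP hb) _ (hPW a (hNP ha) w hw))
  by_cases hlbot : wt π N (wt π Z ⊤ μ) l = ⊥
  · rw [hlbot]; exact bot_le
  intro w hw d hd
  have G3 : ∀ l : G → E, wt π N (wt π Z ⊤ μ) l ≠ ⊥ → (¬ ∀ a ∈ R, Same N (cj a l) l) →
      ∀ d ∈ D, l d = 1 := fun l hl hlR d hd =>
    G3_aux h hRμ hNP hNr hRN hl hlR (hDN hd) (hDR d hd) (hinv d hd)
  suffices hld : l d = 1 by rw [hw.2 d (hDN hd), hld, one_smul]
  refine kl_core h π hNP hDN hAN hRN hAW hRW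
    (fun d hd a ha => mem_centralizer_iff.mp (hDR d hd) a ha) G3 ?_ ?_ l hlbot d hd
  · -- invariant under `A`
    intro l hl hlA d hd
    obtain ⟨l1, lm, l0, li⟩ := wt_facts hl
    have lZ := lam_facts h hZN hl
    have hf : ∀ y ∈ Y, ∀ x ∈ D, l ⁅x, y⁆ = 1 := by
      intro y hy x hx
      -- `f x = l x * l (y x⁻¹ y⁻¹)`
      have hyN : ∀ u ∈ N, y * u * y⁻¹ ∈ N := fun u hu => Sect.conj_mem hYN hy hu
      let f : G → E := fun u => l u * l (y * u⁻¹ * y⁻¹)
      have hf0 : ∀ u : G, f u = l u * l (y * u⁻¹ * y⁻¹) := fun u => rfl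
      have hfm : ∀ u ∈ N, ∀ w ∈ N, f (u * w) = f u * f w := by
        intro u hu w hw
        have e1 : y * (u * w)⁻¹ * y⁻¹ = (y * w⁻¹ * y⁻¹) * (y * u⁻¹ * y⁻¹) := by group
        rw [hf0, hf0, hf0, lm u hu w hw, e1, lm _ (hyN _ (N.inv_mem hw)) _ (hyN _ (N.inv_mem hu))]
        ring
      have hfcomm : ∀ u ∈ N, l ⁅u, y⁆ = f u := by
        intro u hu
        rw [hf0, ← lm u hu _ (hyN _ (N.inv_mem hu))]
        congr 1
        simp only [commutatorElement_def]
        group
      have hf1 : f 1 = 1 := by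
        rw [hf0]
        have e1 : y * (1 : G)⁻¹ * y⁻¹ = 1 := by group
        rw [e1, l1, one_mul]
      have hfZ : ∀ z ∈ Z, f z = 1 := by
        intro z hz
        rw [hf0]
        have e1 : y * z⁻¹ * y⁻¹ = z⁻¹ := by
          rw [← hZY _ (Z.inv_mem hz) y hy, mul_inv_cancel_right]
        rw [e1, ← lm z (hZN hz) _ (N.inv_mem (hZN hz)), mul_inv_cancel, l1]
      have hfA : ∀ a ∈ A, ∀ u ∈ N, f (a * u * a⁻¹) = f u := by
        intro a ha u hu
        rw [hf0, hf0, hlA a ha u hu]
        have e1 : y * (a * u * a⁻¹)⁻¹ * y⁻¹ = a * (y * u⁻¹ * y⁻¹) * a⁻¹ := by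
          rw [conj_comm hYP h.hAP hAY ha hy (P.inv_mem (hNP hu))]
          group
        rw [e1, hlA a ha _ (hyN _ (N.inv_mem hu))]
      rw [hfcomm x (hDN hx)]
      -- `x = c w` with `c` in `Z`, `w` in `[N, A]`
      obtain ⟨c, hcN, hcA, hcx⟩ := exists_cent_mul h.hq h.hA hAN
        (cop_of_ne h.hq h.hs h.hqs (h.hP.to_le hNP)) (hDN hx)
      have hcxL : c⁻¹ * x ∈ L := commutator_mono hNP le_rfl hcx
      have hcL : c ∈ L := by
        have e1 : c = x * (c⁻¹ * x)⁻¹ := by group
        rw [e1]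
        exact L.mul_mem (hDC hx).1 (L.inv_mem hcxL)
      have hAL : A ≤ normalizer (L : Set G) :=
        Lib.CoprimeCommutator.right_le_normalizer_commutator P A
      have hcopA : (Nat.card A).Coprime (Nat.card P) := cop_card h.hs h.hq h.hqs.symm h.hA h.hP
      have hLA : ⁅L, A⁆ = L := Lib.CoprimeCommutator.commutator_commutator_eq A P h.hAP hcopA
      have hcZ : c ∈ Z := by
        refine cent_le_gen (R := A) (F := L)
          (hcopA.coprime_dvd_right (Subgroup.card_dvd_of_le hLP)) ?_ hAL hLA ⟨hcL, hcA⟩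
        rw [commutator_le]
        exact fun x hx y hy => h.hPP x (hLP hx) y (hLP hy)
      have e1 : x = c * (c⁻¹ * x) := by group
      rw [e1, hfm c hcN _ (Lib.CoprimeCommutator.commutator_le_left hAN hcx), hfZ c hcZ,
        kills hAN f hf1 hfm hfA _ hcx, one_mul]
    have hker : ⁅D, Y⁆ ≤ D := Lib.CoprimeCommutator.commutator_le_left (by
      rw [hD]
      exact Lib.CoprimeCommutator.right_le_normalizer_commutator C Y)
    let S : Subgroup G :=
      { carrier := {x | x ∈ N ∧ l x = 1}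
        one_mem' := ⟨N.one_mem, l1⟩
        mul_mem' := fun {a b} ha hb => ⟨N.mul_mem ha.1 hb.1, by rw [lm _ ha.1 _ hb.1, ha.2, hb.2, one_mul]⟩
        inv_mem' := fun {a} ha => ⟨N.inv_mem ha.1, by rw [li _ ha.1, ha.2, inv_one]⟩ }
    have hDS : ⁅D, Y⁆ ≤ S := by
      rw [commutator_le]
      intro x hx y hy
      exact ⟨hDN (hker (commutator_mem_commutator hx hy)), hf y hy x hx⟩
    rw [hDY] at hDS
    exact (hDS hd).2
  · -- the product
    intro l hl hlR a ha
    obtain ⟨l1, lm, l0, li⟩ := wt_facts hl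
    let Θ : G → E := fun x => ∏ j : R, l ((j : G) * (a * x * a⁻¹) * (j : G)⁻¹)
    have hΘ : ∀ x, Θ x = ∏ j : R, l ((j : G) * (a * x * a⁻¹) * (j : G)⁻¹) := fun x => rfl
    have haN : ∀ x ∈ N, a * x * a⁻¹ ∈ N := fun x hx => Sect.conj_mem hAN ha hx
    have hΘm : ∀ x ∈ N, ∀ y ∈ N, Θ (x * y) = Θ x * Θ y := by
      intro x hx y hy
      rw [hΘ, hΘ, hΘ, ← Finset.prod_mul_distrib]
      refine Finset.prod_congr rfl fun j _ => ?_
      rw [← lm _ (Sect.conj_mem hRN j.2 (haN x hx)) _ (Sect.conj_mem hRN j.2 (haN y hy))]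
      congr 1
      group
    have hΘ1 : Θ 1 = 1 := by
      rw [hΘ]
      refine Finset.prod_eq_one fun j _ => ?_
      have e1 : (j : G) * (a * 1 * a⁻¹) * (j : G)⁻¹ = 1 := by group
      rw [e1, l1]
    have hΘY : ∀ x ∈ D, ∀ y ∈ Y, Θ ⁅x, y⁆ = 1 := by
      intro x hx y hy
      have hu : a * x * a⁻¹ ∈ N := haN x (hDN hx)
      have hyN : ∀ u ∈ N, y * u * y⁻¹ ∈ N := fun u hu => Sect.conj_mem hYN hy hu
      have hNRle : ⁅N, R⁆ ≤ N := Lib.CoprimeCommutator.commutator_le_left hRN
      -- redo the decomposition inside `N ⊓ L`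
      have haL : A ≤ normalizer (L : Set G) :=
        Lib.CoprimeCommutator.right_le_normalizer_commutator P A
      have huNL : a * x * a⁻¹ ∈ N ⊓ L := ⟨hu, Sect.conj_mem haL ha (hDC hx).1⟩
      have hRNL : R ≤ normalizer ((N ⊓ L : Subgroup G) : Set G) := le_normalizer_inf hRN hRL
      obtain ⟨c, hcNL, hcR, hcu⟩ := exists_cent_mul h.hr (isPGroup_R h) hRNL
        (cop_of_ne h.hr h.hs h.hrs (h.hP.to_le (inf_le_left.trans hNP))) huNL
      have hcu' : c⁻¹ * (a * x * a⁻¹) ∈ ⁅N, R⁆ := commutator_mono inf_le_left le_rfl hcu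
      -- the invariant product
      let H : G → E := fun u => ∏ j : R, l ((j : G) * u * (j : G)⁻¹)
      have hH : ∀ u, H u = ∏ j : R, l ((j : G) * u * (j : G)⁻¹) := fun u => rfl
      have hHm : ∀ u ∈ N, ∀ w ∈ N, H (u * w) = H u * H w := by
        intro u hu w hw
        rw [hH, hH, hH, ← Finset.prod_mul_distrib]
        refine Finset.prod_congr rfl fun j _ => ?_
        rw [← lm _ (Sect.conj_mem hRN j.2 hu) _ (Sect.conj_mem hRN j.2 hw)]
        congr 1
        group
      have hHk : ∀ u ∈ ⁅N, R⁆, H u = 1 := by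
        refine kills hRN H ?_ hHm ?_
        · rw [hH]
          refine Finset.prod_eq_one fun j _ => ?_
          rw [mul_one, mul_inv_cancel, l1]
        · intro g hg u hu
          rw [hH, hH]
          refine Fintype.prod_equiv (Equiv.mulRight ⟨g, hg⟩) _ _ fun j => ?_
          congr 1
          show (j : G) * (g * u * g⁻¹) * (j : G)⁻¹ =
            ((j * ⟨g, hg⟩ : R) : G) * u * ((j * ⟨g, hg⟩ : R) : G)⁻¹
          rw [Subgroup.coe_mul]
          group
      have hHc : ∀ u, u ∈ centralizer (R : Set G) → H u = l u ^ r := by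
        intro u hu
        rw [hH]
        have e1 : ∀ j ∈ (Finset.univ : Finset R), l ((j : G) * u * (j : G)⁻¹) = l u := by
          intro j _
          congr 1
          rw [mem_centralizer_iff.mp hu j j.2, mul_inv_cancel_right]
        rw [Finset.prod_congr rfl e1, Finset.prod_const, Finset.card_univ,
          ← Nat.card_eq_fintype_card, h.hR]
      -- the two decompositions
      have e1 : H (a * x * a⁻¹) = l c ^ r := by
        have e2 : a * x * a⁻¹ = c * (c⁻¹ * (a * x * a⁻¹)) := by group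
        rw [e2, hHm c hcNL.1 _ (hNRle hcu'), hHc c hcR, hHk _ hcu', mul_one]
      have hycR : y * c⁻¹ * y⁻¹ ∈ centralizer (R : Set G) :=
        Sect.conj_mem (le_normalizer_centralizer hYcR) hy (inv_mem hcR)
      have hcu2 : y * (c⁻¹ * (a * x * a⁻¹))⁻¹ * y⁻¹ ∈ ⁅N, R⁆ :=
        Sect.conj_mem (le_normalizer_commutator hYN hYcR) hy (inv_mem hcu')
      have e3 : H (y * (a * x * a⁻¹)⁻¹ * y⁻¹) = l (y * c⁻¹ * y⁻¹) ^ r := by
        have e4 : y * (a * x * a⁻¹)⁻¹ * y⁻¹ =
            (y * (c⁻¹ * (a * x * a⁻¹))⁻¹ * y⁻¹) * (y * c⁻¹ * y⁻¹) := by group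
        rw [e4, hHm _ (hNRle hcu2) _ (hyN _ (N.inv_mem hcNL.1)), hHk _ hcu2, one_mul,
          hHc _ hycR]
      have e5 : a * ⁅x, y⁆ * a⁻¹ = (a * x * a⁻¹) * (y * (a * x * a⁻¹)⁻¹ * y⁻¹) := by
        have e6 := conj_comm hYP h.hAP hAY ha hy (P.inv_mem (hDP hx))
        calc a * ⁅x, y⁆ * a⁻¹ = (a * x * a⁻¹) * (a * (y * x⁻¹ * y⁻¹) * a⁻¹) := by
              simp only [commutatorElement_def]
              group
          _ = _ := by rw [e6]; group
      show H (a * ⁅x, y⁆ * a⁻¹) = 1
      rw [e5, hHm _ hu _ (hyN _ (N.inv_mem hu)), e1, e3, ← mul_pow,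
        ← lm c hcNL.1 _ (hyN _ (N.inv_mem hcNL.1))]
      have e7 : c * (y * c⁻¹ * y⁻¹) = ⁅c, y⁆ := by
        simp only [commutatorElement_def]
        group
      rw [e7, G3 l hl hlR ⁅c, y⁆ (by rw [hD]; exact commutator_mem_commutator ⟨hcNL.2, hcR⟩ hy),
        one_pow]
    intro d hd
    have hker : ⁅D, Y⁆ ≤ D := Lib.CoprimeCommutator.commutator_le_left (by
      rw [hD]
      exact Lib.CoprimeCommutator.right_le_normalizer_commutator C Y)
    let φ : N →* E :=
      { toFun := fun x => Θ x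
        map_one' := hΘ1
        map_mul' := fun x y => hΘm x x.2 y y.2 }
    have hDS : ⁅D, Y⁆ ≤ (MonoidHom.ker φ).map N.subtype := by
      rw [commutator_le]
      intro x hx y hy
      exact ⟨⟨⁅x, y⁆, hDN (hker (commutator_mem_commutator hx hy))⟩, hΘY x hx y hy, rfl⟩
    rw [hDY] at hDS
    obtain ⟨u, hu, rfl⟩ := hDS hd
    exact hu

/-- **The key lemma without `Y`.** -/
theorem kl0 (h : LD P Z A R r s q) (π : Representation E G V) (hsE : (s : E) ≠ 0)
    (hrE : (r : E) ≠ 0) (hPA : ⁅P, A⁆ = P)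
    (hinv : ∀ x ∈ P ⊓ centralizer (R : Set G), Inv π ⁅P, R⁆ R x) :
    ∀ x ∈ P ⊓ centralizer (R : Set G), π x = 1 := by
  classical
  have : Fintype R := Fintype.ofFinite R
  set D := P ⊓ centralizer (R : Set G) with hD
  have hDP : D ≤ P := inf_le_left
  have hDR : ∀ d ∈ D, d ∈ centralizer (R : Set G) := fun d hd => hd.2
  suffices hkey : ∀ μ : G → E, wt π Z ⊤ μ ≤ fix π D by
    have hZE : (Nat.card Z : E) ≠ 0 := card_ne_zero_of_pgroup h.hs (h.hP.to_le h.hZP) hsE
    have h1 : (⊤ : Submodule E V) ≤ fix π D := by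
      refine le_of_wt_le hZE (fun _ _ _ _ => Submodule.mem_top) (fun a ha b hb w _ => ?_) _ hkey
      rw [← mul_apply', ← mul_apply', h.hZ a ha b (h.hZP hb)]
    intro x hx
    apply LinearMap.ext
    intro v
    exact h1 (Submodule.mem_top : v ∈ ⊤) x hx
  intro μ
  by_cases hbot : wt π Z ⊤ μ = ⊥
  · rw [hbot]; exact bot_le
  obtain ⟨h1, h2, -, -⟩ := wt_facts hbot
  by_cases hμ : ∀ a ∈ R, Same Z (cj a μ) μ
  swap
  · intro w hw d hd
    exact trivial_of_noninv h hμ (hDP hd) (hDR d hd) (hinv d hd) w hw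
  have hRμ := R_inv_iff h hμ
  have hPW : Pres π P (wt π Z ⊤ μ) := pres_wt_of_comm π h.hZ
  have hAW : Pres π A (wt π Z ⊤ μ) := pres_wt_of_comm π h.hZA
  have hRW : Pres π R (wt π Z ⊤ μ) := pres_wt_of_inv π h.hRZ hRμ
  -- the form is zero
  have hform : ∀ x ∈ P, ∀ y ∈ P, μ ⁅x, y⁆ = 1 := by
    by_contra hcon
    push Not at hcon
    obtain ⟨x, hx, y, hy, hxy⟩ := hcon
    have hne' : ∃ x ∈ ⁅P, A⁆, ∃ y ∈ P, μ ⁅x, y⁆ ≠ 1 := ⟨x, by rw [hPA]; exact hx, y, hy, hxy⟩
    obtain ⟨v, hv, hv0, hvR⟩ := ha h π hsE hrE μ hRμ hbot hne'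
    have hBB := exists_BB h h1 h2 hRμ hne'
    have hzfix : ∀ z ∈ Z, z ∈ centralizer (R : Set G) → μ z = 1 := by
      intro z hz hzR
      have h3 := hinv z ⟨h.hZP hz, hzR⟩ v (wt_le_br_of_BB h hBB hv) hvR
      rw [hv.2 z hz] at h3
      have h4 : (μ z - 1) • v = 0 := by rw [sub_smul, one_smul, h3, sub_self]
      exact sub_eq_zero.mp ((smul_eq_zero.mp h4).resolve_right hv0)
    apply hxy
    obtain ⟨c, hcZ, hcR, hcu⟩ := exists_cent_mul h.hr (isPGroup_R h) h.hRZ
      (cop_of_ne h.hr h.hs h.hrs (h.hP.to_le h.hZP)) (h.hPP x hx y hy)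
    have hle : ⁅Z, R⁆ ≤ Z := Lib.CoprimeCommutator.commutator_le_left h.hRZ
    have h5 : ⁅x, y⁆ = c * (c⁻¹ * ⁅x, y⁆) := by group
    rw [h5, h2 c hcZ _ (hle hcu), hzfix c hcZ hcR, kills h.hRZ μ h1 h2 hRμ _ hcu, one_mul]
  have hPE : (Nat.card P : E) ≠ 0 := card_ne_zero_of_pgroup h.hs h.hP hsE
  refine le_of_wt_le hPE hPW (fun a ha b hb w hw => ?_) _ fun l => ?_
  · exact comm_on_wt (h.hPP _ ha _ hb) (hform a ha b hb) (hPW b hb _ (hPW a ha w hw))
  by_cases hlbot : wt π P (wt π Z ⊤ μ) l = ⊥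
  · rw [hlbot]; exact bot_le
  intro w hw d hd
  have G3 : ∀ l : G → E, wt π P (wt π Z ⊤ μ) l ≠ ⊥ → (¬ ∀ a ∈ R, Same P (cj a l) l) →
      ∀ d ∈ D, l d = 1 := fun l hl hlR d hd =>
    G3_aux h hRμ le_rfl hform h.hRP hl hlR (hDP hd) (hDR d hd) (hinv d hd)
  suffices hld : l d = 1 by rw [hw.2 d (hDP hd), hld, one_smul]
  refine kl_core h π le_rfl hDP h.hAP h.hRP hAW hRW
    (fun d hd a ha => mem_centralizer_iff.mp (hDR d hd) a ha) G3 ?_ ?_ l hlbot d hd
  · intro l hl hlA d hd
    obtain ⟨l1, lm, l0, li⟩ := wt_facts hl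
    exact kills h.hAP l l1 lm hlA d (by rw [hPA]; exact hDP hd)
  · intro l hl hlR a ha d hd
    obtain ⟨l1, lm, l0, li⟩ := wt_facts hl
    obtain ⟨c, hcN, hcR, hcu, hprod⟩ := prod_kills h le_rfl h.hRP l1 lm
      (Sect.conj_mem h.hAP ha (hDP hd))
    rw [hprod, G3 l hl hlR c ⟨hcN, hcR⟩, one_pow]

/-- **Invisible elements are central.** -/
theorem nv (h : LD P Z A R r s q) (π : Representation E G V) (hsE : (s : E) ≠ 0)
    (hrE : (r : E) ≠ 0) (hPA : ⁅P, A⁆ = P) {x : G} (hx : x ∈ P)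
    (hxR : x ∈ centralizer (R : Set G)) (hinv : Inv π ⁅P, R⁆ R x) :
    ∀ p ∈ P, π ⁅x, p⁆ = 1 := by
  intro p hp
  have hxp : ⁅x, p⁆ ∈ P := h.hZP (h.hPP x hx p hp)
  suffices hkey : ∀ μ : G → E, wt π Z ⊤ μ ≤ fix π (zpowers ⁅x, p⁆) by
    have hZE : (Nat.card Z : E) ≠ 0 := card_ne_zero_of_pgroup h.hs (h.hP.to_le h.hZP) hsE
    have h1 : (⊤ : Submodule E V) ≤ fix π (zpowers ⁅x, p⁆) := by
      refine le_of_wt_le hZE (fun _ _ _ _ => Submodule.mem_top) (fun a ha b hb w _ => ?_) _ hkey
      rw [← mul_apply', ← mul_apply', h.hZ a ha b (h.hZP hb)]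
    apply LinearMap.ext
    intro v
    exact h1 (Submodule.mem_top : v ∈ ⊤) _ (mem_zpowers _)
  have hfix : ∀ v : V, π ⁅x, p⁆ v = v → v ∈ fix π (zpowers ⁅x, p⁆) := by
    intro v hv a ha
    obtain ⟨n, rfl⟩ := ((isOfFinOrder_of_finite _).mem_powers_iff_mem_zpowers.mpr ha)
    show π (⁅x, p⁆ ^ n) v = v
    induction n with
    | zero => rw [pow_zero, map_one]; rfl
    | succ n ih => rw [pow_succ, mul_apply', hv]; exact ih (npow_mem_zpowers _ _)
  intro μ
  by_cases hbot : wt π Z ⊤ μ = ⊥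
  · rw [hbot]; exact bot_le
  obtain ⟨h1, h2, -, -⟩ := wt_facts hbot
  have hPW : Pres π P (wt π Z ⊤ μ) := pres_wt_of_comm π h.hZ
  by_cases hμ : ∀ a ∈ R, Same Z (cj a μ) μ
  swap
  · intro w hw
    apply hfix
    have h3 := trivial_of_noninv h hμ hx hxR hinv
    have h4 : ∀ w ∈ wt π Z ⊤ μ, π x⁻¹ w = w := by
      intro w hw
      have := inv_apply π x w
      rwa [h3 w hw] at this
    rw [commutatorElement_def, mul_apply', mul_apply', mul_apply',
      h4 _ (hPW p⁻¹ (P.inv_mem hp) w hw), apply_inv, h3 w hw]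
  have hRμ := R_inv_iff h hμ
  have hone : μ ⁅x, p⁆ = 1 := by
    by_contra hne
    have hne' : ∃ x ∈ ⁅P, A⁆, ∃ y ∈ P, μ ⁅x, y⁆ ≠ 1 := ⟨x, by rw [hPA]; exact hx, p, hp, hne⟩
    obtain ⟨v, hv, hv0, hvR⟩ := ha h π hsE hrE μ hRμ hbot hne'
    have hBB := exists_BB h h1 h2 hRμ hne'
    obtain ⟨c, hcP, hcR, hcu⟩ := exists_cent_mul h.hr (isPGroup_R h) h.hRP
      (cop_of_ne h.hr h.hs h.hrs h.hP) hp
    have hle : ⁅P, R⁆ ≤ P := Lib.CoprimeCommutator.commutator_le_left h.hRP
    apply hne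
    have h5 : p = c * (c⁻¹ * p) := by group
    rw [h5, comm_mul_right h.hPP h.hZ hx hcP (hle hcu),
      h2 _ (h.hPP x hx c hcP) _ (h.hPP x hx _ (hle hcu)),
      mu_eq_one_of_fixed h hBB hv hv0 hvR hx hcP hcR hinv, comm_kills h h1 h2 hRμ hx hxR _ hcu,
      one_mul]
  intro w hw
  apply hfix
  rw [hw.2 _ (h.hPP x hx p hp), hone, one_smul]

end Cfsg.Agent.H575.KL
end

-- part: H575/FTopIrr
section
/-!
# Counting irreducible representations above an extraspecial group
-/

set_option autoImplicit false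
set_option linter.unusedSectionVars false
set_option linter.unusedVariables false

namespace Cfsg.Agent.H575.FTop

open Module Subgroup Cfsg.Agent.H575.Dim Cfsg.Agent.H575.Weights Cfsg.Agent.H575.Sect
  Cfsg.Agent.H575.Fix Cfsg.Agent.H575.Lev Cfsg.Agent.H575.ModM Cfsg.Agent.H575.Tower
  Cfsg.Agent.H575.Mult Cfsg.Agent.H575.HA Cfsg.Agent.H575.KL Cfsg.Agent.H575.ExtraIrr
open scoped commutatorElement

variable {E : Type*} [Field E] [IsAlgClosed E] {H V : Type*} [Group H] [Finite H]
  [AddCommGroup V] [Module E V] [FiniteDimensional E V] {F R : Subgroup H} {r s : ℕ}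

theorem ed_cop (h : ED F R r s) : (Nat.card R).Coprime (Nat.card F) := by
  have hs : Fact s.Prime := ⟨h.hs⟩
  obtain ⟨k, hk⟩ := h.hF.exists_card_eq
  rw [h.hR, hk]
  exact Nat.Coprime.pow_right _ ((Nat.coprime_primes h.hr h.hs).mpr h.hrs)

theorem ed_index (h : ED F R r s) [F.Normal] (hFR : F ⊔ R = ⊤) : F.index = r := by
  have hcomp : Subgroup.IsComplement' F R := by
    refine Subgroup.isComplement'_of_disjoint_and_mul_eq_univ
      (Subgroup.disjoint_of_coprime_natCard (ed_cop h).symm) ?_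
    rw [← Subgroup.normal_mul, hFR, Subgroup.coe_top]
  rw [hcomp.symm.index_eq_card, h.hR]

theorem ed_card (h : ED F R r s) [F.Normal] (hFR : F ⊔ R = ⊤) (hrE : (r : E) ≠ 0)
    (hsE : (s : E) ≠ 0) : (Nat.card H : E) ≠ 0 := by
  have hs : Fact s.Prime := ⟨h.hs⟩
  rw [← F.card_mul_index, ed_index h hFR, Nat.cast_mul]
  obtain ⟨k, hk⟩ := h.hF.exists_card_eq
  rw [hk, Nat.cast_pow]
  exact mul_ne_zero (pow_ne_zero _ hsE) hrE

theorem irr_of_top {σ : Representation E H V} (hσ : Irr σ) [F.Normal] (hFR : F ⊔ R = ⊤)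
    (h : ED F R r s) (hscal : ∀ z : F, z ∈ center F → ∃ c : E, ∀ v, σ z v = c • v)
    (hfaith : ∀ z : F, z ∈ center F → σ z = 1 → z = 1) (hrE : (r : E) ≠ 0) (hsE : (s : E) ≠ 0) :
    Irr (σ.comp F.subtype) := by
  classical
  have hidx := ed_index h hFR
  rcases step (ed_card h hFR hrE hsE) σ hσ F (by rw [hidx]; exact h.hr) with
    h1 | ⟨W, hW, hWirr, hdim⟩
  · exact h1
  exfalso
  rw [hidx] at hdim
  have := hWirr.1
  have : Fintype (F ⧸ center F) := Fintype.ofFinite _
  have : Fintype R := Fintype.ofFinite _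
  -- upper bound for the dimension
  have ha : finrank E V ^ 2 ≤ Fintype.card ((F ⧸ center F) × R) := by
    refine ExtraSq.sq_le_card σ hσ (fun i => σ (sig F i.1 : H) * σ (i.2 : H)) fun g => ?_
    have hg : g ∈ F ⊔ R := by rw [hFR]; exact Subgroup.mem_top g
    rw [Subgroup.mem_sup_of_normal_left] at hg
    obtain ⟨f, hf, a, ha, rfl⟩ := hg
    have hz : (sig F (QuotientGroup.mk (⟨f, hf⟩ : F)))⁻¹ * (⟨f, hf⟩ : F) ∈ center F := by
      rw [← QuotientGroup.eq]
      exact mk_sig _
    obtain ⟨c, hc⟩ := hscal _ hz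
    have h2 : σ (f * a) = c • (σ (sig F (QuotientGroup.mk (⟨f, hf⟩ : F)) : H) * σ a) := by
      have h3 : f = (sig F (QuotientGroup.mk (⟨f, hf⟩ : F)) : H) *
          (((sig F (QuotientGroup.mk (⟨f, hf⟩ : F)))⁻¹ * (⟨f, hf⟩ : F) : F) : H) := by
        rw [Subgroup.coe_mul, Subgroup.coe_inv, mul_inv_cancel_left]
      ext v
      rw [LinearMap.smul_apply, Module.End.mul_apply, mul_apply']
      conv_lhs => rw [h3]
      rw [mul_apply', hc, map_smul]
    rw [h2]
    exact Submodule.smul_mem _ _ (Submodule.subset_span ⟨(QuotientGroup.mk (⟨f, hf⟩ : F),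
      ⟨a, ha⟩), rfl⟩)
  have hb : (center F).index ≤ finrank E W ^ 2 := by
    have hc : ∀ x y : F, ∃ c : E, ∀ v, σ ((⁅x, y⁆ : F) : H) v = c • v := fun x y =>
      hscal _ (h.hab x y)
    choose c hc using hc
    have h1 := ExtraSq.relIndex_le_sq (sub σ F.subtype W hW) (⊤ : Subgroup F) (center F) c
      (fun x _ y _ v => Subtype.ext (hc x y v)) (by
        intro x _ hx
        rw [Subgroup.mem_center_iff]
        intro y
        rw [← commutatorElement_eq_one_iff_mul_comm]
        refine hfaith _ (h.hab y x) ?_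
        ext v
        rw [hc, hx y (Subgroup.mem_top y), one_smul, Module.End.one_apply])
    rwa [Subgroup.relIndex_top_right] at h1
  rw [Fintype.card_prod, ← Nat.card_eq_fintype_card, ← Nat.card_eq_fintype_card, h.hR, hdim] at ha
  have hpos : 0 < finrank E W := Module.finrank_pos
  have h2 : 2 ≤ r := h.hr.two_le
  have h3 : (r * finrank E W) ^ 2 ≤ finrank E W ^ 2 * r :=
    ha.trans (Nat.mul_le_mul_right _ hb)
  have h4 : 0 < finrank E W ^ 2 := by positivity
  nlinarith [Nat.mul_le_mul_left (finrank E W ^ 2 * r) h2]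

/-- a submodule on which the group is irreducible, containing a fixed vector of `R` -/
theorem exists_irr_fixed {K : Subgroup H} {σ : Representation E H V} (hK : (Nat.card K : E) ≠ 0)
    (hRK : R ≤ K) (hfix : fix σ R ≠ ⊥) :
    ∃ W : Submodule E V, Pres σ K W ∧ (∃ w ∈ W, w ≠ 0 ∧ w ∈ fix σ R) ∧
      (∀ U : Submodule E V, Pres σ K U → U ≤ W → U = ⊥ ∨ U = W) := by
  let S : Set (Submodule E V) := {W | Pres σ K W ∧ ∃ w ∈ W, w ≠ 0 ∧ w ∈ fix σ R}
  have hS : S.Nonempty := by
    obtain ⟨w, hw, hw0⟩ := Submodule.exists_mem_ne_zero_of_ne_bot hfix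
    exact ⟨⊤, fun _ _ _ _ => Submodule.mem_top, w, Submodule.mem_top, hw0, hw⟩
  obtain ⟨W, ⟨hW, hw⟩, hmin⟩ :=
    WellFounded.has_min (wellFounded_lt : WellFounded ((· < ·) : Submodule E V → _ → Prop)) S hS
  refine ⟨W, hW, hw, ?_⟩
  intro U hU hUW
  by_cases hU0 : ∃ u ∈ U, u ≠ 0 ∧ u ∈ fix σ R
  · right
    by_contra hne
    exact hmin U ⟨hU, hU0⟩ (lt_of_le_of_ne hUW hne)
  · left
    push Not at hU0
    obtain ⟨T, hT, hTU, hTm⟩ := exists_proj (σ.comp K.subtype) hK U
      (fun g w hw => hU g g.2 w hw)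
    have hker : W ⊓ LinearMap.ker T = W := by
      by_contra hne
      refine hmin (W ⊓ LinearMap.ker T) ⟨?_, ?_⟩ (lt_of_le_of_ne inf_le_left hne)
      · intro g hg w hw
        refine ⟨hW g hg w hw.1, ?_⟩
        have h1 := hT ⟨g, hg⟩ w
        rw [LinearMap.mem_ker.mp hw.2, map_zero] at h1
        exact h1
      · obtain ⟨w, hwW, hw0, hwf⟩ := hw
        refine ⟨w, ⟨hwW, ?_⟩, hw0, hwf⟩
        rw [SetLike.mem_coe, LinearMap.mem_ker]
        by_contra hne0
        refine hU0 (T w) (hTm w) hne0 fun a ha => ?_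
        have h1 := hT ⟨a, hRK ha⟩ w
        have h2 : (σ.comp K.subtype) ⟨a, hRK ha⟩ w = w := hwf a ha
        rw [h2] at h1
        exact h1.symm
    rw [eq_bot_iff]
    intro u hu
    rw [Submodule.mem_bot, ← hTU u hu]
    have h1 : u ∈ W ⊓ LinearMap.ker T := by rw [hker]; exact hUW hu
    exact LinearMap.mem_ker.mp h1.2

theorem irr_of_simple {K : Subgroup H} {σ : Representation E H V} {W : Submodule E V}
    (hW : Pres σ K W) (hne : ∃ w ∈ W, w ≠ 0)
    (hs : ∀ U : Submodule E V, Pres σ K U → U ≤ W → U = ⊥ ∨ U = W) :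
    Irr (sub σ K.subtype W (fun g w hw => hW g g.2 w hw)) := by
  obtain ⟨w, hw, hw0⟩ := hne
  refine ⟨⟨⟨w, hw⟩, 0, fun h => hw0 (congrArg Subtype.val h)⟩, fun U hU => ?_⟩
  have h1 := hs (U.map W.subtype) (by
    rintro g hg _ ⟨u, hu, rfl⟩
    exact ⟨_, hU ⟨g, hg⟩ u hu, rfl⟩) (Submodule.map_subtype_le W U)
  rcases h1 with h1 | h1
  · left
    rw [eq_bot_iff]
    intro u hu
    have h2 : (u : V) ∈ U.map W.subtype := ⟨u, hu, rfl⟩
    rw [h1, Submodule.mem_bot] at h2
    exact Subtype.ext h2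
  · right
    rw [eq_top_iff]
    rintro ⟨x, hx⟩ _
    rw [← h1] at hx
    obtain ⟨u, hu, hux⟩ := hx
    have : u = ⟨x, by rw [← h1]; exact ⟨u, hu, hux⟩⟩ := Subtype.ext hux
    rw [← this]
    exact hu

end Cfsg.Agent.H575.FTop
end

-- part: H555/F3/Lin
section
/-!
# Lower bounds for the dimension of the commutant of commuting operators of finite order
-/

set_option autoImplicit false
set_option linter.unusedSectionVars false

namespace Cfsg.Agent.H555.F3.Lin

open Module Polynomial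

section Any

variable {E : Type*} [Field E] {V : Type*} [AddCommGroup V] [Module E V] [FiniteDimensional E V]

/-- The commutant of an operator has dimension at least the dimension of the space. -/
theorem finrank_le_commutant (T : Module.End E V) (C : Submodule E (Module.End E V))
    (hC : ∀ S : Module.End E V, S * T = T * S → S ∈ C) : finrank E V ≤ finrank E C := by
  classical
  have htor : Module.IsTorsion E[X] (Module.AEval' T) :=
    Module.AEval.isTorsion_of_finiteDimensional E V T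
  obtain ⟨ι, _, p, hp, e, ⟨f⟩⟩ := Module.equiv_directSum_of_isTorsion htor
  let A := ∀ i : ι, E[X] ⧸ (Ideal.span {p i ^ e i} : Ideal E[X])
  let g : Module.AEval' T ≃ₗ[E[X]] A := f ≪≫ₗ DirectSum.linearEquivFunOnFintype _ _ _
  let o : V ≃ₗ[E] Module.AEval' T := Module.AEval'.of T
  have ho : ∀ v, o (T v) = (X : E[X]) • o v := fun v => (Module.AEval'.X_smul_of T v).symm
  let m : V → (Module.AEval' T →ₗ[E[X]] Module.AEval' T) := fun v =>
    g.symm.toLinearMap ∘ₗ (LinearMap.mulLeft E[X] (g (o v))) ∘ₗ g.toLinearMap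
  have hm : ∀ v x, m v x = g.symm (g (o v) * g x) := fun v x => rfl
  have hC' : ∀ (c : E) (y : Module.AEval' T), c • y = (Polynomial.C c : E[X]) • y := by
    intro c y
    exact (Module.AEval.C_smul T c y).symm
  let θ : V →ₗ[E] Module.End E V :=
    { toFun := fun v => o.symm.toLinearMap ∘ₗ ((m v).restrictScalars E) ∘ₗ o.toLinearMap
      map_add' := by
        intro a b
        apply LinearMap.ext
        intro x
        show o.symm (g.symm (g (o (a + b)) * g (o x))) =
          o.symm (g.symm (g (o a) * g (o x))) + o.symm (g.symm (g (o b) * g (o x)))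
        rw [map_add, map_add, add_mul, map_add, map_add]
      map_smul' := by
        intro c a
        apply LinearMap.ext
        intro x
        show o.symm (g.symm (g (o (c • a)) * g (o x))) =
          c • o.symm (g.symm (g (o a) * g (o x)))
        rw [map_smul, hC', map_smul, smul_mul_assoc, map_smul, ← hC', map_smul] }
  have hθ : ∀ v x, θ v x = o.symm (g.symm (g (o v) * g (o x))) := fun v x => rfl
  have hinj : Function.Injective θ := by
    intro a b hab
    have h1 : θ a (o.symm (g.symm 1)) = θ b (o.symm (g.symm 1)) := by rw [hab]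
    rw [hθ, hθ, LinearEquiv.apply_symm_apply, LinearEquiv.apply_symm_apply, mul_one, mul_one,
      LinearEquiv.symm_apply_apply, LinearEquiv.symm_apply_apply, LinearEquiv.symm_apply_apply,
      LinearEquiv.symm_apply_apply] at h1
    exact h1
  have hmem : ∀ v, θ v ∈ C := by
    intro v
    apply hC
    apply LinearMap.ext
    intro x
    show θ v (T x) = T (θ v x)
    apply o.injective
    rw [ho, hθ, hθ, LinearEquiv.apply_symm_apply, LinearEquiv.apply_symm_apply, ho, map_smul,
      mul_smul_comm, map_smul]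
  exact LinearMap.finrank_le_finrank_of_injective (f := θ.codRestrict C hmem)
    (fun a b hab => hinj (congrArg Subtype.val hab))

/-- The kernel of a nilpotent operator. -/
theorem finrank_le_mul_ker {W : Type*} [AddCommGroup W] [Module E W] [FiniteDimensional E W]
    (f : Module.End E W) {n : ℕ} (hf : f ^ n = 0) :
    finrank E W ≤ n * finrank E (LinearMap.ker f) := by
  have h : ∀ k : ℕ, finrank E (LinearMap.ker (f ^ k)) ≤ k * finrank E (LinearMap.ker f) := by
    intro k
    induction k with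
    | zero =>
      rw [pow_zero, Nat.zero_mul, Nat.le_zero]
      rw [show (1 : Module.End E W) = LinearMap.id from rfl, LinearMap.ker_id]
      exact finrank_bot E W
    | succ k ih =>
      let g : LinearMap.ker (f ^ (k + 1)) →ₗ[E] LinearMap.ker f :=
        ((f ^ k).comp (LinearMap.ker (f ^ (k + 1))).subtype).codRestrict (LinearMap.ker f) (by
          rintro ⟨x, hx⟩
          rw [LinearMap.mem_ker] at hx ⊢
          show f ((f ^ k) x) = 0
          rw [← Module.End.mul_apply, ← pow_succ']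
          exact hx)
      have h1 := LinearMap.finrank_range_add_finrank_ker g
      have h2 : finrank E (LinearMap.range g) ≤ finrank E (LinearMap.ker f) :=
        Submodule.finrank_le _
      have h3 : finrank E (LinearMap.ker g) ≤ finrank E (LinearMap.ker (f ^ k)) := by
        let i : LinearMap.ker g →ₗ[E] LinearMap.ker (f ^ k) :=
          ((LinearMap.ker (f ^ (k + 1))).subtype.comp (LinearMap.ker g).subtype).codRestrict _ (by
            rintro ⟨x, hx⟩
            rw [LinearMap.mem_ker] at hx ⊢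
            exact congrArg Subtype.val hx)
        refine LinearMap.finrank_le_finrank_of_injective (f := i) ?_
        intro a b hab
        have h4 : ((i a : LinearMap.ker (f ^ k)) : W) = i b := by rw [hab]
        exact Subtype.ext (Subtype.ext h4)
      rw [← h1, Nat.succ_mul, add_comm]
      exact Nat.add_le_add (h3.trans ih) h2
  have h1 := h n
  rw [hf, LinearMap.ker_zero, finrank_top] at h1
  exact h1

/-- An operator of order `n` in characteristic `n`. -/
theorem sq_le_of_char {n : ℕ} [hn : Fact n.Prime] [CharP E n] (T : Module.End E V)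
    (hT : T ^ n = 1) (C : Submodule E (Module.End E V))
    (hC : ∀ S : Module.End E V, S * T = T * S → S ∈ C) :
    finrank E V ^ 2 ≤ n * finrank E C := by
  have hchar : ∀ (A : Type _) [Ring A] [Algebra E A] (a b : A), Commute a b →
      (a - b) ^ n = a ^ n - b ^ n := by
    intro A _ _ a b hab
    by_cases hA : Nontrivial A
    · have : CharP A n := charP_of_injective_algebraMap (algebraMap E A).injective n
      exact sub_pow_char_of_commute _ hab
    · rw [not_nontrivial_iff_subsingleton] at hA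
      exact Subsingleton.elim _ _
  let N : Module.End E V := T - 1
  have hN : N ^ n = 0 := by
    rw [hchar _ T 1 (Commute.one_right T), hT, one_pow, sub_self]
  let L : Module.End E (Module.End E V) := LinearMap.mulLeft E N
  let R : Module.End E (Module.End E V) := LinearMap.mulRight E N
  have hLR : Commute L R := LinearMap.commute_mulLeft_right N N
  have hL : L ^ n = 0 := by
    show (LinearMap.mulLeft E N) ^ n = 0
    rw [LinearMap.pow_mulLeft, hN, LinearMap.mulLeft_zero_eq_zero]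
  have hR : R ^ n = 0 := by
    show (LinearMap.mulRight E N) ^ n = 0
    rw [LinearMap.pow_mulRight, hN, LinearMap.mulRight_zero_eq_zero]
  have h0 : (L - R) ^ n = 0 := by rw [hchar _ L R hLR, hL, hR, sub_self]
  have h1 := finrank_le_mul_ker (L - R) h0
  rw [Module.finrank_linearMap, ← sq] at h1
  refine h1.trans (Nat.mul_le_mul_left n (Submodule.finrank_mono ?_))
  intro S hS
  apply hC
  rw [LinearMap.mem_ker] at hS
  have h2 : N * S - S * N = 0 := hS
  have h3 : (T - 1) * S = S * (T - 1) := sub_eq_zero.mp h2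
  rw [sub_mul, mul_sub, one_mul, mul_one] at h3
  exact (sub_left_inj.mp h3).symm

end Any

section Closed

variable {E : Type*} [Field E] [IsAlgClosed E] {V : Type*} [AddCommGroup V] [Module E V]
  [FiniteDimensional E V]

/-- the eigenspace decomposition of an operator with `T ^ r = 1`, `r` invertible -/
theorem exists_blocks [DecidableEq E] (T : Module.End E V) {r : ℕ} (hr : (r : E) ≠ 0) (hT : T ^ r = 1) :
    ∃ Φ : (∀ μ : (Polynomial.nthRootsFinset r (1 : E)), T.eigenspace (μ : E)) ≃ₗ[E] V,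
      (∀ (μ : Polynomial.nthRootsFinset r (1 : E)) (v : T.eigenspace (μ : E)),
        Φ (Pi.single μ v) = v) ∧
        ∀ w, T (Φ w) = Φ fun μ => (μ : E) • w μ := by
  have hr0 : 0 < r := Nat.pos_of_ne_zero (by rintro rfl; exact hr Nat.cast_zero)
  have hss : T.IsSemisimple := by
    apply Module.End.isSemisimple_of_squarefree_aeval_eq_zero (p := Polynomial.X ^ r - 1)
    · exact (Polynomial.X_pow_sub_one_separable_iff.mpr hr).squarefree
    · rw [map_sub, map_pow, Polynomial.aeval_X, map_one, sub_eq_zero, hT]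
  have htop : ⨆ μ : E, T.eigenspace μ = ⊤ := by
    rw [← Module.End.iSup_maxGenEigenspace_eq_top T]
    exact iSup_congr fun μ => (hss.isFinitelySemisimple.maxGenEigenspace_eq_eigenspace μ).symm
  let S : Finset E := Polynomial.nthRootsFinset r (1 : E)
  have hpow : ∀ (μ : E) (v : V), T v = μ • v → ∀ n : ℕ, (T ^ n) v = μ ^ n • v := by
    intro μ v hv n
    induction n with
    | zero => simp
    | succ n ih => rw [pow_succ', Module.End.mul_apply, ih, map_smul, hv, smul_smul, pow_succ]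
  have hbot : ∀ μ : E, μ ∉ S → T.eigenspace μ = ⊥ := by
    intro μ hμ
    rw [eq_bot_iff]
    intro v hv
    rw [Module.End.mem_eigenspace_iff] at hv
    rw [Submodule.mem_bot]
    by_contra hv0
    apply hμ
    rw [Polynomial.mem_nthRootsFinset hr0]
    have h2 := hpow μ v hv r
    rw [hT, Module.End.one_apply] at h2
    have h3 : (μ ^ r - 1) • v = 0 := by rw [sub_smul, one_smul, ← h2, sub_self]
    exact sub_eq_zero.mp ((smul_eq_zero.mp h3).resolve_right hv0)
  have htop' : ⨆ μ : S, T.eigenspace (μ : E) = ⊤ := by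
    rw [eq_top_iff, ← htop]
    refine iSup_le fun μ => ?_
    by_cases h : μ ∈ S
    · exact le_iSup (fun μ : S => T.eigenspace (μ : E)) ⟨μ, h⟩
    · rw [hbot μ h]; exact bot_le
  have hind : iSupIndep fun μ : S => T.eigenspace (μ : E) :=
    (T.eigenspaces_iSupIndep).comp Subtype.val_injective
  have hint := DirectSum.isInternal_submodule_of_iSupIndep_of_iSup_eq_top hind htop'
  let Φ : (∀ μ : S, T.eigenspace (μ : E)) ≃ₗ[E] V :=
    (DirectSum.linearEquivFunOnFintype E S fun μ : S => T.eigenspace (μ : E)).symm ≪≫ₗ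
      LinearEquiv.ofBijective (DirectSum.coeLinearMap fun μ : S => T.eigenspace (μ : E)) hint
  have hΦs : ∀ (μ : S) (v : T.eigenspace (μ : E)), Φ (Pi.single μ v) = v := by
    intro μ v
    show (DirectSum.coeLinearMap fun μ : S => T.eigenspace (μ : E))
      ((DirectSum.linearEquivFunOnFintype E S fun μ : S => T.eigenspace (μ : E)).symm
        (Pi.single μ v)) = v
    rw [DirectSum.linearEquivFunOnFintype_symm_single, DirectSum.coeLinearMap_lof]
  refine ⟨Φ, hΦs, ?_⟩
  intro w
  have h2 : w = ∑ μ : S, Pi.single μ (w μ) := (Finset.univ_sum_single w).symm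
  have h3 : (fun μ : S => (μ : E) • w μ) = ∑ μ : S, Pi.single μ ((μ : E) • w μ) :=
    (Finset.univ_sum_single _).symm
  rw [h3]
  conv_lhs => rw [h2]
  rw [map_sum, map_sum, map_sum]
  refine Finset.sum_congr rfl fun μ _ => ?_
  rw [hΦs, hΦs]
  exact Module.End.mem_eigenspace_iff.mp (w μ).2

section Blocks

variable {ι : Type*} [Fintype ι] [DecidableEq ι] {U : ι → Submodule E V}
  (Φ : (∀ i : ι, U i) ≃ₗ[E] V)

/-- block diagonal operators -/
noncomputable def diag : (∀ i : ι, Module.End E (U i)) →ₗ[E] Module.End E V where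
  toFun φ := Φ.toLinearMap ∘ₗ (LinearMap.pi fun μ => φ μ ∘ₗ LinearMap.proj μ) ∘ₗ
        Φ.symm.toLinearMap
  map_add' := by
    intro a b
    apply LinearMap.ext
    intro v
    show Φ _ = Φ _ + Φ _
    rw [← map_add]
    rfl
  map_smul' := by
    intro c a
    apply LinearMap.ext
    intro v
    show Φ _ = c • Φ _
    rw [← map_smul]
    rfl

theorem diag_apply (φ : ∀ i : ι, Module.End E (U i)) (w : ∀ i : ι, U i) :
    diag Φ φ (Φ w) = Φ fun i => φ i (w i) := by
  show Φ _ = _
  congr 1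
  funext μ
  show φ μ (Φ.symm (Φ w) μ) = φ μ (w μ)
  rw [LinearEquiv.symm_apply_apply]

theorem diag_injective : Function.Injective (diag Φ) := by
  intro a b hab
  funext μ
  apply LinearMap.ext
  intro v
  have h2 : diag Φ a (Φ (Pi.single μ v)) = diag Φ b (Φ (Pi.single μ v)) := by rw [hab]
  rw [diag_apply, diag_apply] at h2
  have h3 := congrFun (Φ.injective h2) μ
  simpa using h3

include Φ in
theorem finrank_eq_sum : finrank E V = ∑ i : ι, finrank E (U i) := by
  rw [← Φ.finrank_eq, Module.finrank_pi_fintype]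

theorem sum_finrank_le (K : ∀ i : ι, Submodule E (Module.End E (U i))) (C : Submodule E (Module.End E V))
    (h : ∀ φ : ∀ i : ι, Module.End E (U i), (∀ i, φ i ∈ K i) → diag Φ φ ∈ C) :
    ∑ i : ι, finrank E (K i) ≤ finrank E C := by
  let θ : (∀ i : ι, K i) →ₗ[E] Module.End E V :=
    (diag Φ) ∘ₗ (LinearMap.pi fun i => (K i).subtype ∘ₗ LinearMap.proj i)
  have hθ : ∀ w, θ w ∈ C := fun w => h _ fun i => (w i).2
  have hinj : Function.Injective θ := by
    intro a b hab
    have h1 := diag_injective Φ hab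
    funext i
    exact Subtype.ext (congrFun h1 i)
  have h1 := LinearMap.finrank_le_finrank_of_injective (f := θ.codRestrict C hθ)
    (fun a b hab => hinj (congrArg Subtype.val hab))
  have hfree : ∀ i, Module.Free E (K i) := fun i => Module.Free.of_divisionRing E (K i)
  have hfin : ∀ i, Module.Finite E (K i) := fun i => inferInstance
  have h2 : finrank E (∀ i : ι, K i) = ∑ i : ι, finrank E (K i) := Module.finrank_pi_fintype E
  rwa [h2] at h1

include Φ in
theorem finrank_le_sum_sq (hΦ : ∀ (i : ι) (v : U i), Φ (Pi.single i v) = v)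
    (D : Submodule E (Module.End E V))
    (h : ∀ S ∈ D, ∀ i, ∀ v ∈ U i, S v ∈ U i) :
    finrank E D ≤ ∑ i : ι, finrank E (U i) ^ 2 := by
  let θ : D →ₗ[E] (∀ i : ι, Module.End E (U i)) :=
    { toFun := fun S i => (S : Module.End E V).restrict (h S S.2 i)
      map_add' := fun a b => rfl
      map_smul' := fun a b => rfl }
  have hinj : Function.Injective θ := by
    intro a b hab
    apply Subtype.ext
    apply LinearMap.ext
    intro v
    obtain ⟨w, rfl⟩ := Φ.surjective v
    have h2 : w = ∑ i : ι, Pi.single i (w i) := (Finset.univ_sum_single w).symm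
    rw [h2, map_sum, map_sum, map_sum]
    refine Finset.sum_congr rfl fun i _ => ?_
    rw [hΦ]
    have h3 := congrFun hab i
    have h4 : ((θ a i (w i) : U i) : V) = θ b i (w i) := by rw [h3]
    exact h4
  have h1 := LinearMap.finrank_le_finrank_of_injective hinj
  rw [Module.finrank_pi_fintype] at h1
  refine h1.trans (le_of_eq ?_)
  refine Finset.sum_congr rfl fun i _ => ?_
  rw [Module.finrank_linearMap, sq]

end Blocks

theorem card_nthRoots_le (r : ℕ) : Fintype.card (Polynomial.nthRootsFinset r (1 : E)) ≤ r := by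
  classical
  rw [Fintype.card_coe, Polynomial.nthRootsFinset_def]
  exact (Multiset.toFinset_card_le _).trans (Polynomial.card_nthRoots r 1)

/-- An operator of order dividing an invertible `n`. -/
theorem sq_le_of_ne {n : ℕ} (hn : (n : E) ≠ 0) (T : Module.End E V)
    (hT : T ^ n = 1) (C : Submodule E (Module.End E V))
    (hC : ∀ S : Module.End E V, S * T = T * S → S ∈ C) :
    finrank E V ^ 2 ≤ n * finrank E C := by
  classical
  obtain ⟨Φ, hΦ, hT'⟩ := exists_blocks T hn hT
  have h1 : ∑ μ : Polynomial.nthRootsFinset n (1 : E),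
      finrank E (⊤ : Submodule E (Module.End E (T.eigenspace (μ : E)))) ≤ finrank E C := by
    refine sum_finrank_le Φ (fun _ => ⊤) C fun φ _ => ?_
    apply hC
    apply LinearMap.ext
    intro v
    obtain ⟨w, rfl⟩ := Φ.surjective v
    rw [Module.End.mul_apply, Module.End.mul_apply, hT', diag_apply, diag_apply, hT']
    congr 1
    funext μ
    rw [map_smul]
  rw [finrank_eq_sum Φ]
  have h2 : ∑ μ : Polynomial.nthRootsFinset n (1 : E), finrank E (T.eigenspace (μ : E)) ^ 2 ≤
      finrank E C := by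
    refine le_trans (le_of_eq ?_) h1
    refine Finset.sum_congr rfl fun μ _ => ?_
    rw [finrank_top, Module.finrank_linearMap, sq]
  refine (sq_sum_le_card_mul_sum_sq).trans ?_
  refine Nat.mul_le_mul ?_ h2
  rw [Finset.card_univ]
  exact card_nthRoots_le n

/-- An operator of prime order. -/
theorem sq_le {n : ℕ} (hn : n.Prime) (T : Module.End E V)
    (hT : T ^ n = 1) (C : Submodule E (Module.End E V))
    (hC : ∀ S : Module.End E V, S * T = T * S → S ∈ C) :
    finrank E V ^ 2 ≤ n * finrank E C := by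
  by_cases h : (n : E) = 0
  · have : Fact n.Prime := ⟨hn⟩
    have hc : CharP E n := by
      obtain ⟨p, hp⟩ := CharP.exists E
      have h1 : p ∣ n := (CharP.cast_eq_zero_iff E p n).mp h
      rcases CharP.char_is_prime_or_zero E p with h2 | h2
      · rwa [(Nat.prime_dvd_prime_iff_eq h2 hn).mp h1] at hp
      · rw [h2, zero_dvd_iff] at h1
        exact absurd h1 hn.ne_zero
    exact sq_le_of_char T hT C hC
  · exact sq_le_of_ne h T hT C hC

/-- Lower bound for the commutant of two commuting operators. -/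
theorem comm_lower (T0 T1 : Module.End E V) {r n : ℕ} (hr : (r : E) ≠ 0) (h0 : T0 ^ r = 1)
    (hn : n.Prime) (h1 : T1 ^ n = 1) (hcomm : T1 * T0 = T0 * T1)
    (hfix : ∀ v, T0 v = v → T1 v = v)
    (C D : Submodule E (Module.End E V))
    (hC : ∀ S : Module.End E V, S * T0 = T0 * S → S * T1 = T1 * S → S ∈ C)
    (hD : ∀ S ∈ D, S * T0 = T0 * S) :
    finrank E D + (n - 1) * finrank E (T0.eigenspace 1) ^ 2 ≤ n * finrank E C := by
  classical
  obtain ⟨Φ, hΦ, hT'⟩ := exists_blocks T0 hr h0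
  have hr0 : 0 < r := Nat.pos_of_ne_zero (by rintro rfl; exact hr Nat.cast_zero)
  let ι := Polynomial.nthRootsFinset r (1 : E)
  let U : ι → Submodule E V := fun μ => T0.eigenspace (μ : E)
  have hinv : ∀ (S : Module.End E V), S * T0 = T0 * S → ∀ (μ : ι), ∀ v ∈ U μ, S v ∈ U μ := by
    intro S hS μ v hv
    rw [Module.End.mem_eigenspace_iff] at hv ⊢
    rw [← Module.End.mul_apply, ← hS, Module.End.mul_apply, hv, map_smul]
  let τ : ∀ μ : ι, Module.End E (U μ) := fun μ => T1.restrict (hinv T1 hcomm μ)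
  have hτv : ∀ (μ : ι) (v : U μ), ((τ μ v : U μ) : V) = T1 v := fun μ v => rfl
  have hτpow : ∀ (μ : ι) (k : ℕ) (v : U μ), (((τ μ ^ k) v : U μ) : V) = (T1 ^ k) v := by
    intro μ k
    induction k with
    | zero => intro v; rfl
    | succ k ih =>
      intro v
      rw [pow_succ, pow_succ, Module.End.mul_apply, Module.End.mul_apply, ih, hτv]
  have hτ : ∀ μ : ι, τ μ ^ n = 1 := by
    intro μ
    apply LinearMap.ext
    intro v
    apply Subtype.ext
    rw [hτpow, h1]
    rfl
  let K : ∀ μ : ι, Submodule E (Module.End E (U μ)) := fun μ =>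
    { carrier := {S | S * τ μ = τ μ * S}
      add_mem' := by
        intro a b ha hb
        show (a + b) * τ μ = τ μ * (a + b)
        rw [add_mul, mul_add, ha, hb]
      zero_mem' := by
        show 0 * τ μ = τ μ * 0
        rw [zero_mul, mul_zero]
      smul_mem' := by
        intro c a ha
        show c • a * τ μ = τ μ * c • a
        rw [smul_mul_assoc, mul_smul_comm, ha] }
  have hK : ∀ μ : ι, finrank E (U μ) ^ 2 ≤ n * finrank E (K μ) := fun μ =>
    sq_le hn (τ μ) (hτ μ) (K μ) (fun S hS => hS)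
  have h2 : ∑ μ : ι, finrank E (K μ) ≤ finrank E C := by
    refine sum_finrank_le Φ K C fun φ hφ => ?_
    apply hC
    · apply LinearMap.ext
      intro v
      obtain ⟨w, rfl⟩ := Φ.surjective v
      rw [Module.End.mul_apply, Module.End.mul_apply, hT', diag_apply, diag_apply, hT']
      congr 1
      funext μ
      rw [map_smul]
    · have hT1 : ∀ w, T1 (Φ w) = Φ fun μ => τ μ (w μ) := by
        intro w
        have h4 : w = ∑ i : ι, Pi.single i (w i) := (Finset.univ_sum_single w).symm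
        have h5 : (fun μ => τ μ (w μ)) = ∑ i : ι, Pi.single i (τ i (w i)) :=
          (Finset.univ_sum_single _).symm
        rw [h5]
        conv_lhs => rw [h4]
        rw [map_sum, map_sum, map_sum]
        refine Finset.sum_congr rfl fun μ _ => ?_
        rw [hΦ, hΦ, hτv]
      apply LinearMap.ext
      intro v
      obtain ⟨w, rfl⟩ := Φ.surjective v
      rw [Module.End.mul_apply, Module.End.mul_apply, hT1, diag_apply, diag_apply, hT1]
      congr 1
      funext μ
      exact congrArg (fun S => S (w μ)) (hφ μ)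
  have h3 : finrank E D ≤ ∑ μ : ι, finrank E (U μ) ^ 2 :=
    finrank_le_sum_sq Φ hΦ D fun S hS μ v hv => hinv S (hD S hS) μ v hv
  let o : ι := ⟨1, (Polynomial.mem_nthRootsFinset hr0 1).mpr (one_pow r)⟩
  have hK1 : finrank E (K o) = finrank E (U o) ^ 2 := by
    have h4 : K o = ⊤ := by
      rw [eq_top_iff]
      intro S _
      show S * τ o = τ o * S
      have h5 : τ o = 1 := by
        apply LinearMap.ext
        intro v
        apply Subtype.ext
        rw [hτv]
        refine hfix v ?_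
        have h6 := Module.End.mem_eigenspace_iff.mp v.2
        rw [show ((o : ι) : E) = 1 from rfl, one_smul] at h6
        exact h6
      rw [h5, mul_one, one_mul]
    rw [h4, finrank_top, Module.finrank_linearMap, sq]
  have h4 : ∑ μ : ι, finrank E (U μ) ^ 2 + (n - 1) * finrank E (U o) ^ 2 ≤
      n * ∑ μ : ι, finrank E (K μ) := by
    rw [← Finset.add_sum_erase Finset.univ (fun μ => finrank E (U μ) ^ 2) (Finset.mem_univ o),
      ← Finset.add_sum_erase Finset.univ (fun μ => finrank E (K μ)) (Finset.mem_univ o), mul_add,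
      hK1, Finset.mul_sum]
    have h5 : ∑ μ ∈ Finset.univ.erase o, finrank E (U μ) ^ 2 ≤
        ∑ μ ∈ Finset.univ.erase o, n * finrank E (K μ) := Finset.sum_le_sum fun μ _ => hK μ
    have h6 : n * finrank E (U o) ^ 2 = finrank E (U o) ^ 2 + (n - 1) * finrank E (U o) ^ 2 := by
      obtain ⟨k, rfl⟩ : ∃ k, n = k + 1 := ⟨n - 1, by have := hn.pos; omega⟩
      rw [Nat.add_sub_cancel]
      ring
    rw [h6]
    omega
  calc finrank E D + (n - 1) * finrank E (T0.eigenspace 1) ^ 2
      ≤ ∑ μ : ι, finrank E (U μ) ^ 2 + (n - 1) * finrank E (U o) ^ 2 :=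
        Nat.add_le_add_right h3 _
    _ ≤ n * ∑ μ : ι, finrank E (K μ) := h4
    _ ≤ n * finrank E C := Nat.mul_le_mul_left n h2

/-- The dimension of the fixed space. -/
theorem mult_aux (T0 : Module.End E V) {r : ℕ} (hr : (r : E) ≠ 0) (h0 : T0 ^ r = 1)
    (C : Submodule E (Module.End E V)) (hC : ∀ S : Module.End E V, S * T0 = T0 * S → S ∈ C)
    {o : ℕ} (hle : finrank E C ≤ o) (ho : o * r = finrank E V ^ 2 + (r - 1)) :
    finrank E V ≤ r * finrank E (T0.eigenspace 1) + (r - 1) := by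
  classical
  obtain ⟨Φ, hΦ, hT'⟩ := exists_blocks T0 hr h0
  have hr0 : 0 < r := Nat.pos_of_ne_zero (by rintro rfl; exact hr Nat.cast_zero)
  let ι := Polynomial.nthRootsFinset r (1 : E)
  let U : ι → Submodule E V := fun μ => T0.eigenspace (μ : E)
  have h2 : ∑ μ : ι, finrank E (⊤ : Submodule E (Module.End E (U μ))) ≤ finrank E C := by
    refine sum_finrank_le Φ (fun _ => ⊤) C fun φ _ => ?_
    apply hC
    apply LinearMap.ext
    intro v
    obtain ⟨w, rfl⟩ := Φ.surjective v
    rw [Module.End.mul_apply, Module.End.mul_apply, hT', diag_apply, diag_apply, hT']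
    congr 1
    funext μ
    rw [map_smul]
  have h3 : ∑ μ : ι, finrank E (U μ) ^ 2 ≤ o := by
    refine le_trans (le_of_eq ?_) (h2.trans hle)
    refine Finset.sum_congr rfl fun μ _ => ?_
    rw [finrank_top, Module.finrank_linearMap, sq]
  let i1 : ι := ⟨1, (Polynomial.mem_nthRootsFinset hr0 1).mpr (one_pow r)⟩
  set a := finrank E (T0.eigenspace 1) with ha
  have hU1 : finrank E (U i1) = a := rfl
  rw [← Finset.add_sum_erase Finset.univ (fun μ => finrank E (U μ) ^ 2) (Finset.mem_univ i1)]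
    at h3
  have h4 : finrank E V = a + ∑ μ ∈ Finset.univ.erase i1, finrank E (U μ) := by
    rw [finrank_eq_sum Φ]
    exact (Finset.add_sum_erase Finset.univ (fun μ => finrank E (U μ)) (Finset.mem_univ i1)).symm
  have h5 : (∑ μ ∈ Finset.univ.erase i1, finrank E (U μ)) ^ 2 ≤
      (r - 1) * ∑ μ ∈ Finset.univ.erase i1, finrank E (U μ) ^ 2 := by
    refine (sq_sum_le_card_mul_sum_sq).trans ?_
    refine Nat.mul_le_mul_right _ ?_
    rw [Finset.card_erase_of_mem (Finset.mem_univ i1), Finset.card_univ]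
    exact Nat.sub_le_sub_right (card_nthRoots_le r) 1
  set b := ∑ μ ∈ Finset.univ.erase i1, finrank E (U μ) with hb
  set c := ∑ μ ∈ Finset.univ.erase i1, finrank E (U μ) ^ 2 with hc
  rw [hU1] at h3
  obtain ⟨t, rfl⟩ : ∃ t, r = t + 1 := ⟨r - 1, by omega⟩
  rw [Nat.add_sub_cancel] at ho h5 ⊢
  rw [h4] at ho ⊢
  -- a² + c ≤ o, b² ≤ t c, o (t+1) = (a+b)² + t
  have h6 : t * ((a ^ 2 + c) * (t + 1)) ≤ t * ((a + b) ^ 2 + t) := by
    rw [← ho]
    exact Nat.mul_le_mul_left _ (Nat.mul_le_mul_right _ h3)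
  by_contra hcon
  push Not at hcon
  -- b > t a + t
  have h7 : t * a + t + 1 ≤ b := by nlinarith
  obtain ⟨e, he⟩ : ∃ e, b = t * a + t + 1 + e := ⟨b - (t * a + t + 1), by omega⟩
  rw [he] at h5 h6
  nlinarith [Nat.zero_le (e * t), Nat.zero_le (e ^ 2), Nat.zero_le (t * a * e),
    Nat.mul_le_mul_right (t + 1) h5]

end Closed

end Cfsg.Agent.H555.F3.Lin
end

-- part: H555/F3/Sq
section
/-!
# The order of a group with centre of prime order and abelian central quotient
-/

set_option autoImplicit false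

namespace Cfsg.Agent.H555.F3.Sq

open Subgroup
open scoped IsMulCommutative

theorem card_hom_le {B Z : Type*} [Group B] [Finite B] [Group Z] {s : ℕ} (hs : s.Prime)
    (hcomm : ∀ x y : B, x * y = y * x) (hZ : Nat.card Z = s) :
    Finite (B →* Z) ∧ Nat.card (B →* Z) ≤ Nat.card B := by
  let _ : CommGroup B := { (inferInstance : Group B) with mul_comm := hcomm }
  have hsf : Fact s.Prime := ⟨hs⟩
  have hs0 : NeZero s := ⟨hs.ne_zero⟩
  have hfZ : Finite Z := Nat.finite_of_card_ne_zero (by rw [hZ]; exact hs.ne_zero)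
  have hc1 : IsCyclic Z := isCyclic_of_prime_card hZ
  have hcard : Nat.card (rootsOfUnity s ℂ) = s := Complex.card_rootsOfUnity s
  have hc2 : IsCyclic (rootsOfUnity s ℂ) := isCyclic_of_prime_card hcard
  let e : Z ≃* rootsOfUnity s ℂ := mulEquivOfCyclicCardEq (by rw [hZ, hcard])
  let j : Z →* ℂˣ := (rootsOfUnity s ℂ).subtype.comp e.toMonoidHom
  have hj : Function.Injective j := fun a b hab =>
    e.injective ((rootsOfUnity s ℂ).subtype_injective hab)
  have h1 : Nat.card (B →* ℂˣ) = Nat.card B :=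
    CommGroup.card_monoidHom_of_hasEnoughRootsOfUnity B ℂ
  have hfin : Finite (B →* ℂˣ) := Nat.finite_of_card_ne_zero (by rw [h1]; exact Nat.card_pos.ne')
  have hinj : Function.Injective (fun f : B →* Z => j.comp f) := by
    intro f g hfg
    ext x
    exact hj (DFunLike.congr_fun hfg x)
  exact ⟨Finite.of_injective _ hinj, (Nat.card_le_card_of_injective _ hinj).trans h1.le⟩

variable {K : Type*} [Group K]

theorem comm_mul_left (hab : ∀ x y : K, x * y * x⁻¹ * y⁻¹ ∈ center K) (x x' y : K) :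
    (x * x') * y * (x * x')⁻¹ * y⁻¹ = (x * y * x⁻¹ * y⁻¹) * (x' * y * x'⁻¹ * y⁻¹) := by
  have h1 := Subgroup.mem_center_iff.mp (hab x' y) x
  calc (x * x') * y * (x * x')⁻¹ * y⁻¹ = (x * (x' * y * x'⁻¹ * y⁻¹)) * (y * x⁻¹ * y⁻¹) := by group
    _ = ((x' * y * x'⁻¹ * y⁻¹) * x) * (y * x⁻¹ * y⁻¹) := by rw [h1]
    _ = (x' * y * x'⁻¹ * y⁻¹) * (x * y * x⁻¹ * y⁻¹) := by group
    _ = (x * y * x⁻¹ * y⁻¹) * (x' * y * x'⁻¹ * y⁻¹) :=
      (Subgroup.mem_center_iff.mp (hab x' y) (x * y * x⁻¹ * y⁻¹)).symm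

theorem comm_mul_right (hab : ∀ x y : K, x * y * x⁻¹ * y⁻¹ ∈ center K) (x y y' : K) :
    x * (y * y') * x⁻¹ * (y * y')⁻¹ = (x * y * x⁻¹ * y⁻¹) * (x * y' * x⁻¹ * y'⁻¹) := by
  have h1 := Subgroup.mem_center_iff.mp (hab x y') y
  calc x * (y * y') * x⁻¹ * (y * y')⁻¹ =
      (x * y * x⁻¹ * y⁻¹) * (y * (x * y' * x⁻¹ * y'⁻¹)) * y⁻¹ := by group
    _ = (x * y * x⁻¹ * y⁻¹) * ((x * y' * x⁻¹ * y'⁻¹) * y) * y⁻¹ := by rw [h1]
    _ = _ := by group

/-- a maximal abelian subgroup -/
theorem exists_max_abelian (K : Type*) [Group K] [Finite K] :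
    ∃ A : Subgroup K, ∀ x : K, x ∈ A ↔ ∀ a ∈ A, x * a = a * x := by
  classical
  let S : Set (Subgroup K) := {A | ∀ x ∈ A, ∀ y ∈ A, x * y = y * x}
  have hS : S.Nonempty := ⟨⊥, fun x hx y hy => by
    rw [Subgroup.mem_bot] at hx hy
    rw [hx, hy]⟩
  obtain ⟨A, hA⟩ := (Set.toFinite S).exists_maximal hS
  refine ⟨A, fun x => ⟨fun hx a ha => hA.prop x hx a ha, fun hx => ?_⟩⟩
  have hcl : ∀ u ∈ (insert x (A : Set K)), ∀ v ∈ (insert x (A : Set K)), u * v = v * u := by
    intro u hu v hv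
    rcases hu with rfl | hu
    · rcases hv with rfl | hv
      · rfl
      · exact hx v hv
    · rcases hv with rfl | hv
      · exact (hx u hu).symm
      · exact hA.prop u hu v hv
  have hB : Subgroup.closure (insert x (A : Set K)) ∈ S := by
    intro u hu v hv
    have h1 := (Subgroup.isMulCommutative_closure hcl).is_comm.comm ⟨u, hu⟩ ⟨v, hv⟩
    exact congrArg Subtype.val h1
  have hle : A ≤ Subgroup.closure (insert x (A : Set K)) := fun a ha =>
    Subgroup.subset_closure (Set.mem_insert_of_mem x ha)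
  exact hA.le_of_ge hB hle (Subgroup.subset_closure (Set.mem_insert x _))

/-- **The square lemma.** -/
theorem exists_sq [Finite K] {s : ℕ} (hs : s.Prime) (hZ : Nat.card (center K) = s)
    (hab : ∀ x y : K, x * y * x⁻¹ * y⁻¹ ∈ center K) : ∃ m, Nat.card (K ⧸ center K) = m ^ 2 := by
  obtain ⟨A, hA⟩ := exists_max_abelian K
  have hZA : center K ≤ A := fun z hz => (hA z).mpr fun a _ =>
    (Subgroup.mem_center_iff.mp hz a).symm
  have hAn : A.Normal := by
    constructor
    intro a ha g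
    have h1 : g * a * g⁻¹ = (g * a * g⁻¹ * a⁻¹) * a := by group
    rw [h1]
    exact A.mul_mem (hZA (hab g a)) ha
  let β : K → K → center K := fun x y => ⟨x * y * x⁻¹ * y⁻¹, hab x y⟩
  have hβl : ∀ x x' y, β (x * x') y = β x y * β x' y := fun x x' y =>
    Subtype.ext (comm_mul_left hab x x' y)
  have hβr : ∀ x y y', β x (y * y') = β x y * β x y' := fun x y y' =>
    Subtype.ext (comm_mul_right hab x y y')
  have hβ1 : ∀ x y, β x y = 1 ↔ x * y = y * x := by
    intro x y
    constructor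
    · intro h
      have h1 : x * y * x⁻¹ * y⁻¹ = 1 := congrArg Subtype.val h
      rwa [mul_inv_eq_one, mul_inv_eq_iff_eq_mul] at h1
    · intro h
      apply Subtype.ext
      show x * y * x⁻¹ * y⁻¹ = 1
      rwa [mul_inv_eq_one, mul_inv_eq_iff_eq_mul]
  let Z' : Subgroup A := (center K).subgroupOf A
  have hZn : Z'.Normal := inferInstanceAs ((center K).subgroupOf A).Normal
  -- first map
  let f : K →* ((A ⧸ Z') →* center K) :=
    { toFun := fun x => QuotientGroup.lift Z'
        { toFun := fun a => β x a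
          map_one' := (hβ1 x 1).mpr (by rw [mul_one, one_mul])
          map_mul' := fun a b => hβr x a b } (by
            intro a ha
            exact (hβ1 x a).mpr (Subgroup.mem_center_iff.mp ha x))
      map_one' := by
        ext a
        exact congrArg Subtype.val ((hβ1 1 a).mpr (by rw [mul_one, one_mul]))
      map_mul' := by
        intro x y
        ext a
        exact congrArg Subtype.val (hβl x y a) }
  have hfker : f.ker = A := by
    ext x
    rw [MonoidHom.mem_ker, hA]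
    constructor
    · intro h a ha
      have h1 : f x (QuotientGroup.mk ⟨a, ha⟩) = 1 := by rw [h]; rfl
      exact (hβ1 x a).mp h1
    · intro h
      ext a
      exact congrArg Subtype.val ((hβ1 x a).mpr (h a a.2))
  -- second map
  let g : A →* ((K ⧸ A) →* center K) :=
    { toFun := fun a => QuotientGroup.lift A
        { toFun := fun x => β x a
          map_one' := (hβ1 1 a).mpr (by rw [mul_one, one_mul])
          map_mul' := fun x y => hβl x y a } (by
            intro x hx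
            exact (hβ1 x a).mpr ((hA x).mp hx a a.2))
      map_one' := by
        ext x
        exact congrArg Subtype.val ((hβ1 x 1).mpr (by rw [mul_one, one_mul]))
      map_mul' := by
        intro a b
        ext x
        exact congrArg Subtype.val (hβr x a b) }
  have hgker : g.ker = Z' := by
    ext a
    rw [MonoidHom.mem_ker, Subgroup.mem_subgroupOf, Subgroup.mem_center_iff]
    constructor
    · intro h x
      have h1 : g a (QuotientGroup.mk x) = 1 := by rw [h]; rfl
      exact (hβ1 x a).mp h1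
    · intro h
      ext x
      exact congrArg Subtype.val ((hβ1 x a).mpr (h x))
  have hc1 : ∀ x y : A ⧸ Z', x * y = y * x := by
    intro x y
    induction x using QuotientGroup.induction_on with | H a => ?_
    induction y using QuotientGroup.induction_on with | H b => ?_
    rw [← QuotientGroup.mk_mul, ← QuotientGroup.mk_mul]
    exact congrArg _ (Subtype.ext ((hA a).mp a.2 b b.2))
  have hc2 : ∀ x y : K ⧸ A, x * y = y * x := by
    intro x y
    induction x using QuotientGroup.induction_on with | H a => ?_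
    induction y using QuotientGroup.induction_on with | H b => ?_
    rw [← QuotientGroup.mk_mul, ← QuotientGroup.mk_mul, QuotientGroup.eq]
    have h1 : (a * b)⁻¹ * (b * a) = b⁻¹ * a⁻¹ * b⁻¹⁻¹ * a⁻¹⁻¹ := by group
    rw [h1]
    exact hZA (hab b⁻¹ a⁻¹)
  obtain ⟨hf1, hf2⟩ := card_hom_le hs hc1 hZ
  obtain ⟨hg1, hg2⟩ := card_hom_le hs hc2 hZ
  have h1 : Nat.card (K ⧸ A) ≤ Nat.card (A ⧸ Z') := by
    refine le_trans ?_ hf2
    have h2 : Nat.card (K ⧸ f.ker) ≤ Nat.card ((A ⧸ Z') →* center K) :=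
      Nat.card_le_card_of_injective _ (QuotientGroup.kerLift_injective f)
    rwa [hfker] at h2
  have h2 : Nat.card (A ⧸ Z') ≤ Nat.card (K ⧸ A) := by
    refine le_trans ?_ hg2
    have h2 : Nat.card (A ⧸ g.ker) ≤ Nat.card ((K ⧸ A) →* center K) :=
      Nat.card_le_card_of_injective _ (QuotientGroup.kerLift_injective g)
    rwa [hgker] at h2
  refine ⟨Nat.card (K ⧸ A), ?_⟩
  have h3 : Nat.card (A ⧸ Z') = Nat.card (K ⧸ A) := le_antisymm h2 h1
  have h4 : (center K).relIndex A * A.index = (center K).index :=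
    Subgroup.relIndex_mul_index hZA
  have h5 : (center K).relIndex A = Nat.card (A ⧸ Z') := rfl
  have h6 : (center K).index = Nat.card (K ⧸ center K) := rfl
  have h7 : A.index = Nat.card (K ⧸ A) := rfl
  rw [← h6, ← h4, h5, h3, h7, sq]

end Cfsg.Agent.H555.F3.Sq
end

-- part: H555/F3/Count
section
/-!
# Counting the orbits of a product of two commuting groups
-/

set_option autoImplicit false
set_option linter.unusedSectionVars false

namespace Cfsg.Agent.H555.F3.Count

open Subgroup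

variable {X : Type*} {R : Type*} [Group R] [MulAction R X]

/-- the action of `R × ⟨τ⟩` -/
def phi (τ : Equiv.Perm X) (hcomm : ∀ (a : R) (x : X), τ (a • x) = a • τ x) :
    R × zpowers τ →* Equiv.Perm X :=
  MonoidHom.noncommCoprod (MulAction.toPermHom R X) (zpowers τ).subtype (by
    intro a p
    obtain ⟨p, hp⟩ := p
    obtain ⟨k, rfl⟩ := Subgroup.mem_zpowers_iff.mp hp
    have h1 : Commute (MulAction.toPermHom R X a) τ := by
      apply Equiv.ext
      intro x
      exact (hcomm a x).symm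
    exact h1.zpow_right k)

theorem phi_apply (τ : Equiv.Perm X) (hcomm : ∀ (a : R) (x : X), τ (a • x) = a • τ x)
    (k : R × zpowers τ) (x : X) : phi τ hcomm k x = k.1 • ((k.2 : Equiv.Perm X) x) := rfl

/-- the action of `R × ⟨τ⟩` -/
@[reducible]
def act (τ : Equiv.Perm X) (hcomm : ∀ (a : R) (x : X), τ (a • x) = a • τ x) :
    MulAction (R × zpowers τ) X := MulAction.compHom X (phi τ hcomm)

theorem card_orbits [Finite X] [Finite R] (τ : Equiv.Perm X)
    (hcomm : ∀ (a : R) (x : X), τ (a • x) = a • τ x) (x0 : X)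
    (h0 : ∀ a : R, a • x0 = x0) (hτ0 : τ x0 = x0)
    (hfree : ∀ a : R, a ≠ 1 → ∀ x, a • x = x → x = x0)
    (hcop : (Nat.card R).Coprime (orderOf τ)) {N : ℕ}
    (hN : ∀ p ∈ zpowers τ, p ≠ 1 → Nat.card {x // p x = x} = N) :
    letI := act τ hcomm
    Nat.card (MulAction.orbitRel.Quotient (R × zpowers τ) X) * (Nat.card R * orderOf τ) =
      Nat.card X + (orderOf τ - 1) * N + orderOf τ * (Nat.card R - 1) := by
  classical
  let _ := act τ hcomm
  have : Fintype X := Fintype.ofFinite X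
  have : Fintype R := Fintype.ofFinite R
  have : Fintype (zpowers τ) := Fintype.ofFinite _
  have : Fintype (MulAction.orbitRel.Quotient (R × zpowers τ) X) := Fintype.ofFinite _
  have h1 := MulAction.sum_card_fixedBy_eq_card_orbits_mul_card_group (R × zpowers τ) X
  have hcardτ : Fintype.card (zpowers τ) = orderOf τ := by
    rw [← Nat.card_eq_fintype_card, Nat.card_zpowers]
  have hpx0 : ∀ p ∈ zpowers τ, p x0 = x0 := by
    intro p hp
    have h2 : zpowers τ ≤ MulAction.stabilizer (Equiv.Perm X) x0 := by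
      rw [Subgroup.zpowers_le]
      exact hτ0
    exact h2 hp
  have hcommp : ∀ p ∈ zpowers τ, ∀ (a : R) (x : X), p (a • x) = a • p x := by
    intro p hp a x
    have h2 : zpowers τ ≤ Subgroup.centralizer {MulAction.toPermHom R X a} := by
      rw [Subgroup.zpowers_le, Subgroup.mem_centralizer_singleton_iff]
      apply Equiv.ext
      intro y
      exact hcomm a y
    have h3 := Subgroup.mem_centralizer_singleton_iff.mp (h2 hp)
    exact DFunLike.congr_fun h3 x
  have h2 : ∀ a : R, a ≠ 1 → ∀ p : zpowers τ,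
      Fintype.card (MulAction.fixedBy X ((a, p) : R × zpowers τ)) = 1 := by
    intro a ha p
    rw [Fintype.card_eq_one_iff]
    refine ⟨⟨x0, ?_⟩, ?_⟩
    · rw [MulAction.mem_fixedBy]
      show a • ((p : Equiv.Perm X) x0) = x0
      rw [hpx0 p p.2, h0]
    · rintro ⟨x, hx⟩
      apply Subtype.ext
      show x = x0
      rw [MulAction.mem_fixedBy] at hx
      have h3 : ∀ k : ℕ, a ^ k • (((p : Equiv.Perm X) ^ k) x) = x := by
        intro k
        induction k with
        | zero => simp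
        | succ k ih =>
          have h4 : a • ((p : Equiv.Perm X) x) = x := hx
          rw [pow_succ, pow_succ, Equiv.Perm.mul_apply, mul_smul]
          have h5 : a • ((p : Equiv.Perm X) ^ k) ((p : Equiv.Perm X) x) =
              ((p : Equiv.Perm X) ^ k) (a • ((p : Equiv.Perm X) x)) :=
            (hcommp _ ((zpowers τ).pow_mem p.2 k) a _).symm
          rw [h5, h4, ih]
      have h4 := h3 (orderOf τ)
      have h5 : (p : Equiv.Perm X) ^ orderOf τ = 1 := by
        have h6 : p ^ orderOf τ = 1 := by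
          rw [← hcardτ, ← Nat.card_eq_fintype_card]
          exact pow_card_eq_one'
        exact congrArg Subtype.val h6
      rw [h5, Equiv.Perm.one_apply] at h4
      refine hfree _ ?_ x h4
      intro h6
      apply ha
      have h7 : orderOf a ∣ 1 := by
        rw [← hcop]
        exact Nat.dvd_gcd (orderOf_dvd_natCard a) (orderOf_dvd_of_pow_eq_one h6)
      exact orderOf_eq_one_iff.mp (Nat.dvd_one.mp h7)
  have h3 : ∀ p : zpowers τ, p ≠ 1 →
      Fintype.card (MulAction.fixedBy X ((1, p) : R × zpowers τ)) = N := by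
    intro p hp
    rw [← hN p p.2 (fun h => hp (Subtype.ext h)), Nat.card_eq_fintype_card]
    refine Fintype.card_congr (Equiv.subtypeEquivRight fun x => ?_)
    rw [MulAction.mem_fixedBy]
    show (1 : R) • ((p : Equiv.Perm X) x) = x ↔ _
    rw [one_smul]
  have h4 : Fintype.card (MulAction.fixedBy X ((1, 1) : R × zpowers τ)) = Fintype.card X := by
    have : MulAction.fixedBy X ((1, 1) : R × zpowers τ) = Set.univ := by
      ext x
      rw [MulAction.mem_fixedBy]
      refine ⟨fun _ => Set.mem_univ _, fun _ => ?_⟩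
      show (1 : R) • ((1 : Equiv.Perm X) x) = x
      rw [one_smul, Equiv.Perm.one_apply]
    refine Fintype.card_congr ?_
    rw [this]
    exact Equiv.Set.univ _
  rw [Fintype.sum_prod_type, ← Finset.add_sum_erase Finset.univ _ (Finset.mem_univ (1 : R))] at h1
  have h5 : ∑ p : zpowers τ, Fintype.card (MulAction.fixedBy X ((1, p) : R × zpowers τ)) =
      Fintype.card X + (orderOf τ - 1) * N := by
    rw [← Finset.add_sum_erase Finset.univ _ (Finset.mem_univ (1 : zpowers τ)), h4,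
      Finset.sum_congr rfl (fun p hp => h3 p (Finset.ne_of_mem_erase hp)), Finset.sum_const,
      Finset.card_erase_of_mem (Finset.mem_univ _), Finset.card_univ, hcardτ, smul_eq_mul]
  have h6 : ∑ a ∈ Finset.univ.erase (1 : R), ∑ p : zpowers τ,
      Fintype.card (MulAction.fixedBy X ((a, p) : R × zpowers τ)) =
        (Fintype.card R - 1) * orderOf τ := by
    rw [Finset.sum_congr rfl (fun a ha => Finset.sum_congr rfl
      fun p _ => h2 a (Finset.ne_of_mem_erase ha) p), Finset.sum_const, Finset.sum_const,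
      Finset.card_erase_of_mem (Finset.mem_univ _), Finset.card_univ, Finset.card_univ, hcardτ,
      smul_eq_mul, smul_eq_mul, mul_one]
  rw [h5, h6, Fintype.card_prod, hcardτ] at h1
  rw [Nat.card_eq_fintype_card, Nat.card_eq_fintype_card, Nat.card_eq_fintype_card, ← h1]
  ring

end Cfsg.Agent.H555.F3.Count
end

-- part: H555/F3/Orb
section
/-!
# The commutant of a group normalising an extraspecial group
-/

set_option autoImplicit false
set_option linter.unusedSectionVars false

namespace Cfsg.Agent.H555.F3.Orb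

open Module Subgroup Cfsg.Agent.H575 Cfsg.Agent.H575.Dim Cfsg.Agent.H575.ExtraIrr

variable {E : Type*} [Field E] [IsAlgClosed E] {G V : Type*} [Group G] [Finite G]
  [AddCommGroup V] [Module E V] [FiniteDimensional E V]
  {ρ : Representation E G V} {F R : Subgroup G} {r s : ℕ}

/-- the basis of `End V` indexed by `F / Z(F)` -/
noncomputable def bas (h : RD ρ F R r s) : Basis (F ⧸ center F) E (Module.End E V) :=
  Basis.mk h.linearIndependent h.span_eq_top.ge

theorem bas_apply (h : RD ρ F R r s) (x : F ⧸ center F) : bas h x = ρ (sig F x : G) := by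
  rw [bas, Basis.mk_apply]

theorem rho_eq (h : RD ρ F R r s) (f : F) : ∃ c : E, ρ (f : G) = c • bas h (f : F ⧸ center F) := by
  obtain ⟨c, hc⟩ := h.apply_eq f
  exact ⟨c, by rw [bas_apply]; exact hc⟩

/-- conjugation permutes the lines spanned by the basis -/
theorem exists_coeff (h : RD ρ F R r s) (g : G) (k : F ⧸ center F → F ⧸ center F)
    (hk : Function.Injective k)
    (hg : ∀ f : F, ∃ f' : F, (f' : G) = g * f * g⁻¹ ∧
      (f' : F ⧸ center F) = k (f : F ⧸ center F)) :
    ∃ c : F ⧸ center F → E, (∀ x, ρ g * bas h x * ρ g⁻¹ = c x • bas h (k x)) ∧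
      ∀ Y y, (bas h).repr (ρ g * Y * ρ g⁻¹) (k y) = c y * (bas h).repr Y y := by
  classical
  have h1 : ∀ x : F ⧸ center F, ∃ c : E, ρ g * bas h x * ρ g⁻¹ = c • bas h (k x) := by
    intro x
    obtain ⟨f', hf', hx⟩ := hg (sig F x)
    obtain ⟨c, hc⟩ := rho_eq h f'
    refine ⟨c, ?_⟩
    rw [mk_sig] at hx
    rw [bas_apply, ← map_mul, ← map_mul, ← hf', hc, hx]
  choose c hc using h1
  refine ⟨c, hc, ?_⟩
  intro Y y
  let f1 : Module.End E V →ₗ[E] E :=
    (Finsupp.lapply (k y)) ∘ₗ (bas h).repr.toLinearMap ∘ₗ (LinearMap.mulRight E (ρ g⁻¹)) ∘ₗ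
      (LinearMap.mulLeft E (ρ g))
  let f2 : Module.End E V →ₗ[E] E := c y • ((Finsupp.lapply y) ∘ₗ (bas h).repr.toLinearMap)
  have h2 : f1 = f2 := by
    refine (bas h).ext fun x => ?_
    show (bas h).repr (ρ g * bas h x * ρ g⁻¹) (k y) = c y * (bas h).repr (bas h x) y
    rw [hc, map_smul, Basis.repr_self, Basis.repr_self, Finsupp.smul_apply, smul_eq_mul]
    by_cases hxy : x = y
    · rw [hxy, Finsupp.single_eq_same, Finsupp.single_eq_same]
    · rw [Finsupp.single_eq_of_ne' (fun h => hxy (hk h)), Finsupp.single_eq_of_ne' hxy, mul_zero,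
        mul_zero]
  exact LinearMap.congr_fun h2 Y

/-- **Upper bound** for the commutant. -/
theorem finrank_le_orbits (h : RD ρ F R r s) {K : Type*} [Group K] [MulAction K (F ⧸ center F)]
    (C : Submodule E (Module.End E V))
    (hK : ∀ k : K, ∃ g : G, (∀ f : F, ∃ f' : F, (f' : G) = g * f * g⁻¹ ∧
      (f' : F ⧸ center F) = k • (f : F ⧸ center F)) ∧ ∀ Y ∈ C, Y * ρ g = ρ g * Y) :
    finrank E C ≤ Nat.card (MulAction.orbitRel.Quotient K (F ⧸ center F)) := by
  classical
  let Ω := MulAction.orbitRel.Quotient K (F ⧸ center F)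
  have : Fintype Ω := Fintype.ofFinite Ω
  let Ψ : C →ₗ[E] (Ω → E) :=
    { toFun := fun Y o => (bas h).repr (Y : Module.End E V) (Quotient.out o)
      map_add' := by
        intro a b
        funext o
        show (bas h).repr ((a : Module.End E V) + b) _ = _
        rw [map_add]
        rfl
      map_smul' := by
        intro c a
        funext o
        show (bas h).repr (c • (a : Module.End E V)) _ = _
        rw [map_smul]
        rfl }
  have hinj : Function.Injective Ψ := by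
    rw [← LinearMap.ker_eq_bot, LinearMap.ker_eq_bot']
    intro Y hY
    apply Subtype.ext
    apply (bas h).repr.injective
    rw [Submodule.coe_zero, map_zero]
    ext x
    rw [Finsupp.zero_apply]
    have h5 : (Quotient.out (Quotient.mk (MulAction.orbitRel K (F ⧸ center F)) x)) ∈
        MulAction.orbit K x := by
      have h6 := Quotient.mk_out (s := MulAction.orbitRel K (F ⧸ center F)) x
      exact MulAction.orbitRel_apply.mp h6
    obtain ⟨k, hk⟩ := h5
    have hk' : k • x = Quotient.out (Quotient.mk (MulAction.orbitRel K (F ⧸ center F)) x) := hk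
    have hx : x = k⁻¹ • (Quotient.out (Quotient.mk (MulAction.orbitRel K (F ⧸ center F)) x)) := by
      rw [← hk', inv_smul_smul]
    obtain ⟨g, hg, hgC⟩ := hK k⁻¹
    obtain ⟨c, -, hc⟩ := exists_coeff h g (fun y => k⁻¹ • y) (MulAction.injective _) hg
    have h7 := hc Y (Quotient.out (Quotient.mk (MulAction.orbitRel K (F ⧸ center F)) x))
    have h8 : ρ g * (Y : Module.End E V) * ρ g⁻¹ = Y := by
      rw [← hgC Y Y.2, mul_assoc, ← map_mul, mul_inv_cancel, map_one, mul_one]
    have h9 : (bas h).repr (Y : Module.End E V)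
        (Quotient.out (Quotient.mk (MulAction.orbitRel K (F ⧸ center F)) x)) = 0 :=
      congrFun hY (Quotient.mk (MulAction.orbitRel K (F ⧸ center F)) x)
    rw [h8, h9, mul_zero, ← hx] at h7
    exact h7
  have h1 := LinearMap.finrank_le_finrank_of_injective hinj
  rwa [Module.finrank_fintype_fun_eq_card, ← Nat.card_eq_fintype_card] at h1

theorem conj_rep (hRF : R ≤ normalizer (F : Set G)) (a : R) (f : F) :
    letI := actQ hRF
    ∃ f' : F, (f' : G) = a * f * (a : G)⁻¹ ∧
      (f' : F ⧸ center F) = a • (f : F ⧸ center F) :=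
  ⟨alpha hRF a f, rfl, rfl⟩

theorem smul_one' (hRF : R ≤ normalizer (F : Set G)) (a : R) :
    letI := actQ hRF
    a • (1 : F ⧸ center F) = 1 := by
  let _ := actQ hRF
  exact map_one (QuotientGroup.map (center F) (center F) (alpha hRF a).toMonoidHom
    (fun _ hz => map_mem_center (alpha hRF a) hz))

theorem eq_one_of_smul (h : RD ρ F R r s) {a : R} (ha : a ≠ 1) {x : F ⧸ center F}
    (hx : letI := actQ h.hRF; a • x = x) : x = 1 := by
  induction x using QuotientGroup.induction_on with | H f => ?_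
  have h3 : ((alpha h.hRF a f : F) : F ⧸ center F) = f := hx
  have h4 : f⁻¹ * alpha h.hRF a f ∈ center F := QuotientGroup.eq.mp h3.symm
  exact (QuotientGroup.eq_one_iff _).mpr (h.mem_center_of_fixed ha h4)

/-- **Lower bound** for the commutant of `R`. -/
theorem orbits_le_finrank (h : RD ρ F R r s) (C : Submodule E (Module.End E V))
    (hC : ∀ S, (∀ a ∈ R, S * ρ a = ρ a * S) → S ∈ C) :
    letI := actQ h.hRF
    Nat.card (MulAction.orbitRel.Quotient R (F ⧸ center F)) ≤ finrank E C := by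
  classical
  let act := actQ h.hRF
  have : Fintype R := Fintype.ofFinite R
  let Ω := MulAction.orbitRel.Quotient R (F ⧸ center F)
  have : Fintype Ω := Fintype.ofFinite Ω
  have hmem : ∀ Y : Module.End E V, avg ρ R Y ∈ C := by
    intro Y
    apply hC
    intro a ha
    rw [avg_apply, Finset.sum_mul, Finset.mul_sum]
    refine Fintype.sum_equiv (Equiv.mulLeft (⟨a, ha⟩ : R)⁻¹) _ _ fun b => ?_
    show ρ (b : G) * Y * ρ (b : G)⁻¹ * ρ a =
      ρ a * (ρ (((⟨a, ha⟩ : R)⁻¹ * b : R) : G) * Y * ρ (((⟨a, ha⟩ : R)⁻¹ * b : R) : G)⁻¹)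
    have h1 : (((⟨a, ha⟩ : R)⁻¹ * b : R) : G) = a⁻¹ * b := rfl
    rw [h1, mul_inv_rev, inv_inv, ← mul_assoc, ← mul_assoc, ← map_mul, mul_inv_cancel_left,
      map_mul ρ ((b : G)⁻¹) a, ← mul_assoc]
  -- coordinates of the averages
  have hcoeff : ∀ a : R, ∃ c : F ⧸ center F → E,
      (∀ x, ρ (a : G) * bas h x * ρ (a : G)⁻¹ = c x • bas h (a • x)) := by
    intro a
    obtain ⟨c, hc, -⟩ := exists_coeff h (a : G) (fun x => a • x) (MulAction.injective _)
      (conj_rep h.hRF a)
    exact ⟨c, hc⟩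
  choose c hc using hcoeff
  have hrepr : ∀ x y, (bas h).repr (avg ρ R (bas h x)) y =
      ∑ a : R, c a x * (if a • x = y then 1 else 0) := by
    intro x y
    rw [avg_apply, map_sum, Finset.sum_apply']
    refine Finset.sum_congr rfl fun a _ => ?_
    rw [hc, map_smul, Basis.repr_self, Finsupp.smul_apply, smul_eq_mul, Finsupp.single_apply]
  have hne : ∀ x, (bas h).repr (avg ρ R (bas h x)) x ≠ 0 := by
    intro x
    by_cases hx : x = 1
    · subst hx
      have h1 : ∀ a : R, ρ (a : G) * bas h 1 * ρ (a : G)⁻¹ = bas h 1 := by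
        intro a
        have h2 : sig F (1 : F ⧸ center F) ∈ center F :=
          (QuotientGroup.eq_one_iff _).mp (mk_sig (1 : F ⧸ center F))
        have h3 := congrArg Subtype.val (h.alpha_center a h2)
        rw [alpha_coe] at h3
        rw [bas_apply, ← map_mul, ← map_mul, h3]
      rw [avg_apply, Finset.sum_congr rfl fun a _ => h1 a, Finset.sum_const, Finset.card_univ,
        ← Nat.card_eq_fintype_card, h.hR, ← Nat.cast_smul_eq_nsmul E, map_smul, Basis.repr_self,
        Finsupp.smul_apply, Finsupp.single_eq_same, smul_eq_mul, mul_one]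
      exact h.hrE
    · rw [hrepr, Finset.sum_eq_single (1 : R)]
      · rw [one_smul, if_pos rfl, mul_one]
        intro h0
        have h1 := hc 1 x
        rw [h0, zero_smul, Subgroup.coe_one, inv_one, map_one, one_mul, mul_one] at h1
        exact (bas h).ne_zero x h1
      · intro a _ ha
        rw [if_neg, mul_zero]
        intro hax
        exact hx (eq_one_of_smul h ha hax)
      · intro h1
        exact absurd (Finset.mem_univ _) h1
  let v : Ω → C := fun o => ⟨avg ρ R (bas h (Quotient.out o)), hmem _⟩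
  have hind : LinearIndependent E v := by
    rw [Fintype.linearIndependent_iff]
    intro g hg o'
    have h1 : ∑ o, g o • avg ρ R (bas h (Quotient.out o)) = 0 := by
      have h2 := congrArg Subtype.val hg
      rw [Submodule.coe_sum] at h2
      exact h2
    have h2 : (bas h).repr (∑ o, g o • avg ρ R (bas h (Quotient.out o))) (Quotient.out o') = 0 := by
      rw [h1, map_zero, Finsupp.zero_apply]
    rw [map_sum, Finset.sum_apply', Finset.sum_eq_single o'] at h2
    · rw [map_smul, Finsupp.smul_apply, smul_eq_mul] at h2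
      exact (mul_eq_zero.mp h2).resolve_right (hne _)
    · intro o _ ho
      rw [map_smul, Finsupp.smul_apply, smul_eq_mul, hrepr, Finset.sum_eq_zero, mul_zero]
      intro a _
      rw [if_neg, mul_zero]
      intro hax
      apply ho
      have h3 : (Quotient.mk (MulAction.orbitRel R (F ⧸ center F)) (Quotient.out o')) =
          Quotient.mk (MulAction.orbitRel R (F ⧸ center F)) (Quotient.out o) := by
        apply Quotient.sound
        exact MulAction.orbitRel_apply.mpr ⟨a, hax⟩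
      rw [Quotient.out_eq, Quotient.out_eq] at h3
      exact h3.symm
    · intro h3
      exact absurd (Finset.mem_univ _) h3
  have h1 := hind.fintype_card_le_finrank
  rwa [← Nat.card_eq_fintype_card] at h1

end Cfsg.Agent.H555.F3.Orb
end

-- part: H555/F3/Arith
section
/-!
# Arithmetic
-/

set_option autoImplicit false
set_option linter.unusedSectionVars false

namespace Cfsg.Agent.H555.F3.Arith

theorem arith_one {r n a c o D oR m d : ℕ} (hr : 2 ≤ r) (hn : 2 ≤ n)
    (h1 : o * (r * n) = d ^ 2 + (n - 1) * m ^ 2 + n * (r - 1))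
    (h2 : oR * r = d ^ 2 + (r - 1)) (h4 : c ≤ o) (h5 : D + (n - 1) * a ^ 2 ≤ n * c)
    (h6 : oR ≤ D) : r * a ^ 2 ≤ m ^ 2 + (r - 1) := by
  obtain ⟨k, rfl⟩ : ∃ k, n = k + 1 := ⟨n - 1, by omega⟩
  obtain ⟨t, rfl⟩ : ∃ t, r = t + 1 := ⟨r - 1, by omega⟩
  simp only [Nat.add_sub_cancel] at h1 h2 h5 ⊢
  have h7 : oR + k * a ^ 2 ≤ (k + 1) * o := by
    calc oR + k * a ^ 2 ≤ D + k * a ^ 2 := Nat.add_le_add_right h6 _
      _ ≤ (k + 1) * c := h5
      _ ≤ (k + 1) * o := Nat.mul_le_mul_left _ h4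
  have h8 : (oR + k * a ^ 2) * (t + 1) ≤ ((k + 1) * o) * (t + 1) := Nat.mul_le_mul_right _ h7
  have h9 : ((k + 1) * o) * (t + 1) = d ^ 2 + k * m ^ 2 + (k + 1) * t := by
    rw [← h1]
    ring
  rw [h9, add_mul, h2] at h8
  have h10 : k * ((t + 1) * a ^ 2) ≤ k * (m ^ 2 + t) := by
    nlinarith
  exact Nat.le_of_mul_le_mul_left h10 (by omega)

theorem dvd_sq_sub {r m : ℕ} (hr : r.Prime) (hm : 2 ≤ m) (h : r ∣ m ^ 2 - 1) : r ≤ m + 1 := by
  have h1 : m ^ 2 - 1 = (m - 1) * (m + 1) := by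
    obtain ⟨k, rfl⟩ : ∃ k, m = k + 1 := ⟨m - 1, by omega⟩
    rw [Nat.add_sub_cancel]
    have : (k + 1) ^ 2 = k * (k + 1 + 1) + 1 := by ring
    rw [this, Nat.add_sub_cancel]
  rw [h1] at h
  rcases (Nat.Prime.dvd_mul hr).mp h with h | h
  · have := Nat.le_of_dvd (by omega) h
    omega
  · exact Nat.le_of_dvd (by omega) h

theorem arith_core {r n a c o oR m e : ℕ} (hr : r.Prime) (hn : n.Prime) (hrn : r ≠ n)
    (hm : 1 ≤ m) (he : 2 ≤ e) (hrm : r ∣ m ^ 2 - 1) (hcop : n.Coprime m)
    (h1 : o * (r * n) = (m * e) ^ 2 + (n - 1) * m ^ 2 + n * (r - 1))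
    (h2 : oR * r = (m * e) ^ 2 + (r - 1)) (h3 : m * e ≤ c) (h4 : c ≤ o)
    (h5 : r * a ^ 2 ≤ m ^ 2 + (r - 1))
    (h7 : m * e ≤ r * a + (r - 1)) : n = 2 ∧ m = 1 ∧ m * e = 2 * r - 1 := by
  have hr2 := hr.two_le
  have hn2 := hn.two_le
  rcases Nat.eq_or_lt_of_le hm with hm1 | hm2
  · subst hm1
    have ha : a ≤ 1 := by
      by_contra hcon
      push Not at hcon
      have : r * 4 ≤ r * a ^ 2 := Nat.mul_le_mul_left r (by nlinarith)
      omega
    rw [one_mul] at *
    have he2 : e ≤ 2 * r - 1 := by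
      have : r * a ≤ r * 1 := Nat.mul_le_mul_left r ha
      omega
    have h8 : r * n ≤ e + 1 := by
      have h9 : e * (r * n) ≤ o * (r * n) := Nat.mul_le_mul_right _ (h3.trans h4)
      rw [h1, one_pow, mul_one] at h9
      obtain ⟨k, rfl⟩ : ∃ k, e = k + 1 := ⟨e - 1, by omega⟩
      have h10 : (n - 1) + n * (r - 1) + 1 = r * n := by
        obtain ⟨u, rfl⟩ : ∃ u, n = u + 1 := ⟨n - 1, by omega⟩
        obtain ⟨t, rfl⟩ : ∃ t, r = t + 1 := ⟨r - 1, by omega⟩
        rw [Nat.add_sub_cancel, Nat.add_sub_cancel]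
        ring
      have h11 : (k + 1) * (r * n) + 1 ≤ (k + 1) ^ 2 + r * n := by omega
      have h12 : k * (r * n) ≤ k * (k + 1 + 1) := by nlinarith
      exact Nat.le_of_mul_le_mul_left h12 (by omega)
    have h9 : r * n ≤ r * 2 := by omega
    have h10 : n ≤ 2 := Nat.le_of_mul_le_mul_left h9 (by omega)
    have h11 : n = 2 := le_antisymm h10 hn2
    subst h11
    exact ⟨rfl, rfl, by omega⟩
  · exfalso
    have hrm' := dvd_sq_sub hr hm2 hrm
    have hme : r ∣ (m * e) ^ 2 - 1 := by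
      have h8 : r ∣ (m * e) ^ 2 - 1 + r := by
        have h9 : (m * e) ^ 2 - 1 + r = oR * r := by
          rw [h2]
          have : 1 ≤ (m * e) ^ 2 := Nat.one_le_pow _ _ (by positivity)
          omega
        rw [h9]
        exact dvd_mul_left _ _
      exact (Nat.dvd_add_left (dvd_refl r)).mp h8
    have hre : r ∣ e ^ 2 - 1 := by
      have h8 : (m * e) ^ 2 - 1 = (m ^ 2 - 1) * e ^ 2 + (e ^ 2 - 1) := by
        have h9 : 1 ≤ m ^ 2 := Nat.one_le_pow _ _ (by omega)
        have h10 : 1 ≤ e ^ 2 := Nat.one_le_pow _ _ (by omega)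
        obtain ⟨u, hu⟩ : ∃ u, m ^ 2 = u + 1 := ⟨m ^ 2 - 1, by omega⟩
        rw [mul_pow, hu, Nat.add_sub_cancel, add_mul, one_mul]
        omega
      rw [h8] at hme
      exact (Nat.dvd_add_right (hrm.mul_right _)).mp hme
    have hre' := dvd_sq_sub hr he hre
    -- size
    have h8 : (m * (e - 1)) ^ 2 ≤ r * (m ^ 2 + (r - 1)) := by
      have h9 : m * (e - 1) ≤ r * a := by
        obtain ⟨f, rfl⟩ : ∃ f, e = f + 1 := ⟨e - 1, by omega⟩
        rw [Nat.add_sub_cancel]
        rw [mul_add, mul_one] at h7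
        omega
      calc (m * (e - 1)) ^ 2 ≤ (r * a) ^ 2 := Nat.pow_le_pow_left h9 2
        _ = r * (r * a ^ 2) := by ring
        _ ≤ _ := Nat.mul_le_mul_left r h5
    have h9 : (e - 1) ^ 2 ≤ r + 1 := by
      by_contra hcon
      push Not at hcon
      have h10 : m ^ 2 * (r + 2) ≤ (m * (e - 1)) ^ 2 := by
        rw [mul_pow]
        exact Nat.mul_le_mul_left _ hcon
      have h11 : r * (r - 1) ≤ m * (m + 1) := by
        calc r * (r - 1) ≤ (m + 1) * (r - 1) := Nat.mul_le_mul_right _ hrm'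
          _ ≤ (m + 1) * m := Nat.mul_le_mul_left _ (by omega)
          _ = m * (m + 1) := mul_comm _ _
      have h12 : r * (m ^ 2 + (r - 1)) = r * m ^ 2 + r * (r - 1) := mul_add _ _ _
      nlinarith
    have h10 : r ≤ 4 := by
      by_contra hcon
      push Not at hcon
      obtain ⟨t, rfl⟩ : ∃ t, r = t + 5 := ⟨r - 5, by omega⟩
      have : t + 3 ≤ e - 1 := by omega
      nlinarith [Nat.pow_le_pow_left this 2]
    have h11 : r = 2 ∨ r = 3 := by
      interval_cases r
      · exact Or.inl rfl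
      · exact Or.inr rfl
      · exact absurd hr (by norm_num)
    rcases h11 with rfl | rfl
    · have : e ≤ 2 := by
        by_contra hcon
        push Not at hcon
        have : 2 ≤ e - 1 := by omega
        nlinarith [Nat.pow_le_pow_left this 2]
      have he2 : e = 2 := by omega
      subst he2
      norm_num at hre
    · have : e ≤ 3 := by
        by_contra hcon
        push Not at hcon
        have : 3 ≤ e - 1 := by omega
        nlinarith [Nat.pow_le_pow_left this 2]
      have he2 : e = 2 := by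
        interval_cases e
        · rfl
        · norm_num at hre
      subst he2
      -- n ∣ m ^ 2 * 3
      have h12 : n ∣ m ^ 2 * 3 := by
        have h13 : m ^ 2 * 3 + n * (m ^ 2 + 2) = o * (3 * n) := by
          rw [h1]
          obtain ⟨u, rfl⟩ : ∃ u, n = u + 1 := ⟨n - 1, by omega⟩
          rw [Nat.add_sub_cancel]
          ring
        have h14 : n ∣ m ^ 2 * 3 + n * (m ^ 2 + 2) := by
          rw [h13]
          exact ⟨o * 3, by ring⟩
        exact (Nat.dvd_add_left (dvd_mul_right _ _)).mp h14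
      have h13 : n ∣ 3 := (Nat.Coprime.pow_right 2 hcop).dvd_of_dvd_mul_left h12
      exact hrn ((Nat.prime_dvd_prime_iff_eq hn (by norm_num)).mp h13).symm

end Cfsg.Agent.H555.F3.Arith
end

-- part: H555/F3/Core
section
/-!
# A group centralising `R` and trivial on the fixed points of `R`
-/

set_option autoImplicit false
set_option linter.unusedSectionVars false

namespace Cfsg.Agent.H555.F3.Core

open Module Subgroup Cfsg.Agent.H575 Cfsg.Agent.H575.Dim Cfsg.Agent.H575.ExtraIrr
  Cfsg.Agent.H575.Fix Cfsg.Agent.H555.F3.Orb Cfsg.Agent.H555.F3.Lin Cfsg.Agent.H555.F3.Arith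
open scoped commutatorElement

section Tau

variable {G : Type*} [Group G] [Finite G] {F T : Subgroup G}

/-- the permutation of `F / Z(F)` induced by an element -/
def tau (hTF : T ≤ normalizer (F : Set G)) : T →* Equiv.Perm (F ⧸ center F) :=
  @MulAction.toPermHom T (F ⧸ center F) _ (actQ hTF)

theorem tau_mk (hTF : T ≤ normalizer (F : Set G)) (t : T) (f : F) :
    tau hTF t (f : F ⧸ center F) = (alpha hTF t f : F) := rfl

theorem tau_one (hTF : T ≤ normalizer (F : Set G)) (t : T) :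
    tau hTF t (1 : F ⧸ center F) = 1 := smul_one' hTF t

theorem tau_mul (hTF : T ≤ normalizer (F : Set G)) (t : T) (x y : F ⧸ center F) :
    tau hTF t (x * y) = tau hTF t x * tau hTF t y := by
  induction x using QuotientGroup.induction_on with | H f => ?_
  induction y using QuotientGroup.induction_on with | H g => ?_
  rw [← QuotientGroup.mk_mul, tau_mk, tau_mk, tau_mk, map_mul, QuotientGroup.mk_mul]

theorem tau_comm {R : Subgroup G} (hTF : T ≤ normalizer (F : Set G))
    (hRF : R ≤ normalizer (F : Set G)) (hTR : ∀ t ∈ T, ∀ a ∈ R, t * a = a * t) (t : T) (a : R)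
    (x : F ⧸ center F) :
    letI := actQ hRF
    tau hTF t (a • x) = a • tau hTF t x := by
  let _ := actQ hRF
  induction x using QuotientGroup.induction_on with | H f => ?_
  show (((alpha hTF t (alpha hRF a f) : F)) : F ⧸ center F) = (alpha hRF a (alpha hTF t f) : F)
  congr 1
  apply Subtype.ext
  rw [alpha_coe, alpha_coe, alpha_coe, alpha_coe]
  have h1 : (t : G) * a = a * t := hTR t t.2 a a.2
  have h2 : (a : G)⁻¹ * (t : G)⁻¹ = (t : G)⁻¹ * (a : G)⁻¹ := by
    rw [← mul_inv_rev, ← mul_inv_rev, h1]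
  calc (t : G) * (a * f * (a : G)⁻¹) * (t : G)⁻¹ = (t * a) * f * ((a : G)⁻¹ * (t : G)⁻¹) := by group
    _ = (a * t) * f * ((t : G)⁻¹ * (a : G)⁻¹) := by rw [h1, h2]
    _ = _ := by group

/-- an element acting trivially on `F / Z(F)` and on `Z(F)` of coprime order is trivial on `F` -/
theorem alpha_eq_of_tau {s : ℕ} (hs : s.Prime) (hZ : Nat.card (center F) = s)
    (hTF : T ≤ normalizer (F : Set G)) (hTs : ¬ s ∣ Nat.card T)
    (hTZ : ∀ t ∈ T, ∀ z ∈ (center F).map F.subtype, t * z = z * t) {t : T}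
    (ht : tau hTF t = 1) (f : F) : alpha hTF t f = f := by
  have hz : f⁻¹ * alpha hTF t f ∈ center F := by
    have h1 : ((alpha hTF t f : F) : F ⧸ center F) = f := by
      rw [← tau_mk, ht]
      rfl
    exact QuotientGroup.eq.mp h1.symm
  set z := f⁻¹ * alpha hTF t f with hzdef
  have h1 : alpha hTF t f = f * z := by rw [hzdef]; group
  have h2 : alpha hTF t z = z := by
    apply Subtype.ext
    rw [alpha_coe, hTZ t t.2 (z : G) ⟨z, hz, rfl⟩, mul_inv_cancel_right]
  have h3 : ∀ n : ℕ, alpha hTF (t ^ n) f = f * z ^ n := by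
    intro n
    induction n with
    | zero => rw [pow_zero, map_one, pow_zero, mul_one]; rfl
    | succ n ih =>
      rw [pow_succ', map_mul, MulAut.mul_apply, ih, map_mul, h1, map_pow, h2, pow_succ',
        mul_assoc]
  have h4 := h3 (Nat.card T)
  have h5 : t ^ Nat.card T = 1 := pow_card_eq_one'
  rw [h5, map_one, MulAut.one_apply] at h4
  have h6 : z ^ Nat.card T = 1 := by
    have h7 : f * 1 = f * z ^ Nat.card T := by rw [mul_one]; exact h4
    exact (mul_left_cancel h7).symm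
  have h7 : z ^ s = 1 := by
    have h8 : (⟨z, hz⟩ : center F) ^ Nat.card (center F) = 1 := pow_card_eq_one'
    rw [hZ] at h8
    exact congrArg Subtype.val h8
  have h8 : orderOf z ∣ 1 := by
    rw [← ((Nat.Prime.coprime_iff_not_dvd hs).mpr hTs)]
    exact Nat.dvd_gcd (orderOf_dvd_of_pow_eq_one h7) (orderOf_dvd_of_pow_eq_one h6)
  have h9 : z = 1 := orderOf_eq_one_iff.mp (Nat.dvd_one.mp h8)
  rw [h1, h9, mul_one]

/-- the fixed points of an element of `F / Z(F)` as a subgroup of `F` -/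
def fixF (hTF : T ≤ normalizer (F : Set G)) (t : T) : Subgroup F where
  carrier := {f | tau hTF t (f : F ⧸ center F) = f}
  mul_mem' := by
    intro a b ha hb
    show tau hTF t ((a * b : F) : F ⧸ center F) = (a * b : F)
    rw [QuotientGroup.mk_mul, tau_mul, ha, hb]
  one_mem' := tau_one hTF t
  inv_mem' := by
    intro a ha
    show tau hTF t ((a⁻¹ : F) : F ⧸ center F) = (a⁻¹ : F)
    have h1 : tau hTF t ((a⁻¹ : F) : F ⧸ center F) * tau hTF t (a : F ⧸ center F) = 1 := by
      rw [← tau_mul, ← QuotientGroup.mk_mul, inv_mul_cancel]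
      exact tau_one hTF t
    rw [show tau hTF t (a : F ⧸ center F) = a from ha] at h1
    rw [QuotientGroup.mk_inv]
    exact eq_inv_of_mul_eq_one_left h1

theorem mem_fixF (hTF : T ≤ normalizer (F : Set G)) (t : T) (f : F) :
    f ∈ fixF hTF t ↔ tau hTF t (f : F ⧸ center F) = f := Iff.rfl

theorem center_le_fixF (hTF : T ≤ normalizer (F : Set G)) (t : T) : center F ≤ fixF hTF t := by
  intro z hz
  rw [mem_fixF]
  have h1 : (z : F ⧸ center F) = 1 := (QuotientGroup.eq_one_iff z).mpr hz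
  rw [h1]
  exact tau_one hTF t

/-- the number of fixed points is a square -/
theorem exists_sq_fix {s : ℕ} (hs : s.Prime) (hZ : Nat.card (center F) = s)
    (hab : ∀ x y : F, x * y * x⁻¹ * y⁻¹ ∈ center F)
    (hTF : T ≤ normalizer (F : Set G)) (hTs : ¬ s ∣ Nat.card T)
    (hTZ : ∀ t ∈ T, ∀ z ∈ (center F).map F.subtype, t * z = z * t) (t : T) :
    ∃ m, Nat.card {x : F ⧸ center F // tau hTF t x = x} = m ^ 2 := by
  set F0 := fixF hTF t with hF0
  -- the centre of `F0`
  have hcen : center F0 = (center F).subgroupOf F0 := by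
    apply le_antisymm
    · rintro ⟨f, hf⟩ hfc
      rw [Subgroup.mem_subgroupOf, Subgroup.mem_center_iff]
      rw [Subgroup.mem_center_iff] at hfc
      intro g
      -- `c g' = [f, g']`
      let c : F → F := fun g' => f * g' * f⁻¹ * g'⁻¹
      have hcm : ∀ u v, c (u * v) = c u * c v := fun u v => Sq.comm_mul_right hab f u v
      have hc0 : ∀ u ∈ F0, c u = 1 := by
        intro u hu
        have h1 := congrArg Subtype.val (hfc ⟨u, hu⟩)
        have h2 : u * f = f * u := h1
        show f * u * f⁻¹ * u⁻¹ = 1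
        rw [← h2]
        group
      have hct : ∀ u, c (alpha hTF t u) = c u := by
        intro u
        have h1 : alpha hTF t (c u) = c u := by
          apply Subtype.ext
          rw [alpha_coe, hTZ t t.2 (c u : G) ⟨c u, hab f u, rfl⟩, mul_inv_cancel_right]
        have h2 : f⁻¹ * alpha hTF t f ∈ center F := by
          have h3 : ((alpha hTF t f : F) : F ⧸ center F) = f := (mem_fixF hTF t f).mp hf
          exact QuotientGroup.eq.mp h3.symm
        have h3 : alpha hTF t f = f * (f⁻¹ * alpha hTF t f) := by group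
        rw [← h1]
        show f * alpha hTF t u * f⁻¹ * (alpha hTF t u)⁻¹ = alpha hTF t (f * u * f⁻¹ * u⁻¹)
        rw [map_mul, map_mul, map_mul, map_inv, map_inv, h3, Sq.comm_mul_left hab,
          show (f⁻¹ * alpha hTF t f) * alpha hTF t u * (f⁻¹ * alpha hTF t f)⁻¹ *
            (alpha hTF t u)⁻¹ = 1 by
              rw [← Subgroup.mem_center_iff.mp h2 (alpha hTF t u)]
              group, mul_one]
      have hctn : ∀ (k : ℕ) u, c (alpha hTF (t ^ k) u) = c u := by
        intro k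
        induction k with
        | zero => intro u; rw [pow_zero, map_one]; rfl
        | succ k ih => intro u; rw [pow_succ', map_mul, MulAut.mul_apply, hct, ih]
      -- the norm of `g`
      let P : ℕ → F := fun k => Nat.rec 1 (fun j p => p * alpha hTF (t ^ j) g) k
      have hP0 : P 0 = 1 := rfl
      have hPs : ∀ k, P (k + 1) = P k * alpha hTF (t ^ k) g := fun k => rfl
      have hcP : ∀ k, c (P k) = c g ^ k := by
        intro k
        induction k with
        | zero =>
          rw [hP0, pow_zero]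
          show f * 1 * f⁻¹ * 1⁻¹ = 1
          group
        | succ k ih => rw [hPs, hcm, ih, hctn, pow_succ]
      have hcommX : ∀ x y : F ⧸ center F, x * y = y * x := by
        intro x y
        induction x using QuotientGroup.induction_on with | H a => ?_
        induction y using QuotientGroup.induction_on with | H b => ?_
        rw [← QuotientGroup.mk_mul, ← QuotientGroup.mk_mul, QuotientGroup.eq]
        have h1 : (a * b)⁻¹ * (b * a) = b⁻¹ * a⁻¹ * b⁻¹⁻¹ * a⁻¹⁻¹ := by group
        rw [h1]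
        exact hab b⁻¹ a⁻¹
      have hτP : ∀ k, tau hTF t (QuotientGroup.mk (P k)) * (QuotientGroup.mk g) =
          (QuotientGroup.mk (P k) : F ⧸ center F) *
            (QuotientGroup.mk (alpha hTF (t ^ k) g) : F ⧸ center F) := by
        intro k
        induction k with
        | zero =>
          rw [hP0, pow_zero, map_one, QuotientGroup.mk_one, tau_one, MulAut.one_apply]
        | succ k ih =>
          have h1 : tau hTF t ((alpha hTF (t ^ k) g : F) : F ⧸ center F) =
              (alpha hTF (t ^ (k + 1)) g : F) := by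
            rw [tau_mk, pow_succ', map_mul, MulAut.mul_apply]
          rw [hPs, QuotientGroup.mk_mul, tau_mul, h1, mul_assoc,
            hcommX _ (g : F ⧸ center F), ← mul_assoc, ih]
      have hPmem : P (Nat.card T) ∈ F0 := by
        rw [hF0, mem_fixF]
        have h1 := hτP (Nat.card T)
        have h2 : t ^ Nat.card T = 1 := pow_card_eq_one'
        rw [h2, map_one, MulAut.one_apply] at h1
        exact mul_right_cancel h1
      have h1 : c g ^ Nat.card T = 1 := by rw [← hcP, hc0 _ hPmem]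
      have h2 : c g ^ s = 1 := by
        have h8 : (⟨c g, hab f g⟩ : center F) ^ Nat.card (center F) = 1 := pow_card_eq_one'
        rw [hZ] at h8
        exact congrArg Subtype.val h8
      have h3 : orderOf (c g) ∣ 1 := by
        rw [← ((Nat.Prime.coprime_iff_not_dvd hs).mpr hTs)]
        exact Nat.dvd_gcd (orderOf_dvd_of_pow_eq_one h2) (orderOf_dvd_of_pow_eq_one h1)
      have h4 : f * g * f⁻¹ * g⁻¹ = 1 := orderOf_eq_one_iff.mp (Nat.dvd_one.mp h3)
      rw [mul_inv_eq_one, mul_inv_eq_iff_eq_mul] at h4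
      exact h4.symm
    · rintro ⟨f, hf⟩ hfc
      rw [Subgroup.mem_center_iff]
      rw [Subgroup.mem_subgroupOf, Subgroup.mem_center_iff] at hfc
      rintro ⟨g, hg⟩
      exact Subtype.ext (hfc g)
  have hZ0 : Nat.card (center F0) = s := by
    rw [hcen, Nat.card_congr (Subgroup.subgroupOfEquivOfLe (center_le_fixF hTF t)).toEquiv, hZ]
  have hab0 : ∀ x y : F0, x * y * x⁻¹ * y⁻¹ ∈ center F0 := by
    intro x y
    rw [hcen, Subgroup.mem_subgroupOf]
    exact hab x y
  obtain ⟨m, hm⟩ := Sq.exists_sq hs hZ0 hab0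
  refine ⟨m, ?_⟩
  rw [← hm]
  -- the quotient
  let π : F0 →* (F ⧸ center F) := (QuotientGroup.mk' (center F)).comp F0.subtype
  have hker : π.ker = center F0 := by
    rw [hcen]
    ext x
    rw [MonoidHom.mem_ker, Subgroup.mem_subgroupOf]
    exact QuotientGroup.eq_one_iff (x : F)
  have hrange : ∀ x, x ∈ π.range ↔ tau hTF t x = x := by
    intro x
    constructor
    · rintro ⟨f, rfl⟩
      exact f.2
    · intro hx
      induction x using QuotientGroup.induction_on with | H f => ?_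
      exact ⟨⟨f, hx⟩, rfl⟩
  rw [← hker]
  refine Nat.card_congr ?_
  exact (Equiv.subtypeEquivRight fun x => (hrange x).symm).trans
    (QuotientGroup.quotientKerEquivRange π).symm.toEquiv

end Tau

end Cfsg.Agent.H555.F3.Core
end

-- part: H555/F3/Main
section
/-!
# A group centralising `R` and trivial on the fixed points of `R`: the theorem
-/

set_option autoImplicit false
set_option linter.unusedSectionVars false

namespace Cfsg.Agent.H555.F3.Main

open Module Subgroup Cfsg.Agent.H575 Cfsg.Agent.H575.Dim Cfsg.Agent.H575.ExtraIrr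
  Cfsg.Agent.H575.Fix Cfsg.Agent.H555.F3.Orb Cfsg.Agent.H555.F3.Lin Cfsg.Agent.H555.F3.Arith
  Cfsg.Agent.H555.F3.Core
open scoped commutatorElement

section

variable {E : Type*} [Field E] {V : Type*} [AddCommGroup V] [Module E V]

/-- the common commutant of two operators -/
def Cm (A B : Module.End E V) : Submodule E (Module.End E V) where
  carrier := {S | S * A = A * S ∧ S * B = B * S}
  add_mem' := by
    rintro a b ⟨h1, h2⟩ ⟨h3, h4⟩
    exact ⟨by rw [add_mul, mul_add, h1, h3], by rw [add_mul, mul_add, h2, h4]⟩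
  zero_mem' := ⟨by rw [zero_mul, mul_zero], by rw [zero_mul, mul_zero]⟩
  smul_mem' := by
    rintro c a ⟨h1, h2⟩
    exact ⟨by rw [smul_mul_assoc, mul_smul_comm, h1], by rw [smul_mul_assoc, mul_smul_comm, h2]⟩

theorem mem_Cm {A B S : Module.End E V} : S ∈ Cm A B ↔ S * A = A * S ∧ S * B = B * S := Iff.rfl

end

variable {E : Type*} [Field E] [IsAlgClosed E] {G V : Type*} [Group G] [Finite G]
  [AddCommGroup V] [Module E V] [FiniteDimensional E V]
  {ρ : Representation E G V} {F R : Subgroup G} {r s : ℕ}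

theorem exists_gen (h : RD ρ F R r s) : ∃ a0 : R, ∀ a : R, ∃ n : ℕ, a0 ^ n = a := by
  have hp : Fact (Nat.card R).Prime := ⟨h.hR ▸ h.hr⟩
  have hnt : Nontrivial R := Finite.one_lt_card_iff_nontrivial.mp (hp.out.one_lt)
  obtain ⟨a0, ha0⟩ := exists_ne (1 : R)
  refine ⟨a0, fun a => ?_⟩
  have h8 : a ∈ Subgroup.zpowers a0 := mem_zpowers_of_prime_card rfl ha0
  rw [← mem_powers_iff_mem_zpowers] at h8
  exact h8

theorem rho_one (h : RD ρ F R r s) {T : Subgroup G} (hTF : T ≤ normalizer (F : Set G))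
    (hTs : ¬ s ∣ Nat.card T)
    (hTZ : ∀ t ∈ T, ∀ z ∈ (center F).map F.subtype, t * z = z * t)
    (hfix : fix ρ R ≠ ⊥) (hT : ∀ t ∈ T, ∀ v ∈ fix ρ R, ρ t v = v) {t : T}
    (ht : tau hTF t = 1) : ρ (t : G) = 1 := by
  have h1 : ∀ f : F, (t : G) * f = f * t := by
    intro f
    have h2 := congrArg Subtype.val (alpha_eq_of_tau h.hs h.hZ hTF hTs hTZ ht f)
    rw [alpha_coe] at h2
    exact mul_inv_eq_iff_eq_mul.mp h2
  obtain ⟨c, hc⟩ := h.hirr.scalar (ρ (t : G)) fun f v => by
    show ρ (t : G) (ρ (f : G) v) = ρ (f : G) (ρ (t : G) v)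
    rw [← mul_apply', ← mul_apply', h1]
  obtain ⟨v, hv, hv0⟩ := Submodule.exists_mem_ne_zero_of_ne_bot hfix
  have h2 := hT t t.2 v hv
  rw [hc] at h2
  have h3 : (c - 1) • v = 0 := by rw [sub_smul, one_smul, h2, sub_self]
  have h4 : c = 1 := sub_eq_zero.mp ((smul_eq_zero.mp h3).resolve_right hv0)
  apply LinearMap.ext
  intro v
  rw [hc, h4, one_smul, Module.End.one_apply]

/-- `r` is prime to the order of the permutation -/
theorem coprime_orderOf (hr : r.Prime) {T : Subgroup G}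
    (hTF : T ≤ normalizer (F : Set G)) (hTr : ¬ r ∣ Nat.card T) (t : T) :
    r.Coprime (orderOf (tau hTF t)) := by
  rw [Nat.Prime.coprime_iff_not_dvd hr]
  intro hdvd
  apply hTr
  exact hdvd.trans ((orderOf_map_dvd (tau hTF) t).trans (orderOf_dvd_natCard t))

theorem count (h : RD ρ F R r s) {T : Subgroup G} (hTF : T ≤ normalizer (F : Set G))
    (hTR : ∀ t ∈ T, ∀ a ∈ R, t * a = a * t)
    (hTr : ¬ r ∣ Nat.card T) (hTs : ¬ s ∣ Nat.card T)
    (hTZ : ∀ t ∈ T, ∀ z ∈ (center F).map F.subtype, t * z = z * t)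
    (hfix : fix ρ R ≠ ⊥) (hT : ∀ t ∈ T, ∀ v ∈ fix ρ R, ρ t v = v) {a0 : R}
    (ha0 : ∀ a : R, ∃ n : ℕ, a0 ^ n = a) (t : T) {N : ℕ}
    (hN : ∀ p ∈ zpowers (tau hTF t), p ≠ 1 → Nat.card {x // p x = x} = N) :
    ∃ o : ℕ, o * (r * orderOf (tau hTF t)) =
        finrank E V ^ 2 + (orderOf (tau hTF t) - 1) * N + orderOf (tau hTF t) * (r - 1) ∧
      finrank E (Cm (ρ (a0 : G)) (ρ (t : G))) ≤ o ∧
      finrank E V ≤ finrank E (Cm (ρ (a0 : G)) (ρ (t : G))) := by
  let act := actQ h.hRF
  have hcop := coprime_orderOf h.hr hTF hTr t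
  set n := orderOf (tau hTF t) with hn
  have hcomm := tau_comm hTF h.hRF hTR t
  have hρr : ρ (a0 : G) ^ r = 1 := by
    rw [← map_pow, ← Subgroup.coe_pow, ← h.hR, pow_card_eq_one', Subgroup.coe_one, map_one]
  have hρn : ρ (t : G) ^ n = 1 := by
    rw [← map_pow, ← Subgroup.coe_pow]
    apply rho_one h hTF hTs hTZ hfix hT
    rw [map_pow, hn, pow_orderOf_eq_one]
  have hρc : Commute (ρ (a0 : G)) (ρ (t : G)) := by
    show ρ (a0 : G) * ρ (t : G) = ρ (t : G) * ρ (a0 : G)
    rw [← map_mul, ← map_mul, hTR t t.2 a0 a0.2]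
  refine ⟨Nat.card (@MulAction.orbitRel.Quotient (R × zpowers (tau hTF t)) (F ⧸ center F) _
    (Count.act (tau hTF t) hcomm)), ?_, ?_, ?_⟩
  · have h1 := Count.card_orbits (tau hTF t) hcomm (1 : F ⧸ center F) (smul_one' h.hRF)
      (tau_one hTF t) (fun a ha x hx => eq_one_of_smul h ha hx) (by rw [h.hR]; exact hcop) hN
    rw [h.hR, h.card_eq] at h1
    exact h1
  · let _ := Count.act (tau hTF t) hcomm
    refine finrank_le_orbits h _ ?_
    rintro ⟨a, ⟨p, hp⟩⟩
    rw [← mem_powers_iff_mem_zpowers] at hp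
    obtain ⟨k, rfl⟩ := hp
    refine ⟨a * (t : G) ^ k, ?_, ?_⟩
    · intro f
      refine ⟨alpha h.hRF a (alpha hTF (t ^ k) f), ?_, ?_⟩
      · rw [alpha_coe, alpha_coe, Subgroup.coe_pow, mul_inv_rev]
        simp only [mul_assoc]
      · show _ = a • (tau hTF t ^ k) (f : F ⧸ center F)
        rw [← map_pow, tau_mk]
        rfl
    · rintro Y ⟨hY1, hY2⟩
      obtain ⟨j, rfl⟩ := ha0 a
      have h1 : Commute Y (ρ ((a0 ^ j : R) : G)) := by
        rw [Subgroup.coe_pow, map_pow]
        exact Commute.pow_right hY1 j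
      have h2 : Commute Y (ρ ((t : G) ^ k)) := by
        rw [map_pow]
        exact Commute.pow_right hY2 k
      rw [map_mul]
      exact h1.mul_right h2
  · refine finrank_le_commutant (ρ (a0 : G) * ρ (t : G)) _ ?_
    intro S hS
    have hS' : Commute S (ρ (a0 : G) * ρ (t : G)) := hS
    obtain ⟨u, hu1, hu2⟩ := Nat.chineseRemainder hcop 1 0
    obtain ⟨w, hw1, hw2⟩ := Nat.chineseRemainder hcop 0 1
    have hpow : ∀ (A : Module.End E V) {m a b : ℕ}, A ^ m = 1 → a ≡ b [MOD m] → A ^ a = A ^ b := by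
      intro A m a b hA hab
      have h1 : ∀ c, A ^ c = A ^ (c % m) := by
        intro c
        conv_lhs => rw [← Nat.div_add_mod c m, pow_add, pow_mul, hA, one_pow, one_mul]
      rw [h1 a, h1 b, hab]
    have h1 : (ρ (a0 : G) * ρ (t : G)) ^ u = ρ (a0 : G) := by
      rw [hρc.mul_pow, hpow _ hρr hu1, hpow _ hρn hu2, pow_one, pow_zero, mul_one]
    have h2 : (ρ (a0 : G) * ρ (t : G)) ^ w = ρ (t : G) := by
      rw [hρc.mul_pow, hpow _ hρr hw1, hpow _ hρn hw2, pow_one, pow_zero, one_mul]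
    constructor
    · have h3 := hS'.pow_right u
      rw [h1] at h3
      exact h3
    · have h3 := hS'.pow_right w
      rw [h2] at h3
      exact h3

/-- the fixed points in `F / Z(F)` -/
def fixX {T : Subgroup G} (hTF : T ≤ normalizer (F : Set G)) (t : T) :
    Subgroup (F ⧸ center F) where
  carrier := {x | tau hTF t x = x}
  mul_mem' := by
    intro a b ha hb
    show tau hTF t (a * b) = a * b
    rw [tau_mul, ha, hb]
  one_mem' := tau_one hTF t
  inv_mem' := by
    intro a ha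
    show tau hTF t a⁻¹ = a⁻¹
    have h1 : tau hTF t a⁻¹ * tau hTF t a = 1 := by
      rw [← tau_mul, inv_mul_cancel]
      exact tau_one hTF t
    rw [show tau hTF t a = a from ha] at h1
    exact eq_inv_of_mul_eq_one_left h1

theorem dvd_fix (h : RD ρ F R r s) {T : Subgroup G} (hTF : T ≤ normalizer (F : Set G))
    (hTR : ∀ t ∈ T, ∀ a ∈ R, t * a = a * t) (t : T) {m : ℕ}
    (hm : Nat.card {x // tau hTF t x = x} = m ^ 2) : r ∣ m ^ 2 - 1 := by
  let act := actQ h.hRF
  have hcomm := tau_comm hTF h.hRF hTR t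
  let _ : MulAction R {x // tau hTF t x = x} :=
    { smul := fun a x => ⟨a • (x : F ⧸ center F), by rw [hcomm, x.2]⟩
      one_smul := fun x => Subtype.ext (one_smul R (x : F ⧸ center F))
      mul_smul := fun a b x => Subtype.ext (mul_smul a b (x : F ⧸ center F)) }
  have hr : Fact r.Prime := ⟨h.hr⟩
  have hp : IsPGroup r R := IsPGroup.of_card (n := 1) (by rw [h.hR, pow_one])
  have h1 := hp.card_modEq_card_fixedPoints {x // tau hTF t x = x}
  have h2 : Nat.card (MulAction.fixedPoints R {x // tau hTF t x = x}) = 1 := by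
    rw [Nat.card_eq_one_iff_unique]
    have hR1 : ∃ a : R, a ≠ 1 := by
      have hnt : Nontrivial R :=
        Finite.one_lt_card_iff_nontrivial.mp (by rw [h.hR]; exact h.hr.one_lt)
      exact exists_ne 1
    obtain ⟨a, ha⟩ := hR1
    refine ⟨⟨?_⟩, ⟨⟨⟨1, tau_one hTF t⟩, fun b => Subtype.ext (smul_one' h.hRF b)⟩⟩⟩
    rintro ⟨⟨x, hx⟩, hx'⟩ ⟨⟨y, hy⟩, hy'⟩
    have h3 : x = 1 := eq_one_of_smul h ha (congrArg Subtype.val (hx' a))
    have h4 : y = 1 := eq_one_of_smul h ha (congrArg Subtype.val (hy' a))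
    apply Subtype.ext
    apply Subtype.ext
    show x = y
    rw [h3, h4]
  rw [hm, h2] at h1
  have h3 : 1 ≤ m ^ 2 := by
    rw [← hm]
    have : Nonempty {x // tau hTF t x = x} := ⟨⟨1, tau_one hTF t⟩⟩
    exact Nat.card_pos
  exact (Nat.modEq_iff_dvd' h3).mp h1.symm

theorem prime_case (h : RD ρ F R r s) {T : Subgroup G} (hTF : T ≤ normalizer (F : Set G))
    (hTR : ∀ t ∈ T, ∀ a ∈ R, t * a = a * t)
    (hTr : ¬ r ∣ Nat.card T) (hTs : ¬ s ∣ Nat.card T)
    (hTZ : ∀ t ∈ T, ∀ z ∈ (center F).map F.subtype, t * z = z * t)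
    (hfix : fix ρ R ≠ ⊥) (hT : ∀ t ∈ T, ∀ v ∈ fix ρ R, ρ t v = v) (t : T)
    (hn : (orderOf (tau hTF t)).Prime) :
    orderOf (tau hTF t) = 2 ∧ (∀ x, tau hTF t x = x → x = 1) ∧ finrank E V = 2 * r - 1 := by
  let act := actQ h.hRF
  obtain ⟨a0, ha0⟩ := exists_gen h
  have hcop := coprime_orderOf h.hr hTF hTr t
  set n := orderOf (tau hTF t) with hndef
  have hnT : n ∣ Nat.card T := (orderOf_map_dvd (tau hTF) t).trans (orderOf_dvd_natCard t)
  have hns : n ≠ s := by
    rintro h0
    exact hTs (h0 ▸ hnT)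
  have hrn : r ≠ n := by
    intro h0
    exact hTr (h0 ▸ hnT)
  obtain ⟨m, hm⟩ := exists_sq_fix h.hs h.hZ h.hab hTF hTs hTZ t
  have hrm := dvd_fix h hTF hTR t hm
  -- powers of `τ`
  have hN : ∀ p ∈ zpowers (tau hTF t), p ≠ 1 → Nat.card {x // p x = x} = m ^ 2 := by
    intro p hp hp1
    rw [← hm]
    have hfx : ∀ (a b : Equiv.Perm (F ⧸ center F)), b ∈ zpowers a → ∀ x, a x = x → b x = x := by
      intro a b hb x hx
      have h2 : zpowers a ≤ MulAction.stabilizer (Equiv.Perm (F ⧸ center F)) x := by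
        rw [Subgroup.zpowers_le]
        exact hx
      exact h2 hb
    have h3 : tau hTF t ∈ zpowers p := by
      have hpr : Fact (Nat.card (zpowers (tau hTF t))).Prime := ⟨by
        rw [Nat.card_zpowers]; exact hn⟩
      have h4 : (⟨tau hTF t, mem_zpowers _⟩ : zpowers (tau hTF t)) ∈
          Subgroup.zpowers (⟨p, hp⟩ : zpowers (tau hTF t)) :=
        mem_zpowers_of_prime_card rfl (fun h0 => hp1 (congrArg Subtype.val h0))
      obtain ⟨k, hk⟩ := Subgroup.mem_zpowers_iff.mp h4
      exact Subgroup.mem_zpowers_iff.mpr ⟨k, congrArg Subtype.val hk⟩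
    refine Nat.card_congr (Equiv.subtypeEquivRight fun x => ?_)
    exact ⟨hfx p _ h3 x, hfx _ p hp x⟩
  obtain ⟨o, ho1, ho2, ho3⟩ := count h hTF hTR hTr hTs hTZ hfix hT ha0 t hN
  rw [← hndef] at ho1
  -- divisibility
  have hmX : m ^ 2 ∣ finrank E V ^ 2 := by
    rw [← hm, ← h.card_eq]
    exact Subgroup.card_subgroup_dvd_card (fixX hTF t)
  have hmd : m ∣ finrank E V := (Nat.pow_dvd_pow_iff (by norm_num)).mp hmX
  have hm1 : 1 ≤ m := by
    by_contra hcon
    have h0 : m = 0 := by omega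
    rw [h0] at hm
    have : Nonempty {x // tau hTF t x = x} := ⟨⟨1, tau_one hTF t⟩⟩
    have h2 : 0 < Nat.card {x // tau hTF t x = x} := Nat.card_pos
    rw [hm] at h2
    exact absurd h2 (by norm_num)
  obtain ⟨e, he⟩ := hmd
  have he2 : 2 ≤ e := by
    by_contra hcon
    push Not at hcon
    have h1 : Nat.card (F ⧸ center F) ≤ Nat.card {x // tau hTF t x = x} := by
      rw [h.card_eq, hm, he]
      exact Nat.pow_le_pow_left (by nlinarith) 2
    -- every point is fixed
    have h2 : fixX hTF t = ⊤ := by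
      apply Subgroup.eq_top_of_card_eq
      apply le_antisymm (Subgroup.card_le_card_group _)
      exact h1
    apply hn.ne_one
    rw [hndef, orderOf_eq_one_iff]
    apply Equiv.ext
    intro x
    have h3 : x ∈ fixX hTF t := by rw [h2]; exact Subgroup.mem_top x
    exact h3
  have hcopm : n.Coprime m := by
    rw [Nat.Prime.coprime_iff_not_dvd hn]
    intro h0
    apply hns
    have hsf : Fact s.Prime := ⟨h.hs⟩
    obtain ⟨k, hk⟩ := h.hF.exists_card_eq
    have h1 : n ∣ s ^ k := by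
      rw [← hk]
      refine (h0.trans ?_).trans (Subgroup.card_quotient_dvd_card (center F))
      rw [h.card_eq, he]
      exact (dvd_mul_right m e).trans (dvd_pow_self _ (by norm_num))
    exact (Nat.prime_dvd_prime_iff_eq hn h.hs).mp (hn.dvd_of_dvd_pow h1)
  -- the commutant of `R`
  have hρr : ρ (a0 : G) ^ r = 1 := by
    rw [← map_pow, ← Subgroup.coe_pow, ← h.hR, pow_card_eq_one', Subgroup.coe_one, map_one]
  have hρn : ρ (t : G) ^ n = 1 := by
    rw [← map_pow, ← Subgroup.coe_pow]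
    apply rho_one h hTF hTs hTZ hfix hT
    rw [map_pow, hndef, pow_orderOf_eq_one]
  have hρc : ρ (t : G) * ρ (a0 : G) = ρ (a0 : G) * ρ (t : G) := by
    rw [← map_mul, ← map_mul, hTR t t.2 a0 a0.2]
  let D : Submodule E (Module.End E V) := Cm (ρ (a0 : G)) (ρ (a0 : G))
  have hD1 : Nat.card (MulAction.orbitRel.Quotient R (F ⧸ center F)) ≤ finrank E D := by
    refine orbits_le_finrank h D ?_
    intro S hS
    exact ⟨hS a0 a0.2, hS a0 a0.2⟩
  have hD2 : finrank E D ≤ Nat.card (MulAction.orbitRel.Quotient R (F ⧸ center F)) :=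
    h.finrank_commutant_le (ρ (a0 : G)) ha0 rfl D (fun S hS => hS.1)
  have hoR := h.card_orbits
  rw [h.card_eq] at hoR
  have h5 := comm_lower (ρ (a0 : G)) (ρ (t : G)) h.hrE hρr hn hρn hρc (by
      intro v hv
      apply hT t t.2
      intro a ha
      obtain ⟨k, hk⟩ := ha0 ⟨a, ha⟩
      have h1 : (a0 : G) ^ k = a := by
        have := congrArg Subtype.val hk
        rwa [Subgroup.coe_pow] at this
      rw [← h1]
      have h2 : ∀ j : ℕ, ρ ((a0 : G) ^ j) v = v := by
        intro j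
        induction j with
        | zero => rw [pow_zero, map_one, Module.End.one_apply]
        | succ j ih => rw [pow_succ', mul_apply', ih]; exact hv
      exact h2 k) (Cm (ρ (a0 : G)) (ρ (t : G))) D (fun S h1 h2 => ⟨h1, h2⟩) (fun S hS => hS.1)
  have h7 := mult_aux (ρ (a0 : G)) h.hrE hρr D (fun S hS => ⟨hS, hS⟩) hD2 hoR
  have h6 := arith_one h.hr.two_le hn.two_le ho1 hoR ho2 h5 hD1
  rw [he] at ho1 hoR ho3 h7 ⊢
  obtain ⟨hn2, hm2, hd⟩ := arith_core h.hr hn hrn hm1 he2 hrm hcopm ho1 hoR ho3 ho2 h6 h7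
  refine ⟨hn2, ?_, hd⟩
  intro x hx
  rw [hm2, one_pow, Nat.card_eq_one_iff_unique] at hm
  have h8 := hm.1.elim (⟨x, hx⟩ : {x // tau hTF t x = x}) ⟨1, tau_one hTF t⟩
  exact congrArg Subtype.val h8

/-- **The theorem.** -/
theorem f3_core (h : RD ρ F R r s) (T : Subgroup G)
    (hTF : T ≤ normalizer (F : Set G)) (hTR : ∀ t ∈ T, ∀ a ∈ R, t * a = a * t)
    (hTr : ¬ r ∣ Nat.card T) (hTs : ¬ s ∣ Nat.card T)
    (hTZ : ∀ t ∈ T, ∀ z ∈ (center F).map F.subtype, t * z = z * t)
    (hfix : fix ρ R ≠ ⊥) (hT : ∀ t ∈ T, ∀ v ∈ fix ρ R, ρ t v = v) :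
    ∀ t ∈ T, (∀ f ∈ F, ⁅t, f⁆ ∈ (center F).map F.subtype) ∨
      (∀ f ∈ F, t * f * t⁻¹ * f ∈ (center F).map F.subtype) := by
  intro t0 ht0
  set t : T := ⟨t0, ht0⟩ with htdef
  have hcase : ∀ t : T, (orderOf (tau hTF t)).Prime → orderOf (tau hTF t) = 2 ∧
      (∀ x, tau hTF t x = x → x = 1) ∧ finrank E V = 2 * r - 1 :=
    fun t hn => prime_case h hTF hTR hTr hTs hTZ hfix hT t hn
  set o := orderOf (tau hTF t) with ho
  have hpos : 0 < o := orderOf_pos _
  have hpow : ∀ k, k ∣ o → orderOf (tau hTF (t ^ (o / k))) = k := by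
    intro k hk
    rw [map_pow, orderOf_pow_orderOf_div hpos.ne' hk]
  by_cases h1 : o = 1
  · left
    intro f hf
    have h2 : tau hTF t = 1 := orderOf_eq_one_iff.mp h1
    have h3 := congrArg Subtype.val (alpha_eq_of_tau h.hs h.hZ hTF hTs hTZ h2 ⟨f, hf⟩)
    rw [alpha_coe] at h3
    have h4 : t0 * f * t0⁻¹ = f := h3
    rw [commutatorElement_def, h4, mul_inv_cancel]
    exact ((center F).map F.subtype).one_mem
  · right
    -- every prime divisor is `2`
    have hprime : ∀ q, q.Prime → q ∣ o → q = 2 := by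
      intro q hq hqo
      have h2 := hpow q hqo
      have h3 := (hcase (t ^ (o / q)) (by rw [h2]; exact hq)).1
      rwa [h2] at h3
    have h2o : 2 ∣ o := by
      obtain ⟨q, hq, hqo⟩ := Nat.exists_prime_and_dvd h1
      rw [← hprime q hq hqo]
      exact hqo
    obtain ⟨-, hfix2, hdim⟩ := hcase (t ^ (o / 2)) (by rw [hpow 2 h2o]; exact Nat.prime_two)
    -- not divisible by `4`
    have h4o : ¬ 4 ∣ o := by
      intro h4
      set u : T := t ^ (o / 4) with hu
      have hou : orderOf (tau hTF u) = 4 := hpow 4 h4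
      have hu2 : tau hTF (t ^ (o / 2)) = tau hTF u ^ 2 := by
        rw [hu, map_pow, map_pow, ← pow_mul]
        congr 1
        obtain ⟨j, hj⟩ := h4
        rw [hj]
        omega
      rw [hu2] at hfix2
      obtain ⟨a0, ha0⟩ := exists_gen h
      have hN : ∀ p ∈ zpowers (tau hTF u), p ≠ 1 → Nat.card {x // p x = x} = 1 := by
        intro p hp hp1
        rw [Nat.card_eq_one_iff_unique]
        rw [← mem_powers_iff_mem_zpowers] at hp
        obtain ⟨k, rfl⟩ := hp
        have h0 : ∀ x, (tau hTF u ^ k) x = x → x = 1 := by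
          intro x hx
          apply hfix2
          have hfx : ∀ (a b : Equiv.Perm (F ⧸ center F)), b ∈ zpowers a → ∀ x, a x = x →
              b x = x := by
            intro a b hb x hx
            have h2 : zpowers a ≤ MulAction.stabilizer (Equiv.Perm (F ⧸ center F)) x := by
              rw [Subgroup.zpowers_le]
              exact hx
            exact h2 hb
          refine hfx (tau hTF u ^ k) _ ?_ x hx
          have hk4 : ¬ 4 ∣ k := by
            intro h5
            apply hp1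
            show tau hTF u ^ k = 1
            rw [← hou] at h5
            exact orderOf_dvd_iff_pow_eq_one.mp h5
          -- `τ²` is a power of `τ ^ k`
          have h5 : ∃ j, (k * j) % 4 = 2 := by
            have h6 : k % 4 = 1 ∨ k % 4 = 2 ∨ k % 4 = 3 := by omega
            rcases h6 with h6 | h6 | h6
            · exact ⟨2, by omega⟩
            · exact ⟨1, by omega⟩
            · exact ⟨2, by omega⟩
          obtain ⟨j, hj⟩ := h5
          refine Subgroup.mem_zpowers_iff.mpr ⟨j, ?_⟩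
          rw [zpow_natCast, ← pow_mul, ← pow_mod_orderOf, hou, hj]
        refine ⟨⟨?_⟩, ⟨⟨1, ?_⟩⟩⟩
        · rintro ⟨x, hx⟩ ⟨y, hy⟩
          apply Subtype.ext
          show x = y
          rw [h0 x hx, h0 y hy]
        · show (tau hTF u ^ k) 1 = 1
          rw [← map_pow]
          exact tau_one hTF _
      obtain ⟨c, hc1, hc2, hc3⟩ := count h hTF hTR hTr hTs hTZ hfix hT ha0 u hN
      rw [hou, hdim] at hc1
      have h5 := hc3.trans hc2
      rw [hdim] at h5
      have hr2 := h.hr.two_le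
      obtain ⟨e, rfl⟩ : ∃ e, r = e + 1 := ⟨r - 1, by omega⟩
      have h6 : 2 * (e + 1) - 1 = 2 * e + 1 := by omega
      rw [h6] at h5 hc1
      rw [Nat.add_sub_cancel] at hc1
      have h7 : (2 * e + 1) * ((e + 1) * 4) ≤ c * ((e + 1) * 4) := Nat.mul_le_mul_right _ h5
      rw [hc1] at h7
      nlinarith
    have ho2 : o = 2 := by
      obtain ⟨k, hk⟩ := h2o
      by_cases hk1 : k = 1
      · rw [hk, hk1]
      · exfalso
        obtain ⟨q, hq, hqk⟩ := Nat.exists_prime_and_dvd hk1
        have h3 := hprime q hq (by rw [hk]; exact hqk.mul_left 2)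
        subst h3
        apply h4o
        rw [hk]
        exact mul_dvd_mul (dvd_refl 2) hqk
    rw [ho2, Nat.div_self (by norm_num), pow_one] at hfix2
    intro f hf
    have h5 : tau hTF t ^ 2 = 1 := by rw [← ho2, ho, pow_orderOf_eq_one]
    have h6 : tau hTF t (tau hTF t (QuotientGroup.mk (⟨f, hf⟩ : F))) =
        QuotientGroup.mk (⟨f, hf⟩ : F) := by
      rw [← Equiv.Perm.mul_apply, ← sq, h5, Equiv.Perm.one_apply]
    have hcommX : ∀ x y : F ⧸ center F, x * y = y * x := by
      intro x y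
      induction x using QuotientGroup.induction_on with | H a => ?_
      induction y using QuotientGroup.induction_on with | H b => ?_
      rw [← QuotientGroup.mk_mul, ← QuotientGroup.mk_mul, QuotientGroup.eq]
      have h1 : (a * b)⁻¹ * (b * a) = b⁻¹ * a⁻¹ * b⁻¹⁻¹ * a⁻¹⁻¹ := by group
      rw [h1]
      exact h.hab b⁻¹ a⁻¹
    have h7 := hfix2 (tau hTF t (QuotientGroup.mk (⟨f, hf⟩ : F)) *
      QuotientGroup.mk (⟨f, hf⟩ : F)) (by rw [tau_mul, h6, hcommX])
    rw [tau_mk, ← QuotientGroup.mk_mul, QuotientGroup.eq_one_iff] at h7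
    exact ⟨_, h7, rfl⟩

end Cfsg.Agent.H555.F3.Main
end

-- part: H575/FTopFaith
section
/-!
# Faithful representations of an extraspecial group with operators
-/

set_option autoImplicit false
set_option linter.unusedSectionVars false
set_option linter.unusedVariables false

namespace Cfsg.Agent.H575.FTop

open Module Subgroup Cfsg.Agent.H575.Dim Cfsg.Agent.H575.Weights Cfsg.Agent.H575.Sect
  Cfsg.Agent.H575.Fix Cfsg.Agent.H575.Lev Cfsg.Agent.H575.ModM Cfsg.Agent.H575.Tower
  Cfsg.Agent.H575.Mult Cfsg.Agent.H575.HA Cfsg.Agent.H575.KL Cfsg.Agent.H575.ExtraIrr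
open scoped commutatorElement

variable {E : Type*} [Field E] [IsAlgClosed E] {H V : Type*} [Group H] [Finite H]
  [AddCommGroup V] [Module E V] [FiniteDimensional E V] {F R : Subgroup H} {r s : ℕ}

theorem mem_center_subgroupOf {K : Subgroup H} (hF : F ≤ K) {z : F.subgroupOf K}
    (hz : z ∈ center (F.subgroupOf K)) : (⟨((z : K) : H), z.2⟩ : F) ∈ center F := by
  rw [Subgroup.mem_center_iff] at hz ⊢
  intro g
  have h1 := hz ⟨⟨(g : H), hF g.2⟩, g.2⟩
  apply Subtype.ext
  exact congrArg (fun x : F.subgroupOf K => ((x : K) : H)) h1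

theorem no_fixed {π : Representation E H V} (h : ED F R r s)
    (hscal : ∀ z : F, z ∈ center F → ∃ c : E, ∀ v, π z v = c • v)
    (hfaith : ∀ z : F, z ∈ center F → π z = 1 → z = 1) {v : V} (hv : ∀ f ∈ F, π f v = v) :
    v = 0 := by
  by_contra hv0
  have hnt : Nontrivial (center F) := by
    rw [← Finite.one_lt_card_iff_nontrivial, h.hZ]
    exact h.hs.one_lt
  obtain ⟨z, hz⟩ := exists_ne (1 : center F)
  obtain ⟨c, hc⟩ := hscal z z.2
  have h1 : c = 1 := by
    have h2 := hc v
    rw [hv _ (z : F).2] at h2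
    have h3 : (1 - c) • v = 0 := by rw [sub_smul, one_smul, ← h2, sub_self]
    exact (sub_eq_zero.mp ((smul_eq_zero.mp h3).resolve_right hv0)).symm
  apply hz
  apply Subtype.ext
  refine hfaith z z.2 ?_
  ext w
  rw [hc, h1, one_smul, Module.End.one_apply]

theorem scal_sub {π : Representation E H V} {K : Subgroup H} (hF : F ≤ K)
    (hscal : ∀ z : F, z ∈ center F → ∃ c : E, ∀ v, π z v = c • v) :
    ∀ z : F.subgroupOf K, z ∈ center (F.subgroupOf K) →
      ∃ c : E, ∀ v, π ((z : K) : H) v = c • v := by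
  intro z hz
  exact hscal _ (mem_center_subgroupOf hF hz)

theorem faith_sub {π : Representation E H V} {K : Subgroup H} (hF : F ≤ K)
    (hscal : ∀ z : F, z ∈ center F → ∃ c : E, ∀ v, π z v = c • v)
    (hfaith : ∀ z : F, z ∈ center F → π z = 1 → z = 1) {v : V} (hv0 : v ≠ 0) :
    ∀ z : F.subgroupOf K, z ∈ center (F.subgroupOf K) → π ((z : K) : H) v = v → z = 1 := by
  intro z hz h1
  obtain ⟨c, hc⟩ := hscal _ (mem_center_subgroupOf hF hz)
  have hc1 : c = 1 := by
    have h2 := hc v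
    rw [h1] at h2
    have h3 : (1 - c) • v = 0 := by rw [sub_smul, one_smul, ← h2, sub_self]
    exact (sub_eq_zero.mp ((smul_eq_zero.mp h3).resolve_right hv0)).symm
  have h3 := hfaith _ (mem_center_subgroupOf hF hz) (by
    ext w
    rw [hc, hc1, one_smul, Module.End.one_apply])
  apply Subtype.ext
  apply Subtype.ext
  exact congrArg (fun x : F => (x : H)) h3

theorem card_quot_eq (h : ED F R r s) {K : Subgroup H} (hF : F ≤ K)
    (h' : ED (F.subgroupOf K) (R.subgroupOf K) r s) :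
    Nat.card (F ⧸ center F) = Nat.card (F.subgroupOf K ⧸ center (F.subgroupOf K)) := by
  have h1 := (center F).card_mul_index
  have h2 := (center (F.subgroupOf K)).card_mul_index
  rw [h.hZ] at h1
  rw [h'.hZ, Nat.card_congr (Subgroup.subgroupOfEquivOfLe hF).toEquiv, ← h1] at h2
  exact (Nat.eq_of_mul_eq_mul_left h.hs.pos h2).symm

theorem f2f {π : Representation E H V} [Nontrivial V] (h : ED F R r s)
    (hscal : ∀ z : F, z ∈ center F → ∃ c : E, ∀ v, π z v = c • v)
    (hfaith : ∀ z : F, z ∈ center F → π z = 1 → z = 1) (hrE : (r : E) ≠ 0) (hsE : (s : E) ≠ 0)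
    (hfix : fix π R = ⊥) : s = 2 ∧ Nat.card (F ⧸ center F) = (r - 1) ^ 2 := by
  have hcop := ed_cop h
  obtain ⟨hidx, hcR, hFn, hFR⟩ := index_subgroupOf_sup h.hRF hcop
  set K : Subgroup H := F ⊔ R with hK
  have hED : ED (F.subgroupOf K) (R.subgroupOf K) r s :=
    ExtraFix.ed_subgroupOf h le_sup_left le_sup_right
  have hKE := ed_card (E := E) hED hFR hrE hsE
  obtain ⟨U, hU, hirr⟩ := ExtraFix.exists_irr (π.comp K.subtype)
  have hnofix : ∀ u : U, (∀ a ∈ R.subgroupOf K,
      sub (π.comp K.subtype) (MonoidHom.id K) U hU a u = u) → u = 0 := by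
    intro u hu
    apply Subtype.ext
    have h1 : (u : V) ∈ fix π R := fun a ha =>
      congrArg Subtype.val (hu ⟨a, le_sup_right (a := F) ha⟩ ha)
    rw [hfix, Submodule.mem_bot] at h1
    exact h1
  have hFirr : Irr ((sub (π.comp K.subtype) (MonoidHom.id K) U hU).comp
      (F.subgroupOf K).subtype) := by
    by_contra hred
    obtain ⟨v, hv, hf⟩ := ExtraMod.exists_fixed_of_not_irr hKE _ hirr (F.subgroupOf K)
      (R.subgroupOf K) (by rw [hidx, h.hR]; exact h.hr) (by rw [hidx, hcR]) hFR hred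
    exact hv (hnofix v hf)
  have hRD : RD (sub (π.comp K.subtype) (MonoidHom.id K) U hU) (F.subgroupOf K)
      (R.subgroupOf K) r s :=
    { toED := hED
      hrE := hrE
      hsE := hsE
      hirr := hFirr
      hCV := fun v hv => Subtype.ext (no_fixed h hscal hfaith fun f hf =>
        congrArg Subtype.val (hv ⟨f, le_sup_left (a := F) hf⟩ hf)) }
  obtain ⟨hs2, m, hm, hdim⟩ := rd_exceptional hRD (by
    rw [eq_bot_iff]
    intro u hu
    rw [Submodule.mem_bot]
    exact hnofix u hu)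
  refine ⟨hs2, ?_⟩
  rw [card_quot_eq h le_sup_left hED, hRD.card_eq, hdim, hm, Nat.add_sub_cancel]

theorem pres_of_simple {π : Representation E H V} {K T : Subgroup H}
    (hTK : T ≤ normalizer (K : Set H)) {W : Submodule E V} (hW : Pres π K W)
    (hs : ∀ U : Submodule E V, Pres π K U → U ≤ W → U = ⊥ ∨ U = W) {w : V} (hw : w ∈ W)
    (hw0 : w ≠ 0) (hT : ∀ t ∈ T, π t w = w) : Pres π T W := by
  intro t ht x hx
  have h1 : Pres π K (W ⊓ W.map (π t⁻¹)) := by
    rintro g hg _ ⟨hy, y, hyW, rfl⟩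
    refine ⟨hW g hg _ hy, ?_⟩
    refine ⟨π (t * g * t⁻¹) y, hW _ (Sect.conj_mem hTK ht hg) y hyW, ?_⟩
    rw [← mul_apply', ← mul_apply']
    congr 2
    group
  rcases hs _ h1 inf_le_left with h2 | h2
  · exfalso
    have h3 : w ∈ W ⊓ W.map (π t⁻¹) := ⟨hw, w, hw, hT _ (T.inv_mem ht)⟩
    rw [h2, Submodule.mem_bot] at h3
    exact hw0 h3
  · have h3 : x ∈ W ⊓ W.map (π t⁻¹) := by rw [h2]; exact hx
    obtain ⟨-, y, hyW, rfl⟩ := h3
    rw [apply_inv]
    exact hyW

theorem f3f {π : Representation E H V} (h : ED F R r s)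
    (hscal : ∀ z : F, z ∈ center F → ∃ c : E, ∀ v, π z v = c • v)
    (hfaith : ∀ z : F, z ∈ center F → π z = 1 → z = 1) (hrE : (r : E) ≠ 0) (hsE : (s : E) ≠ 0)
    (T : Subgroup H)
    (hTF : T ≤ normalizer (F : Set H)) (hTR : ∀ t ∈ T, ∀ a ∈ R, t * a = a * t)
    (hTr : ¬ r ∣ Nat.card T) (hTs : ¬ s ∣ Nat.card T)
    (hTZ : ∀ t ∈ T, ∀ z ∈ (center F).map F.subtype, t * z = z * t)
    (hfix : fix π R ≠ ⊥) (hT : ∀ t ∈ T, ∀ v ∈ fix π R, π t v = v) :
    ∀ t ∈ T, (∀ f ∈ F, ⁅t, f⁆ ∈ (center F).map F.subtype) ∨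
      (∀ f ∈ F, t * f * t⁻¹ * f ∈ (center F).map F.subtype) := by
  have hcop := ed_cop h
  obtain ⟨hidx, hcR, hFn, hFR⟩ := index_subgroupOf_sup h.hRF hcop
  set K : Subgroup H := F ⊔ R with hK
  have hED : ED (F.subgroupOf K) (R.subgroupOf K) r s :=
    ExtraFix.ed_subgroupOf h le_sup_left le_sup_right
  have hKE : (Nat.card K : E) ≠ 0 := ed_card (E := E) hED hFR hrE hsE
  obtain ⟨W, hW, ⟨w, hw, hw0, hwR⟩, hs⟩ :=
    exists_irr_fixed (K := K) (R := R) (σ := π) hKE le_sup_right hfix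
  have hirrK := irr_of_simple hW ⟨w, hw, hw0⟩ hs
  have hirrF := irr_of_top hirrK hFR hED
    (fun z hz => by
      obtain ⟨c, hc⟩ := scal_sub le_sup_left hscal z hz
      exact ⟨c, fun v => Subtype.ext (hc v)⟩)
    (fun z hz h1 => faith_sub le_sup_left hscal hfaith hw0 z hz
      (congrArg Subtype.val (LinearMap.congr_fun h1 ⟨w, hw⟩))) hrE hsE
  have hTK : T ≤ normalizer (K : Set H) := by
    refine le_normalizer_sup' hTF (le_norm fun t ht a ha => ?_)
    rw [hTR t ht a ha, mul_inv_cancel_right]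
    exact ha
  have hTW : Pres π T W := pres_of_simple hTK hW hs hw hw0 fun t ht => hT t ht w hwR
  have hLW : Pres π (K ⊔ T) W := hW.sup hTW hTK
  have hFL : F ≤ K ⊔ T := le_sup_left.trans le_sup_left
  have hRL : R ≤ K ⊔ T := le_sup_right.trans le_sup_left
  have hTL : T ≤ K ⊔ T := le_sup_right
  have hRD : RD (sub π (K ⊔ T).subtype W (fun g w hw => hLW g g.2 w hw))
      (F.subgroupOf (K ⊔ T)) (R.subgroupOf (K ⊔ T)) r s :=
    { toED := ExtraFix.ed_subgroupOf h hFL hRL
      hrE := hrE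
      hsE := hsE
      hirr := ⟨hirrF.1, fun U hU => hirrF.2 U fun g u hu =>
        hU ⟨⟨((g : K) : H), hFL g.2⟩, g.2⟩ u hu⟩
      hCV := fun v hv => Subtype.ext (no_fixed h hscal hfaith fun f hf =>
        congrArg Subtype.val (hv ⟨f, hFL hf⟩ hf)) }
  have hcT : Nat.card (T.subgroupOf (K ⊔ T)) = Nat.card T :=
    Nat.card_congr (Subgroup.subgroupOfEquivOfLe hTL).toEquiv
  have hmapc : ∀ x : ↥(K ⊔ T), x ∈ (center (F.subgroupOf (K ⊔ T))).map
      (F.subgroupOf (K ⊔ T)).subtype → (x : H) ∈ (center F).map F.subtype := by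
    rintro _ ⟨z, hz, rfl⟩
    exact ⟨_, mem_center_subgroupOf hFL hz, rfl⟩
  have hmain := H555.F3.Main.f3_core hRD (T.subgroupOf (K ⊔ T))
    (subgroupOf_le_normalizer' hTF)
    (fun t ht a ha => Subtype.ext (hTR t ht a ha)) (by rw [hcT]; exact hTr)
    (by rw [hcT]; exact hTs) (fun t ht z hz => Subtype.ext (hTZ t ht z (hmapc z hz)))
    (by
      intro hbot
      have h1 : (⟨w, hw⟩ : W) ∈ fix (sub π (K ⊔ T).subtype W (fun g w hw => hLW g g.2 w hw))
          (R.subgroupOf (K ⊔ T)) := fun a ha => Subtype.ext (hwR a ha)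
      rw [hbot, Submodule.mem_bot] at h1
      exact hw0 (congrArg Subtype.val h1))
    (by
      intro t ht v hv
      refine Subtype.ext (hT t ht v fun a ha => ?_)
      exact congrArg Subtype.val (hv ⟨a, hRL ha⟩ ha))
  intro t ht
  rcases hmain ⟨t, hTL ht⟩ ht with h1 | h1
  · left
    intro f hf
    exact hmapc _ (h1 ⟨f, hFL hf⟩ hf)
  · right
    intro f hf
    exact hmapc _ (h1 ⟨f, hFL hf⟩ hf)

end Cfsg.Agent.H575.FTop
end

-- part: H575/FTop
section
/-!
# A group centralizing `R` above a group `Q = [Q, R]`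
-/

set_option autoImplicit false
set_option linter.unusedSectionVars false
set_option linter.unusedVariables false

namespace Cfsg.Agent.H575.FTop

open Module Subgroup Cfsg.Agent.H575.Dim Cfsg.Agent.H575.Weights Cfsg.Agent.H575.Sect
  Cfsg.Agent.H575.Fix Cfsg.Agent.H575.Lev Cfsg.Agent.H575.ModM Cfsg.Agent.H575.Tower
  Cfsg.Agent.H575.Mult Cfsg.Agent.H575.HA Cfsg.Agent.H575.KL Cfsg.Agent.H575.ExtraIrr
open scoped commutatorElement

/-- The group `Q = [Q, R] = [Q, T]` of class two with `T` centralizing `R`. -/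
structure TD {G : Type*} [Group G] (Q Z T R : Subgroup G) (r s : ℕ) : Prop where
  hr : r.Prime
  hs : s.Prime
  hrs : r ≠ s
  hR : Nat.card R = r
  hQ : IsPGroup s Q
  hZQ : Z ≤ Q
  hQQ : ∀ x ∈ Q, ∀ y ∈ Q, ⁅x, y⁆ ∈ Z
  hQs : ∀ x ∈ Q, x ^ s ∈ Z
  hZ : ∀ z ∈ Z, ∀ x ∈ Q, z * x = x * z
  hRQ : R ≤ normalizer (Q : Set G)
  hRZ : R ≤ normalizer (Z : Set G)
  hcomm : ⁅Q, R⁆ = Q
  hTQ : T ≤ normalizer (Q : Set G)
  hTR : ∀ t ∈ T, ∀ a ∈ R, t * a = a * t
  hTr : ¬ r ∣ Nat.card T
  hTs : ¬ s ∣ Nat.card T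
  hZT : ∀ z ∈ Z, ∀ t ∈ T, z * t = t * z
  hQT : ⁅Q, T⁆ = Q

variable {E : Type*} [Field E] [IsAlgClosed E] {G V : Type*} [Group G] [Finite G]
  [AddCommGroup V] [Module E V] [FiniteDimensional E V] {Q Z T R : Subgroup G} {r s : ℕ}

theorem TD.isPGroup_R (h : TD Q Z T R r s) : IsPGroup r R := by
  have : Fact r.Prime := ⟨h.hr⟩
  exact IsPGroup.of_card (n := 1) (by rw [h.hR, pow_one])

/-- if `T` is trivial on `W` then so is `Q = [Q, T]` -/
theorem le_fix_of_trivial (h : TD Q Z T R r s) {π : Representation E G V} {W : Submodule E V}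
    (hQW : Pres π Q W) (hT : ∀ t ∈ T, ∀ w ∈ W, π t w = w) : W ≤ fix π Q := by
  let S : Subgroup G :=
    { carrier := {x | x ∈ Q ∧ ∀ w ∈ W, π x w = w}
      one_mem' := ⟨Q.one_mem, fun w _ => by rw [map_one]; rfl⟩
      mul_mem' := fun {a b} ha hb => ⟨Q.mul_mem ha.1 hb.1, fun w hw => by
        rw [mul_apply', hb.2 w hw, ha.2 w hw]⟩
      inv_mem' := fun {a} ha => ⟨Q.inv_mem ha.1, fun w hw => by
        have := inv_apply π a w
        rwa [ha.2 w hw] at this⟩ }
  have h1 : ⁅Q, T⁆ ≤ S := by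
    rw [commutator_le]
    intro x hx t ht
    refine ⟨by rw [← h.hQT]; exact commutator_mem_commutator hx ht, fun w hw => ?_⟩
    rw [commutatorElement_def, mul_apply', mul_apply', mul_apply', hT _ (T.inv_mem ht) w hw,
      hT t ht _ (hQW _ (Q.inv_mem hx) w hw), apply_inv]
  rw [h.hQT] at h1
  intro w hw x hx
  exact (h1 hx).2 w hw

/-- only the identity of `R` stabilises a weight which is not `R`-invariant -/
theorem eq_one_of_same (h : TD Q Z T R r s) {N : Subgroup G} (hRN : R ≤ normalizer (N : Set G))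
    {l : G → E} (hl : ¬ ∀ a ∈ R, Same N (cj a l) l) {a : R} (ha : Same N (cj (a : G) l) l) :
    a = 1 := by
  by_contra hr1
  apply hl
  have : Fact (Nat.card R).Prime := ⟨h.hR ▸ h.hr⟩
  have hgen : ∀ x : R, x ∈ Subgroup.zpowers a := fun x => mem_zpowers_of_prime_card rfl hr1
  intro s hs
  have h1 : (a : G) ∈ stab N l := ⟨hRN a.2, ha⟩
  obtain ⟨n, hn⟩ := hgen ⟨s, hs⟩
  have hn' : (a : G) ^ n = s := congrArg Subtype.val hn
  have h2 : s ∈ stab N l := by
    rw [← hn']
    exact Subgroup.zpow_mem _ h1 n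
  exact h2.2

theorem eq_zero_of_sum (h : TD Q Z T R r s) {π : Representation E G V} {W : Submodule E V}
    {N : Subgroup G} (hRW : Pres π R W) (hRN : R ≤ normalizer (N : Set G)) {l : G → E}
    (hl : ¬ ∀ a ∈ R, Same N (cj a l) l) [Fintype R] {u : V} (hu : u ∈ wt π N W l)
    (hsum : ∑ a : R, π (a : G) u = 0) : u = 0 := by
  classical
  have hsame := sum_same_eq_zero (π := π) (A := N) (W := W) Finset.univ (fun a : R => π a u)
    (fun a : R => cj (a : G) l)
    (fun a _ => apply_mem_wt (hRN a.2) (hRW a a.2) hu) hsum l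
  have hfil : (Finset.univ.filter fun a : R => Same N (cj (a : G) l) l) = {1} := by
    ext a
    rw [Finset.mem_filter, Finset.mem_singleton]
    constructor
    · rintro ⟨-, ha⟩
      exact eq_one_of_same h hRN hl ha
    · rintro rfl
      refine ⟨Finset.mem_univ _, ?_⟩
      rw [Subgroup.coe_one, cj_one]
      exact Same.refl N l
  rw [hfil, Finset.sum_singleton, Subgroup.coe_one, map_one, Module.End.one_apply] at hsame
  exact hsame

theorem sum_fixed {π : Representation E G V} [Fintype R] (v : V) :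
    ∀ b ∈ R, π b (∑ a : R, π (a : G) v) = ∑ a : R, π (a : G) v := by
  intro b hb
  rw [map_sum]
  refine Fintype.sum_bijective (fun y => ⟨b, hb⟩ * y) (Group.mulLeft_bijective _) _ _ fun y => ?_
  rw [← mul_apply']
  rfl

/-- all weights are invariant under `R` -/
theorem weight_inv (h : TD Q Z T R r s) {π : Representation E G V}
    (hT : ∀ v, (∀ a ∈ R, π a v = v) → ∀ t ∈ T, π t v = v) {W : Submodule E V} {N : Subgroup G}
    {l : G → E} (hRW : Pres π R W) (hTW : Pres π T W) (hQW : Pres π Q W)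
    (hNQ : N ≤ Q) (hRN : R ≤ normalizer (N : Set G)) (hTN : T ≤ normalizer (N : Set G))
    (hc : ∀ n ∈ N, ∀ x ∈ Q, ∀ w ∈ W, π n (π x w) = π x (π n w))
    (hQ0 : fix π Q = ⊥) (hl : wt π N W l ≠ ⊥) : ∀ a ∈ R, Same N (cj a l) l := by
  classical
  have : Fintype R := Fintype.ofFinite R
  by_contra hlR
  have hst : ∀ t ∈ T, t ∈ stab N l := by
    intro t ht
    obtain ⟨v, hv, hv0⟩ := Submodule.exists_mem_ne_zero_of_ne_bot hl
    let vv : R ⊕ R → V := Sum.elim (fun a => π (t * a) v) (fun a => -π (a : G) v)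
    let ll : R ⊕ R → G → E := Sum.elim (fun a => cj (t * a) l) (fun a => cj (a : G) l)
    have hvv : ∀ i ∈ (Finset.univ : Finset (R ⊕ R)), vv i ∈ wt π N W (ll i) := by
      rintro (a | a) _
      · refine apply_mem_wt (Subgroup.mul_mem _ (hTN ht) (hRN a.2)) (fun w hw => ?_) hv
        rw [mul_apply']
        exact hTW t ht _ (hRW a a.2 w hw)
      · exact (wt π N W _).neg_mem (apply_mem_wt (hRN a.2) (hRW a a.2) hv)
    have hsum : ∑ i : R ⊕ R, vv i = 0 := by
      rw [Fintype.sum_sum_type]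
      show ∑ a : R, π (t * a) v + ∑ a : R, -π (a : G) v = 0
      have h1 : ∑ a : R, π (t * a) v = π t (∑ a : R, π (a : G) v) := by
        rw [map_sum]
        exact Finset.sum_congr rfl fun a _ => mul_apply' π t a v
      rw [h1, hT _ (sum_fixed v) t ht, Finset.sum_neg_distrib, add_neg_cancel]
    have hsame := sum_same_eq_zero (π := π) (A := N) (W := W) Finset.univ vv ll hvv hsum l
    have hex : ∃ a : R, Same N (cj (t * a) l) l := by
      by_contra hno
      push Not at hno
      have hfil : (Finset.univ.filter fun i : R ⊕ R => Same N (ll i) l) = {Sum.inr 1} := by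
        ext i
        rw [Finset.mem_filter, Finset.mem_singleton]
        constructor
        · rintro ⟨-, ha⟩
          rcases i with a | a
          · exact absurd ha (hno a)
          · rw [eq_one_of_same h hRN hlR ha]
        · rintro rfl
          refine ⟨Finset.mem_univ _, ?_⟩
          show Same N (cj ((1 : R) : G) l) l
          rw [Subgroup.coe_one, cj_one]
          exact Same.refl N l
      rw [hfil, Finset.sum_singleton] at hsame
      have h2 : -π ((1 : R) : G) v = 0 := hsame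
      rw [Subgroup.coe_one, map_one, Module.End.one_apply, neg_eq_zero] at h2
      exact hv0 h2
    obtain ⟨a, ha⟩ := hex
    have hta : t * (a : G) ∈ stab N l := ⟨Subgroup.mul_mem _ (hTN ht) (hRN a.2), ha⟩
    have hcom : Commute t (a : G) := h.hTR t ht a a.2
    have hpow : (a : G) ^ Nat.card T ∈ stab N l := by
      have h3 := Subgroup.pow_mem _ hta (Nat.card T)
      rw [hcom.mul_pow] at h3
      have h4 : t ^ Nat.card T = 1 := by
        have : (⟨t, ht⟩ : T) ^ Nat.card T = 1 := pow_card_eq_one'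
        exact congrArg Subtype.val this
      rwa [h4, one_mul] at h3
    have ha1 : a = 1 := by
      have hcop : (Nat.card T).Coprime (Nat.card R) := by
        rw [h.hR]
        exact ((Nat.Prime.coprime_iff_not_dvd h.hr).mpr h.hTr).symm
      have h5 : (Nat.card T).Coprime (orderOf a) :=
        hcop.coprime_dvd_right (orderOf_dvd_natCard a)
      obtain ⟨k, hk⟩ := exists_pow_eq_self_of_coprime h5
      have h6 : (a : G) ∈ stab N l := by
        have h7 := Subgroup.pow_mem _ hpow k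
        have h8 : ((a : G) ^ Nat.card T) ^ k = a := congrArg Subtype.val hk
        rwa [h8] at h7
      exact eq_one_of_same h hRN hlR h6.2
    rw [ha1, Subgroup.coe_one, mul_one] at hta
    exact hta
  -- `T` is trivial on the weight space
  have htriv : ∀ t ∈ T, ∀ w ∈ wt π N W l, π t w = w := by
    intro t ht w hw
    have h1 : π t w ∈ wt π N W l := by
      have h2 := apply_mem_wt (hTN ht) (hTW t ht) hw
      rwa [wt_congr π W (hst t ht).2] at h2
    have h2 : π t w - w = 0 := by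
      refine eq_zero_of_sum h hRW hRN hlR ((wt π N W l).sub_mem h1 hw) ?_
      simp only [map_sub, Finset.sum_sub_distrib]
      have h3 : ∑ a : R, π (a : G) (π t w) = π t (∑ a : R, π (a : G) w) := by
        rw [map_sum]
        refine Finset.sum_congr rfl fun a _ => ?_
        rw [← mul_apply', ← mul_apply', h.hTR t ht a a.2]
      rw [h3, hT _ (sum_fixed w) t ht, sub_self]
    exact sub_eq_zero.mp h2
  have hle : wt π N W l ≤ fix π Q := by
    refine le_fix_of_trivial h (fun x hx w hw => ?_) htriv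
    exact apply_mem_wt_of_comm (hQW x hx) (fun n hn v hv => hc n hn x hx v hv) hw
  rw [hQ0, le_bot_iff] at hle
  exact hl hle

end Cfsg.Agent.H575.FTop
end
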