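import Cfsg.Agent.H575.KLCore
import Cfsg.Agent.H575.GroupM
import Cfsg.Agent.H575.ExtraFix_mg
import Cfsg.Agent.H575.FTop
set_option linter.all false

-- part: H575/BC
section
/-!
# Transfer to the algebraic closure
-/

set_option autoImplicit false
set_option linter.unusedSectionVars false
set_option linter.unusedVariables false

namespace Cfsg.Agent.H575.BC

open Module Subgroup TensorProduct Cfsg.Agent.H575.Dim Cfsg.Agent.H575.Weights
  Cfsg.Agent.H575.Sect Cfsg.Agent.H575.Fix Cfsg.Agent.H575.KL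

section Rep

variable {k : Type*} [Field k] {G V : Type*} [Group G] [Finite G]
  [AddCommGroup V] [Module k V] [FiniteDimensional k V]

/-- base change of a representation to the algebraic closure -/
noncomputable def bc (ρ : Representation k G V) :
    Representation (AlgebraicClosure k) G (TensorProduct k (AlgebraicClosure k) V) where
  toFun := fun g => (ρ g).baseChange (AlgebraicClosure k)
  map_one' := by
    rw [map_one]
    exact LinearMap.baseChange_id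
  map_mul' := by
    intro a b
    rw [map_mul]
    exact LinearMap.baseChange_comp _ _

theorem bc_apply (ρ : Representation k G V) (g : G) :
    bc ρ g = (ρ g).baseChange (AlgebraicClosure k) := rfl

theorem cast_ne_zero {n : ℕ} (hn : (n : k) ≠ 0) : (n : AlgebraicClosure k) ≠ 0 := by
  intro h0
  apply hn
  have : algebraMap k (AlgebraicClosure k) (n : k) = 0 := by
    rw [map_natCast]
    exact h0
  exact (map_eq_zero _).mp this

theorem bc_eq_one {ρ : Representation k G V} {g : G} (h : bc ρ g = 1) : ρ g = 1 := by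
  apply LinearMap.ext
  intro v
  have h1 : bc ρ g (1 ⊗ₜ[k] v) = 1 ⊗ₜ[k] v := by rw [h]; rfl
  rw [bc_apply, LinearMap.baseChange_tmul] at h1
  exact Module.FaithfullyFlat.tensorProduct_mk_injective (A := k) (B := AlgebraicClosure k) V h1

theorem bc_sum (ρ : Representation k G V) (K : Subgroup G) [Fintype K]
    (w : TensorProduct k (AlgebraicClosure k) V) :
    ∑ h : K, bc ρ h w = (∑ h : K, ρ h).baseChange (AlgebraicClosure k) w := by
  have : ∑ h : K, bc ρ h = (∑ h : K, ρ h).baseChange (AlgebraicClosure k) := by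
    simp only [bc_apply]
    exact (map_sum (LinearMap.baseChangeHom k (AlgebraicClosure k) V V) _ _).symm
  rw [← this, LinearMap.sum_apply]

theorem sum_fix {F : Type*} [Field F] {U : Type*} [AddCommGroup U] [Module F U]
    (ρ : Representation F G U) (K : Subgroup G) [Fintype K] (v : U) : ∀ g ∈ K,
      ρ g ((∑ h : K, ρ h) v) = (∑ h : K, ρ h) v := by
  intro g hg
  rw [LinearMap.sum_apply, map_sum]
  refine Fintype.sum_bijective (fun y => ⟨g, hg⟩ * y) (Group.mulLeft_bijective _) _ _ fun y => ?_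
  rw [← mul_apply']
  rfl

theorem fix_sum {F : Type*} [Field F] {U : Type*} [AddCommGroup U] [Module F U]
    (ρ : Representation F G U) (K : Subgroup G) [Fintype K] (w : U) (hw : ∀ h ∈ K, ρ h w = w) :
    ∑ h : K, ρ h w = (Nat.card K : F) • w := by
  rw [Nat.card_eq_fintype_card, Nat.cast_smul_eq_nsmul, ← Finset.card_univ, ← Finset.sum_const]
  exact Finset.sum_congr rfl fun h _ => hw h h.2

/-- triviality on fixed points -/
theorem bc_fix {ρ : Representation k G V} {R : Subgroup G} {t : G} (hR : (Nat.card R : k) ≠ 0)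
    (h : ∀ v, (∀ a ∈ R, ρ a v = v) → ρ t v = v) :
    ∀ w, (∀ a ∈ R, bc ρ a w = w) → bc ρ t w = w := by
  have : Fintype R := Fintype.ofFinite R
  intro w hw
  have h1 := fix_sum (bc ρ) R w hw
  have h2 : (ρ t) ∘ₗ (∑ h : R, ρ h) = ∑ h : R, ρ h := by
    apply LinearMap.ext
    intro v
    rw [LinearMap.comp_apply]
    exact h _ (sum_fix ρ R v)
  have h3 : bc ρ t (∑ h : R, bc ρ h w) = ∑ h : R, bc ρ h w := by
    rw [bc_sum ρ R w, bc_apply, ← LinearMap.comp_apply, ← LinearMap.baseChange_comp, h2]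
  rw [h1, map_smul] at h3
  have h4 := congrArg (fun u => (Nat.card R : AlgebraicClosure k)⁻¹ • u) h3
  simp only [smul_smul] at h4
  rwa [inv_mul_cancel₀ (cast_ne_zero hR), one_smul, one_smul] at h4

theorem bc_bot {ρ : Representation k G V} {R : Subgroup G} (hR : (Nat.card R : k) ≠ 0)
    (h : ∀ v, (∀ a ∈ R, ρ a v = v) → v = 0) : fix (bc ρ) R = ⊥ := by
  have : Fintype R := Fintype.ofFinite R
  rw [eq_bot_iff]
  intro w hw
  rw [Submodule.mem_bot]
  have h1 := fix_sum (bc ρ) R w hw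
  have h2 : (∑ h : R, ρ h) = 0 := by
    apply LinearMap.ext
    intro v
    rw [LinearMap.zero_apply]
    exact h _ (sum_fix ρ R v)
  rw [bc_sum ρ R w, h2, LinearMap.baseChange_zero, LinearMap.zero_apply] at h1
  exact (smul_eq_zero.mp h1.symm).resolve_left (cast_ne_zero hR)

theorem sum_br {F : Type*} [Field F] {U : Type*} [AddCommGroup U] [Module F U]
    (ρ : Representation F G U) (B : Subgroup G) [Fintype B] {w : U} (hw : w ∈ br ρ B) :
    ∑ h : B, ρ h w = 0 := by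
  have hle : br ρ B ≤ LinearMap.ker (∑ h : B, ρ (h : G)) := by
    refine Submodule.span_le.mpr ?_
    rintro _ ⟨b, hb, u, rfl⟩
    rw [SetLike.mem_coe, LinearMap.mem_ker, map_sub, sub_eq_zero, LinearMap.sum_apply,
      LinearMap.sum_apply]
    refine Fintype.sum_bijective (fun y => y * ⟨b, hb⟩) (Group.mulRight_bijective _) _ _ fun y => ?_
    rw [← mul_apply']
    rfl
  have h1 := hle hw
  rwa [LinearMap.mem_ker, LinearMap.sum_apply] at h1

theorem sub_sum_mem_br {F : Type*} [Field F] {U : Type*} [AddCommGroup U] [Module F U]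
    (ρ : Representation F G U) (B : Subgroup G) [Fintype B] (v : U) :
    (∑ h : B, (ρ h v - v)) ∈ br ρ B :=
  Submodule.sum_mem _ fun h _ => Submodule.subset_span ⟨h, h.2, v, rfl⟩

/-- invisibility passes to the algebraic closure -/
theorem bc_inv {ρ : Representation k G V} {B R : Subgroup G} {x : G}
    (hB : (Nat.card B : k) ≠ 0) (hR : (Nat.card R : k) ≠ 0)
    (hRB : R ≤ normalizer (B : Set G)) (h : Inv ρ B R x) : Inv (bc ρ) B R x := by
  classical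
  have : Fintype R := Fintype.ofFinite R
  have : Fintype B := Fintype.ofFinite B
  intro w hw hwR
  -- the operator
  let T : Module.End k V := (∑ a : R, ρ a) ∘ₗ (∑ b : B, (ρ b - 1))
  have hT : (ρ x) ∘ₗ T = T := by
    apply LinearMap.ext
    intro v
    rw [LinearMap.comp_apply]
    have hv : (∑ b : B, (ρ (b : G) - 1)) v ∈ br ρ B := by
      rw [LinearMap.sum_apply]
      exact sub_sum_mem_br ρ B v
    refine h _ ?_ (sum_fix ρ R _)
    show (∑ a : R, ρ a) ((∑ b : B, (ρ (b : G) - 1)) v) ∈ br ρ B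
    rw [LinearMap.sum_apply]
    exact Submodule.sum_mem _ fun a _ => pres_br hRB a a.2 _ hv
  have hTw : T.baseChange (AlgebraicClosure k) w =
      -((Nat.card B : AlgebraicClosure k) * Nat.card R) • w := by
    have h1 : (∑ b : B, (ρ (b : G) - 1)).baseChange (AlgebraicClosure k) w =
        -(Nat.card B : AlgebraicClosure k) • w := by
      have h2 : (∑ b : B, (ρ (b : G) - 1)) = (∑ b : B, ρ (b : G)) - (Fintype.card B : k) • 1 := by
        rw [Finset.sum_sub_distrib, Finset.sum_const, Finset.card_univ, Nat.cast_smul_eq_nsmul]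
      have h5 : ((Fintype.card B : k) • (1 : Module.End k V)).baseChange
          (AlgebraicClosure k) w = (Nat.card B : AlgebraicClosure k) • w := by
        rw [LinearMap.baseChange_smul, LinearMap.smul_apply, Nat.card_eq_fintype_card,
          Nat.cast_smul_eq_nsmul, Nat.cast_smul_eq_nsmul]
        congr 1
        exact congrArg (fun f => f w) (LinearMap.baseChange_id (R := k)
          (A := AlgebraicClosure k) (M := V))
      rw [h2, LinearMap.baseChange_sub, LinearMap.sub_apply, ← bc_sum, sum_br (bc ρ) B hw,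
        h5, zero_sub]
      exact (neg_smul _ _).symm
    show ((∑ a : R, ρ (a : G)) ∘ₗ (∑ b : B, (ρ (b : G) - 1))).baseChange
      (AlgebraicClosure k) w = _
    rw [LinearMap.baseChange_comp, LinearMap.comp_apply, h1, map_smul, ← bc_sum,
      fix_sum (bc ρ) R w hwR, smul_smul]
    congr 1
    ring
  have h3 : bc ρ x (T.baseChange (AlgebraicClosure k) w) =
      T.baseChange (AlgebraicClosure k) w := by
    rw [bc_apply, ← LinearMap.comp_apply, ← LinearMap.baseChange_comp, hT]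
  rw [hTw, map_smul] at h3
  have hne : -((Nat.card B : AlgebraicClosure k) * Nat.card R) ≠ 0 :=
    neg_ne_zero.mpr (mul_ne_zero (cast_ne_zero hB) (cast_ne_zero hR))
  exact smul_right_injective _ hne h3

end Rep

end Cfsg.Agent.H575.BC
end

-- part: H575/BCM
section
/-!
# The representation attached to an elementary abelian group
-/

set_option autoImplicit false
set_option linter.unusedSectionVars false
set_option linter.unusedVariables false

namespace Cfsg.Agent.H575.BC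

open Module Subgroup TensorProduct Cfsg.Agent.H575.Dim Cfsg.Agent.H575.Weights
  Cfsg.Agent.H575.Sect Cfsg.Agent.H575.Fix Cfsg.Agent.H575.KL

/-- `[M, B]` -/
def brm {M : Type*} [CommGroup M] (B : Subgroup (MulAut M)) : Subgroup M :=
  Subgroup.closure {w | ∃ b ∈ B, ∃ u : M, w = b u * u⁻¹}

theorem zmod_ne_zero {p n : ℕ} [hp : Fact p.Prime] (hn : ¬ p ∣ n) : (n : ZMod p) ≠ 0 := by
  rw [Ne, ZMod.natCast_eq_zero_iff]
  exact hn

theorem cl_ne_zero {p n : ℕ} [hp : Fact p.Prime] (hn : ¬ p ∣ n) :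
    (n : AlgebraicClosure (ZMod p)) ≠ 0 := cast_ne_zero (zmod_ne_zero hn)

universe u

theorem exists_rep {M : Type u} [CommGroup M] [Finite M] {p : ℕ} [hp : Fact p.Prime]
    (hM : ∀ m : M, m ^ p = 1) :
    ∃ (V : Type u) (_ : AddCommGroup V) (_ : Module (AlgebraicClosure (ZMod p)) V)
      (_ : FiniteDimensional (AlgebraicClosure (ZMod p)) V)
      (π : Representation (AlgebraicClosure (ZMod p)) (MulAut M) V),
      (∀ g, π g = 1 → g = 1) ∧ (Nontrivial M → Nontrivial V) ∧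
      (∀ (R : Subgroup (MulAut M)) (t : MulAut M), ¬ p ∣ Nat.card R →
        (∀ m : M, (∀ a ∈ R, a m = m) → t m = m) → ∀ v, (∀ a ∈ R, π a v = v) → π t v = v) ∧
      (∀ R : Subgroup (MulAut M), ¬ p ∣ Nat.card R →
        (∀ m : M, (∀ a ∈ R, a m = m) → m = 1) → fix π R = ⊥) ∧
      (∀ (B R : Subgroup (MulAut M)) (x : MulAut M), ¬ p ∣ Nat.card B → ¬ p ∣ Nat.card R →
        R ≤ normalizer (B : Set (MulAut M)) →
        (∀ m ∈ brm B, (∀ a ∈ R, a m = m) → x m = m) → Inv π B R x) := by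
  have instM : Module (ZMod p) (Additive M) := AddCommGroup.zmodModule (n := p) (by
    intro x
    exact congrArg Additive.ofMul (hM x.toMul))
  have hfin : FiniteDimensional (ZMod p) (Additive M) := inferInstance
  let ρ : Representation (ZMod p) (MulAut M) (Additive M) :=
    OddOrderLocal.FrobAct.toRep p (MonoidHom.id (MulAut M))
  have hρ : ∀ (g : MulAut M) (m : M), ρ g (Additive.ofMul m) = Additive.ofMul (g m) :=
    fun g m => rfl
  refine ⟨TensorProduct (ZMod p) (AlgebraicClosure (ZMod p)) (Additive M), inferInstance,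
    inferInstance, inferInstance, bc ρ, ?_, ?_, ?_, ?_, ?_⟩
  · intro g hg
    have h1 := bc_eq_one hg
    ext m
    have h2 := hρ g m
    rw [h1] at h2
    exact (Additive.ofMul.injective h2).symm
  · intro hnt
    have h1 : finrank (AlgebraicClosure (ZMod p))
        (TensorProduct (ZMod p) (AlgebraicClosure (ZMod p)) (Additive M)) =
        finrank (ZMod p) (Additive M) := Module.finrank_baseChange
    have hnt' : Nontrivial (Additive M) := hnt
    have h2 : 0 < finrank (ZMod p) (Additive M) := finrank_pos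
    exact Module.nontrivial_of_finrank_pos (R := AlgebraicClosure (ZMod p)) (by rw [h1]; exact h2)
  · intro R t hR h
    refine bc_fix (zmod_ne_zero hR) fun v hv => ?_
    have h1 := h v.toMul fun a ha => Additive.ofMul.injective (hv a ha)
    exact congrArg Additive.ofMul h1
  · intro R hR h
    refine bc_bot (zmod_ne_zero hR) fun v hv => ?_
    have h1 := h v.toMul fun a ha => Additive.ofMul.injective (hv a ha)
    exact congrArg Additive.ofMul h1
  · intro B R x hB hR hRB h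
    refine bc_inv (zmod_ne_zero hB) (zmod_ne_zero hR) hRB ?_
    intro v hv hvR
    have hmem : ∀ v ∈ br ρ B, (Additive.toMul v) ∈ brm B := by
      intro v hv
      induction hv using Submodule.span_induction with
      | mem x hx =>
        obtain ⟨b, hb, u, rfl⟩ := hx
        exact Subgroup.subset_closure ⟨b, hb, u.toMul, by
          rw [toMul_sub, div_eq_mul_inv]
          rfl⟩
      | zero => exact (brm B).one_mem
      | add x y _ _ hx hy => exact (brm B).mul_mem hx hy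
      | smul c x _ hx =>
        have h1 : c • x = c.val • x := by
          conv_lhs => rw [← ZMod.natCast_zmod_val c]
          rw [Nat.cast_smul_eq_nsmul]
        rw [h1, toMul_nsmul]
        exact (brm B).pow_mem hx _
    have h1 := h v.toMul (hmem v hv) fun a ha => Additive.ofMul.injective (hvR a ha)
    exact congrArg Additive.ofMul h1

end Cfsg.Agent.H575.BC
end

-- part: H813/TurullTwo
section
/-!
# A commuting action on an extraspecial 2-group of order `2 (r - 1)²` (helper813, for helper575's S4363)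

* `card_sq_ne` : the number of elements `x` with `x² ≠ 1` of a 2-group `F` of class two with centre of order two;
* `f2_core`.
-/

set_option autoImplicit false

namespace Cfsg.Agent.H813.TurullTwo

open Subgroup Cfsg.Agent.H575.ExtraIrr
open scoped commutatorElement

section Gauss

variable {F : Type*} [Group F] [Finite F]

/-- the number of elements of order four -/
theorem card_sq_ne (hZ : Nat.card (center F) = 2) (hab : ∀ x y : F, x * y * x⁻¹ * y⁻¹ ∈ center F) {c : ℕ}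
    (hc : Nat.card (F ⧸ center F) = c ^ 2) :
    Nat.card {x : F // x * x ≠ 1} = c * (c + 1) ∨ Nat.card {x : F // x * x ≠ 1} + c = c * c := by
  classical
  have : Fintype F := Fintype.ofFinite F
  -- central elements
  have hz2 : ∀ z ∈ center F, z * z = 1 := by
    intro z hz
    have h1 : (⟨z, hz⟩ : center F) ^ Nat.card (center F) = 1 := pow_card_eq_one'
    rw [hZ, pow_two] at h1
    exact congrArg Subtype.val h1
  have huniq : ∀ z ∈ center F, ∀ w ∈ center F, z ≠ 1 → w ≠ 1 → z = w := by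
    intro z hz w hw hz1 hw1
    have h1 := Nat.card_eq_two_iff' (1 : center F)
    obtain ⟨y, -, hy⟩ := h1.1 hZ
    have h2 := hy ⟨z, hz⟩ (fun h => hz1 (congrArg Subtype.val h))
    have h3 := hy ⟨w, hw⟩ (fun h => hw1 (congrArg Subtype.val h))
    exact congrArg Subtype.val (h2.trans h3.symm)
  let χ : F → ℤ := fun z => if z = 1 then 1 else -1
  have hχ : ∀ z ∈ center F, ∀ w ∈ center F, χ (z * w) = χ z * χ w := by
    intro z hz w hw
    by_cases h1 : z = 1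
    · subst h1; simp [χ]
    by_cases h2 : w = 1
    · subst h2; simp [χ]
    have h3 := huniq z hz w hw h1 h2
    subst h3
    rw [hz2 z hz]
    simp [χ, h1]
  -- squares are central
  have hcomm : ∀ x y : F, x * y = (x * y * x⁻¹ * y⁻¹) * (y * x) := fun x y => by group
  have hsq : ∀ x : F, x * x ∈ center F := by
    intro x
    rw [mem_center_iff]
    intro y
    obtain ⟨z, hz⟩ : ∃ z, z = y * x * y⁻¹ * x⁻¹ := ⟨_, rfl⟩
    have hzc : z ∈ center F := hz ▸ hab y x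
    have h1 : y * x = z * (x * y) := by rw [hz]; group
    have h2 : x * z = z * x := mem_center_iff.1 hzc x
    calc y * (x * x) = (y * x) * x := by group
      _ = z * (x * y) * x := by rw [h1]
      _ = z * x * (y * x) := by group
      _ = z * x * (z * (x * y)) := by rw [h1]
      _ = z * (x * z) * (x * y) := by group
      _ = (z * z) * (x * x * y) := by rw [h2]; group
      _ = x * x * y := by rw [hz2 z hzc, one_mul]
  have hinv : ∀ x y : F, y⁻¹ * x⁻¹ * y * x ∈ center F := by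
    intro x y
    have := hab y⁻¹ x⁻¹
    rwa [inv_inv, inv_inv] at this
  obtain ⟨θ, hθd⟩ : ∃ θ : F → ℤ, ∀ x, θ x = χ (x * x) := ⟨_, fun _ => rfl⟩
  obtain ⟨β, hβd⟩ : ∃ β : F → F → ℤ, ∀ x y, β x y = χ (y⁻¹ * x⁻¹ * y * x) := ⟨_, fun _ _ => rfl⟩
  have hθ : ∀ x y, θ (x * y) = θ x * θ y * β x y := by
    intro x y
    have h1 : (x * y) * (x * y) = (x * x) * (y * y) * (y⁻¹ * x⁻¹ * y * x) := by
      have h3 : y * (y⁻¹ * x⁻¹ * y * x) = (y⁻¹ * x⁻¹ * y * x) * y := mem_center_iff.1 (hinv x y) y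
      have h4 : x * x * (y * y) * (y⁻¹ * x⁻¹ * y * x) = x * x * y * (y * (y⁻¹ * x⁻¹ * y * x)) := by group
      have h5 : x * x * y * ((y⁻¹ * x⁻¹ * y * x) * y) = x * y * (x * y) := by group
      rw [h4, h3, h5]
    rw [hθd, h1, hχ _ (mul_mem (hsq x) (hsq y)) _ (hinv x y), hχ _ (hsq x) _ (hsq y), hθd, hθd, hβd]
  have hθ2 : ∀ x, θ x * θ x = 1 := by
    intro x
    rw [hθd]
    by_cases h : x * x = 1 <;> simp [χ, h]
  have hβ : ∀ x x' y, β (x * x') y = β x y * β x' y := by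
    intro x x' y
    have h1 : y⁻¹ * (x * x')⁻¹ * y * (x * x') = (y⁻¹ * x⁻¹ * y * x) * (y⁻¹ * x'⁻¹ * y * x') := by
      have h3 : (y⁻¹ * x'⁻¹ * y) * (y⁻¹ * x⁻¹ * y * x) = (y⁻¹ * x⁻¹ * y * x) * (y⁻¹ * x'⁻¹ * y) :=
        mem_center_iff.1 (hinv x y) _
      calc y⁻¹ * (x * x')⁻¹ * y * (x * x') = ((y⁻¹ * x'⁻¹ * y) * (y⁻¹ * x⁻¹ * y * x)) * x' := by group
        _ = (y⁻¹ * x⁻¹ * y * x) * (y⁻¹ * x'⁻¹ * y * x') := by rw [h3]; group
    rw [hβd, h1, hχ _ (hinv x y) _ (hinv x' y), hβd, hβd]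
  have hsum : ∀ y, ∑ x, β x y = if y ∈ center F then (Fintype.card F : ℤ) else 0 := by
    intro y
    split_ifs with hy
    · have h1 : ∀ x, β x y = 1 := by
        intro x
        have h2 : y⁻¹ * x⁻¹ * y * x = 1 := by
          have h3 : x⁻¹ * y = y * x⁻¹ := mem_center_iff.1 hy x⁻¹
          calc y⁻¹ * x⁻¹ * y * x = y⁻¹ * (x⁻¹ * y) * x := by group
            _ = 1 := by rw [h3]; group
        rw [hβd, h2]
        simp [χ]
      rw [Finset.sum_congr rfl fun x _ => h1 x, Finset.sum_const, Finset.card_univ, nsmul_eq_mul, mul_one]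
    · rw [mem_center_iff] at hy
      push Not at hy
      obtain ⟨x0, hx0⟩ := hy
      have h1 : β x0 y = -1 := by
        have h2 : y⁻¹ * x0⁻¹ * y * x0 ≠ 1 := by
          intro h3
          apply hx0
          calc x0 * y = x0 * y * (y⁻¹ * x0⁻¹ * y * x0) := by rw [h3, mul_one]
            _ = y * x0 := by group
        rw [hβd]
        simp [χ, h2]
      have h2 : ∑ x, β (x0 * x) y = ∑ x, β x y :=
        Fintype.sum_equiv (Equiv.mulLeft x0) _ _ fun x => rfl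
      have h3 : ∑ x, β (x0 * x) y = -∑ x, β x y := by
        rw [← Finset.sum_neg_distrib]
        exact Finset.sum_congr rfl fun x _ => by rw [hβ, h1]; ring
      linarith
  -- the square of the Gauss sum
  obtain ⟨S, hS⟩ : ∃ S : ℤ, S = ∑ x, θ x := ⟨_, rfl⟩
  have hcF : (Fintype.card F : ℤ) = 2 * (c : ℤ) ^ 2 := by
    have h1 := card_eq_card_quotient_mul_card_subgroup (center F)
    rw [hc, hZ, Nat.card_eq_fintype_card] at h1
    rw [h1]; push_cast; ring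
  have hS2 : S * S = (2 * c) * (2 * c) := by
    calc S * S = ∑ x, ∑ y, θ x * θ y := by rw [hS, Finset.sum_mul_sum]
      _ = ∑ x, ∑ y, θ x * θ (x * y) := by
          refine Finset.sum_congr rfl fun x _ => ?_
          exact (Fintype.sum_equiv (Equiv.mulLeft x) _ _ fun y => rfl).symm
      _ = ∑ x, ∑ y, θ y * β x y := by
          refine Finset.sum_congr rfl fun x _ => Finset.sum_congr rfl fun y _ => ?_
          rw [hθ, ← mul_assoc, ← mul_assoc, hθ2, one_mul]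
      _ = ∑ y, θ y * ∑ x, β x y := by
          rw [Finset.sum_comm]
          exact Finset.sum_congr rfl fun y _ => by rw [Finset.mul_sum]
      _ = ∑ y, if y ∈ center F then (Fintype.card F : ℤ) else 0 := by
          refine Finset.sum_congr rfl fun y _ => ?_
          rw [hsum]
          split_ifs with hy
          · rw [hθd, hz2 y hy]; simp [χ]
          · rw [mul_zero]
      _ = (2 * c) * (2 * c) := by
          rw [← Finset.sum_filter, Finset.sum_const, nsmul_eq_mul, hcF]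
          have h1 : (Finset.univ.filter fun y => y ∈ center F).card = 2 := by
            rw [← hZ, Nat.card_eq_fintype_card, Fintype.card_subtype]
          rw [h1]; push_cast; ring
  -- the count
  have hN : 2 * (Nat.card {x : F // x * x ≠ 1} : ℤ) = 2 * (c : ℤ) ^ 2 - S := by
    have h1 : ∀ x, θ x = 1 - 2 * (if x * x ≠ 1 then 1 else 0) := by
      intro x
      rw [hθd]
      by_cases h : x * x = 1 <;> simp [χ, h]
    have h2 : S = (Fintype.card F : ℤ) - 2 * (Nat.card {x : F // x * x ≠ 1} : ℤ) := by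
      rw [hS, Finset.sum_congr rfl fun x _ => h1 x, Finset.sum_sub_distrib, Finset.sum_const, Finset.card_univ,
        nsmul_eq_mul, mul_one, ← Finset.mul_sum, Finset.sum_boole, Nat.card_eq_fintype_card, Fintype.card_subtype]
    rw [h2, hcF]; ring
  rcases mul_self_eq_mul_self_iff.1 hS2 with h | h
  · right
    rw [h] at hN
    zify
    nlinarith
  · left
    rw [h] at hN
    zify
    nlinarith

end Gauss

section Main

variable {G : Type*} [Group G] [Finite G]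

/-- fixed points of a `p`-group acting by conjugation on a set -/
theorem modEq_conj {p : ℕ} [Fact p.Prime] {P : Subgroup G} (hP : IsPGroup p P) (s : Set G)
    (hs : ∀ a ∈ P, ∀ x ∈ s, a * x * a⁻¹ ∈ s) :
    Nat.card s ≡ Nat.card {x : G | x ∈ s ∧ ∀ a ∈ P, a * x = x * a} [MOD p] := by
  let act : MulAction P s :=
    { smul := fun a x => ⟨a * x * (a : G)⁻¹, hs a a.2 x x.2⟩
      one_smul := fun x => Subtype.ext (by
        show ((1 : P) : G) * x * ((1 : P) : G)⁻¹ = x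
        simp)
      mul_smul := fun a b x => Subtype.ext (by
        show ((a * b : P) : G) * x * ((a * b : P) : G)⁻¹ = a * (b * x * (b : G)⁻¹) * (a : G)⁻¹
        rw [Subgroup.coe_mul]
        group) }
  have h1 := hP.card_modEq_card_fixedPoints s
  have h2 : Nat.card (MulAction.fixedPoints P s) = Nat.card {x : G | x ∈ s ∧ ∀ a ∈ P, a * x = x * a} := by
    refine Nat.card_congr
      { toFun := fun x => ⟨(x : s), (x : s).2, fun a ha => ?_⟩
        invFun := fun x => ⟨⟨x, x.2.1⟩, fun a => Subtype.ext ?_⟩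
        left_inv := fun x => rfl
        right_inv := fun x => rfl }
    · have h3 := congrArg Subtype.val (x.2 ⟨a, ha⟩)
      have h4 : a * ((x : s) : G) * a⁻¹ = ((x : s) : G) := h3
      exact mul_inv_eq_iff_eq_mul.1 h4
    · show (a : G) * x * (a : G)⁻¹ = x
      rw [x.2.2 a a.2, mul_inv_cancel_right]
  rw [h2] at h1
  exact h1

variable {F R : Subgroup G} {r : ℕ}

theorem f2_core (h : ED F R r 2)
    (hcard : Nat.card (F ⧸ center F) = (r - 1) ^ 2) (T : Subgroup G)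
    (hTF : T ≤ normalizer (F : Set G)) (hTR : ∀ t ∈ T, ∀ a ∈ R, t * a = a * t)
    (hTr : ¬ r ∣ Nat.card T) (hT2 : ¬ 2 ∣ Nat.card T)
    (hTZ : ∀ t ∈ T, ∀ z ∈ (center F).map F.subtype, t * z = z * t) :
    ∀ t ∈ T, ∀ f ∈ F, ⁅t, f⁆ ∈ (center F).map F.subtype := by
  obtain ⟨Z, hZd⟩ : ∃ Z, Z = (center F).map F.subtype := ⟨_, rfl⟩
  rw [← hZd] at hTZ ⊢
  have hZF : Z ≤ F := hZd ▸ map_subtype_le _
  have hmemZ : ∀ x : G, x ∈ Z ↔ ∃ hx : x ∈ F, ∀ y ∈ F, y * x = x * y := by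
    intro x
    rw [hZd]
    constructor
    · rintro ⟨z, hz, rfl⟩
      refine ⟨z.2, fun y hy => ?_⟩
      exact congrArg Subtype.val (mem_center_iff.1 hz ⟨y, hy⟩)
    · rintro ⟨hx, h1⟩
      exact ⟨⟨x, hx⟩, mem_center_iff.2 fun y => Subtype.ext (h1 y y.2), rfl⟩
  have hcZ : Nat.card Z = 2 := by
    rw [hZd, card_map_of_injective F.subtype_injective, h.hZ]
  have hNZ : ∀ g, g ∈ normalizer (F : Set G) → ∀ z ∈ Z, g * z * g⁻¹ ∈ Z := by
    intro g hg z hz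
    rw [hmemZ] at hz ⊢
    obtain ⟨hzF, hz⟩ := hz
    refine ⟨(mem_normalizer_iff.1 hg z).1 hzF, fun y hy => ?_⟩
    have h1 : g⁻¹ * y * g ∈ F := by
      rw [mem_normalizer_iff.1 hg, show g * (g⁻¹ * y * g) * g⁻¹ = y by group]
      exact hy
    have h2 := hz _ h1
    calc y * (g * z * g⁻¹) = g * ((g⁻¹ * y * g) * z) * g⁻¹ := by group
      _ = g * (z * (g⁻¹ * y * g)) * g⁻¹ := by rw [h2]
      _ = g * z * g⁻¹ * y := by group
  have hFN : F ≤ normalizer (F : Set G) := le_normalizer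
  have hsqZ : ∀ z ∈ Z, z * z = 1 := by
    intro z hz
    have h1 : (⟨z, hz⟩ : Z) ^ Nat.card Z = 1 := pow_card_eq_one'
    rw [hcZ, pow_two] at h1
    exact congrArg Subtype.val h1
  have huniq : ∀ z ∈ Z, ∀ w ∈ Z, z ≠ 1 → w ≠ 1 → z = w := by
    intro z hz w hw hz1 hw1
    obtain ⟨y, -, hy⟩ := (Nat.card_eq_two_iff' (1 : Z)).1 hcZ
    have h2 := hy ⟨z, hz⟩ (fun h => hz1 (congrArg Subtype.val h))
    have h3 := hy ⟨w, hw⟩ (fun h => hw1 (congrArg Subtype.val h))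
    exact congrArg Subtype.val (h2.trans h3.symm)
  -- the centralizer of `R`
  have hRZ : ∀ x : G, (x ∈ F ∧ ∀ a ∈ R, a * x = x * a) ↔ x ∈ Z := by
    intro x
    constructor
    · rintro ⟨hx, h1⟩
      rw [hZd]
      exact h.hCF ⟨hx, mem_centralizer_iff.2 fun a ha => h1 a ha⟩
    · intro hx
      refine ⟨hZF hx, fun a ha => ?_⟩
      by_cases hx1 : x = 1
      · rw [hx1, mul_one, one_mul]
      · have h1 := hNZ a (h.hRF ha) x hx
        have h2 : a * x * a⁻¹ ≠ 1 := by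
          intro h3
          apply hx1
          rw [mul_inv_eq_one] at h3
          exact mul_eq_left.1 h3
        exact mul_inv_eq_iff_eq_mul.1 (huniq _ h1 _ hx h2 hx1)
  -- the arithmetic of `r`
  have hr2 := h.hr.two_le
  obtain ⟨k, hk⟩ := h.hF.exists_card_eq
  have hcF : Nat.card F = 2 * (r - 1) ^ 2 := by
    have h1 := card_eq_card_quotient_mul_card_subgroup (center F)
    rw [hcard, h.hZ] at h1
    rw [h1, mul_comm]
  obtain ⟨m, hm⟩ : ∃ m, r = 2 ^ m + 1 := by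
    have h1 : r - 1 ∣ 2 ^ k := by
      rw [← hk, hcF]
      exact (dvd_pow_self _ (by norm_num)).mul_left 2
    obtain ⟨m, -, hm⟩ := (Nat.dvd_prime_pow Nat.prime_two).1 h1
    exact ⟨m, by omega⟩
  have hm1 : 1 ≤ m := by
    rcases Nat.eq_zero_or_pos m with h0 | h0
    · exfalso
      rw [h0] at hm
      exact h.hrs hm
    · exact h0
  let D : Subgroup G :=
    { carrier := {t | t ∈ T ∧ ∀ f ∈ F, ⁅t, f⁆ ∈ Z}
      one_mem' := ⟨T.one_mem, fun f _ => by rw [commutatorElement_one_left]; exact Z.one_mem⟩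
      mul_mem' := by
        rintro s t ⟨hs, hs'⟩ ⟨ht, ht'⟩
        refine ⟨T.mul_mem hs ht, fun f hf => ?_⟩
        have h1 : ⁅s * t, f⁆ = (s * ⁅t, f⁆ * s⁻¹) * ⁅s, f⁆ := by
          rw [commutatorElement_def, commutatorElement_def, commutatorElement_def]; group
        rw [h1]
        exact Z.mul_mem (hNZ s (hTF hs) _ (ht' f hf)) (hs' f hf)
      inv_mem' := by
        rintro t ⟨ht, ht'⟩
        refine ⟨T.inv_mem ht, fun f hf => ?_⟩
        have h1 : ⁅t⁻¹, f⁆ = t⁻¹ * ⁅t, f⁆⁻¹ * t⁻¹⁻¹ := by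
          rw [commutatorElement_def, commutatorElement_def]; group
        rw [h1]
        exact hNZ _ (hTF (T.inv_mem ht)) _ (Z.inv_mem (ht' f hf)) }
  suffices hTD : T ≤ D by
    intro t ht f hf
    exact (hTD ht).2 f hf
  by_contra hTD
  have hidx : D.relIndex T ≠ 1 := fun h1 => hTD (relIndex_eq_one.1 h1)
  obtain ⟨n, hn, hnd⟩ := Nat.exists_prime_and_dvd hidx
  have hnf : Fact n.Prime := ⟨hn⟩
  have hnT : n ∣ Nat.card T := hnd.trans (D.relIndex_dvd_card T)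
  obtain ⟨P⟩ : Nonempty (Sylow n T) := inferInstance
  obtain ⟨Pg, hPg⟩ : ∃ Pg : Subgroup G, Pg = (P : Subgroup T).map T.subtype := ⟨_, rfl⟩
  have hPT : Pg ≤ T := hPg ▸ map_subtype_le _
  have hPp : IsPGroup n Pg := hPg ▸ P.isPGroup'.map _
  have hPD : ¬ Pg ≤ D := by
    intro h1
    have h2 : (P : Subgroup T) ≤ D.subgroupOf T := by
      intro x hx
      exact h1 (hPg ▸ mem_map_of_mem T.subtype hx)
    exact P.not_dvd_index (hnd.trans (index_dvd_of_le h2))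
  let K : Subgroup G :=
    { carrier := {f | f ∈ F ∧ ∀ t ∈ Pg, ⁅t, f⁆ ∈ Z}
      one_mem' := ⟨F.one_mem, fun t _ => by rw [commutatorElement_one_right]; exact Z.one_mem⟩
      mul_mem' := by
        rintro f g ⟨hf, hf'⟩ ⟨hg, hg'⟩
        refine ⟨F.mul_mem hf hg, fun t ht => ?_⟩
        have h1 : ⁅t, f * g⁆ = ⁅t, f⁆ * (f * ⁅t, g⁆ * f⁻¹) := by
          rw [commutatorElement_def, commutatorElement_def, commutatorElement_def]; group
        rw [h1]
        exact Z.mul_mem (hf' t ht) (hNZ f (hFN hf) _ (hg' t ht))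
      inv_mem' := by
        rintro f ⟨hf, hf'⟩
        refine ⟨F.inv_mem hf, fun t ht => ?_⟩
        have h1 : ⁅t, f⁻¹⁆ = f⁻¹ * ⁅t, f⁆⁻¹ * f⁻¹⁻¹ := by
          rw [commutatorElement_def, commutatorElement_def]; group
        rw [h1]
        exact hNZ _ (hFN (F.inv_mem hf)) _ (Z.inv_mem (hf' t ht)) }
  have hKF : K ≤ F := fun x hx => hx.1
  have hZK : Z ≤ K := by
    intro z hz
    refine ⟨hZF hz, fun t ht => ?_⟩
    have h1 : ⁅t, z⁆ = 1 := by
      rw [commutatorElement_def, hTZ t (hPT ht) z hz, mul_inv_cancel_right, mul_inv_cancel]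
    rw [h1]
    exact Z.one_mem
  have hKne : K ≠ F := by
    intro h1
    apply hPD
    intro t ht
    refine ⟨hPT ht, fun f hf => ?_⟩
    rw [← h1] at hf
    exact hf.2 t ht
  have hRp : IsPGroup r R := IsPGroup.of_card (n := 1) (by rw [h.hR, pow_one])
  have hrf : Fact r.Prime := ⟨h.hr⟩
  -- `|K| ≡ 2`
  have hK1 : Nat.card K ≡ 2 [MOD r] := by
    have h1 := modEq_conj hRp (K : Set G) (by
      rintro a ha f ⟨hf, hf'⟩
      refine ⟨(mem_normalizer_iff.1 (h.hRF ha) f).1 hf, fun t ht => ?_⟩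
      have h2 : ⁅t, a * f * a⁻¹⁆ = a * ⁅t, f⁆ * a⁻¹ := by
        have h3 : t * a = a * t := hTR t (hPT ht) a ha
        have h4 : a⁻¹ * t⁻¹ = t⁻¹ * a⁻¹ := by rw [← mul_inv_rev, ← mul_inv_rev, h3]
        rw [commutatorElement_def, commutatorElement_def]
        calc t * (a * f * a⁻¹) * t⁻¹ * (a * f * a⁻¹)⁻¹ = (t * a) * f * (a⁻¹ * t⁻¹) * (a * f⁻¹ * a⁻¹) := by group
          _ = a * (t * f * t⁻¹ * f⁻¹) * a⁻¹ := by rw [h3, h4]; group
      rw [h2]
      exact hNZ a (h.hRF ha) _ (hf' t ht))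
    have h2 : {x : G | x ∈ (K : Set G) ∧ ∀ a ∈ R, a * x = x * a} = (Z : Set G) := by
      ext x
      constructor
      · rintro ⟨hx, h3⟩
        exact (hRZ x).1 ⟨hx.1, h3⟩
      · intro hx
        exact ⟨hZK hx, ((hRZ x).2 hx).2⟩
    have h3 : Nat.card {x : G | x ∈ (K : Set G) ∧ ∀ a ∈ R, a * x = x * a} = 2 := by rw [h2]; exact hcZ
    rw [h3] at h1
    exact h1
  have hK2 : K = Z := by
    symm
    apply eq_of_le_of_card_ge hZK
    rw [hcZ]
    obtain ⟨b, hb⟩ := (h.hF.to_le hKF).exists_card_eq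
    have hb1 : 1 ≤ b := by
      have h1 := card_le_of_le hZK
      rw [hcZ, hb] at h1
      by_contra h2
      have h3 : b = 0 := by omega
      rw [h3] at h1
      norm_num at h1
    obtain ⟨j, rfl⟩ : ∃ j, b = j + 1 := ⟨b - 1, by omega⟩
    have hj : j < 2 * m := by
      by_contra hc
      apply hKne
      apply eq_of_le_of_card_ge hKF
      rw [hb, hcF, hm, Nat.add_sub_cancel, ← pow_mul, pow_succ, mul_comm]
      exact Nat.mul_le_mul_right _ (Nat.pow_le_pow_right (by norm_num) (by omega))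
    rw [hb] at hK1 ⊢
    have h1 : r ∣ 2 * (2 ^ j - 1) := by
      have hle : 2 ≤ 2 ^ (j + 1) := by
        rw [pow_succ]; have := Nat.one_le_two_pow (n := j); omega
      have h2 := (Nat.modEq_iff_dvd' hle).1 hK1.symm
      have h3 : 2 ^ (j + 1) - 2 = 2 * (2 ^ j - 1) := by rw [pow_succ]; omega
      rwa [h3] at h2
    have h2 : r ∣ 2 ^ j - 1 := by
      rcases h.hr.dvd_mul.1 h1 with h3 | h3
      · exact absurd ((Nat.prime_dvd_prime_iff_eq h.hr Nat.prime_two).1 h3) h.hrs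
      · exact h3
    have hpos := Nat.one_le_two_pow (n := j)
    rcases Nat.lt_or_ge j m with hjm | hjm
    · have h3 : 2 ^ j < 2 ^ m := Nat.pow_lt_pow_right (by norm_num) hjm
      have h4 : 2 ^ j - 1 = 0 := Nat.eq_zero_of_dvd_of_lt h2 (by omega)
      have h5 : 2 ^ j = 1 := by omega
      rw [pow_succ, h5, one_mul]
    · exfalso
      obtain ⟨i, rfl⟩ : ∃ i, j = m + i := ⟨j - m, by omega⟩
      have h3 : r ∣ 2 ^ i + 1 := by
        have h4 : (2 ^ (m + i) - 1) + (2 ^ i + 1) = r * 2 ^ i := by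
          have h5 : r * 2 ^ i = 2 ^ (m + i) + 2 ^ i := by rw [hm, pow_add]; ring
          omega
        have h5 : r ∣ (2 ^ (m + i) - 1) + (2 ^ i + 1) := by rw [h4]; exact dvd_mul_right _ _
        exact (Nat.dvd_add_right h2).1 h5
      have h4 : 2 ^ i < 2 ^ m := Nat.pow_lt_pow_right (by norm_num) (by omega)
      have h5 := Nat.le_of_dvd (Nat.succ_pos _) h3
      omega
  -- the elements of order four
  obtain ⟨N, hN⟩ : ∃ N : Set G, N = {x | x ∈ F ∧ x * x ≠ 1} := ⟨_, rfl⟩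
  have hNc : Nat.card N = Nat.card {x : F // x * x ≠ 1} := by
    rw [hN]
    refine Nat.card_congr
      { toFun := fun x => ⟨⟨x, x.2.1⟩, fun h1 => x.2.2 (congrArg Subtype.val h1)⟩
        invFun := fun x => ⟨x, x.1.2, fun h1 => x.2 (Subtype.ext h1)⟩
        left_inv := fun x => rfl
        right_inv := fun x => rfl }
  have hNinv : ∀ g ∈ normalizer (F : Set G), ∀ x ∈ N, g * x * g⁻¹ ∈ N := by
    intro g hg x hx
    rw [hN] at hx ⊢
    refine ⟨(mem_normalizer_iff.1 hg x).1 hx.1, fun h1 => hx.2 ?_⟩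
    have h2 : g * (x * x) * g⁻¹ = 1 := by rw [← h1]; group
    rw [mul_inv_eq_one] at h2
    exact mul_eq_left.1 h2
  have hNZ0 : ∀ x ∈ N, x ∉ Z := by
    intro x hx hz
    rw [hN] at hx
    exact hx.2 (hsqZ x hz)
  have hNr : r ∣ Nat.card N := by
    have h1 := modEq_conj hRp N fun a ha x hx => hNinv a (h.hRF ha) x hx
    have h2 : {x : G | x ∈ N ∧ ∀ a ∈ R, a * x = x * a} = ∅ := by
      rw [Set.eq_empty_iff_forall_notMem]
      rintro x ⟨hx, hx'⟩
      exact hNZ0 x hx ((hRZ x).1 ⟨(hN ▸ hx : x ∈ {x | x ∈ F ∧ x * x ≠ 1}).1, hx'⟩)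
    have h4 : Nat.card {x : G | x ∈ N ∧ ∀ a ∈ R, a * x = x * a} = 0 := by
      rw [h2]; exact Nat.card_eq_zero.2 (Or.inl inferInstance)
    rw [h4] at h1
    exact (Nat.modEq_zero_iff_dvd).1 h1
  have hNn : n ∣ Nat.card N := by
    have h1 := modEq_conj hPp N fun a ha x hx => hNinv a (hTF (hPT ha)) x hx
    have h2 : {x : G | x ∈ N ∧ ∀ a ∈ Pg, a * x = x * a} = ∅ := by
      rw [Set.eq_empty_iff_forall_notMem]
      rintro x ⟨hx, hx'⟩
      apply hNZ0 x hx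
      rw [← hK2]
      refine ⟨(hN ▸ hx : x ∈ {x | x ∈ F ∧ x * x ≠ 1}).1, fun t ht => ?_⟩
      have h3 : ⁅t, x⁆ = 1 := by
        rw [commutatorElement_def, hx' t ht, mul_inv_cancel_right, mul_inv_cancel]
      rw [h3]
      exact Z.one_mem
    have h4 : Nat.card {x : G | x ∈ N ∧ ∀ a ∈ Pg, a * x = x * a} = 0 := by
      rw [h2]; exact Nat.card_eq_zero.2 (Or.inl inferInstance)
    rw [h4] at h1
    exact (Nat.modEq_zero_iff_dvd).1 h1
  rw [hNc] at hNr hNn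
  rcases card_sq_ne h.hZ h.hab hcard with h1 | h1
  · rw [h1, Nat.sub_add_cancel h.hr.pos] at hNn
    rcases hn.dvd_mul.1 hNn with h2 | h2
    · rw [hm, Nat.add_sub_cancel] at h2
      have h3 := (Nat.prime_dvd_prime_iff_eq hn Nat.prime_two).1 (hn.dvd_of_dvd_pow h2)
      exact hT2 (h3 ▸ hnT)
    · have h3 := (Nat.prime_dvd_prime_iff_eq hn h.hr).1 h2
      exact hTr (h3 ▸ hnT)
  · have h2 : r ∣ (r - 1) * (r - 2) := by
      have h3 : Nat.card {x : F // x * x ≠ 1} = (r - 1) * (r - 2) := by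
        obtain ⟨q, rfl⟩ : ∃ q, r = q + 2 := ⟨r - 2, by omega⟩
        have h4 : q + 2 - 1 = q + 1 := rfl
        have h5 : q + 2 - 2 = q := rfl
        rw [h4] at h1
        rw [h4, h5]
        nlinarith
      rw [← h3]
      exact hNr
    have h3 : 3 ≤ r := by
      have := Nat.pow_le_pow_right (n := 2) (by norm_num) hm1
      omega
    rcases h.hr.dvd_mul.1 h2 with h4 | h4
    · have := Nat.le_of_dvd (by omega) h4
      omega
    · have := Nat.le_of_dvd (by omega) h4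
      omega

end Main

end Cfsg.Agent.H813.TurullTwo
end

-- part: H575/FTopScal
section
/-!
# `Q = [Q, T]` with the centre acting by scalars
-/

set_option autoImplicit false
set_option linter.unusedSectionVars false
set_option linter.unusedVariables false

namespace Cfsg.Agent.H575.FTop

open Module Subgroup Cfsg.Agent.H575.Dim Cfsg.Agent.H575.Weights Cfsg.Agent.H575.Sect
  Cfsg.Agent.H575.Fix Cfsg.Agent.H575.Lev Cfsg.Agent.H575.ModM Cfsg.Agent.H575.Tower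
  Cfsg.Agent.H575.Mult Cfsg.Agent.H575.HA Cfsg.Agent.H575.KL Cfsg.Agent.H575.ExtraIrr
open scoped commutatorElement

variable {E : Type*} [Field E] [IsAlgClosed E] {G V : Type*} [Group G] [Finite G]
  [AddCommGroup V] [Module E V] [FiniteDimensional E V] {Q Z T R : Subgroup G} {r s : ℕ}

theorem img_inj {π : Representation E G V} (x y : (MonoidHom.toHomUnits π).range)
    (hxy : imgRep π x = imgRep π y) : x = y := Subtype.ext (Units.ext hxy)

theorem mu_one_of_trivial {π : Representation E G V} [Nontrivial V] {μ : G → E} {g : G}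
    (h1 : ∀ v, π g v = μ g • v) (h2 : π g = 1) : μ g = 1 := by
  obtain ⟨v, hv⟩ := exists_ne (0 : V)
  have h3 := h1 v
  rw [h2, Module.End.one_apply] at h3
  have h4 : (1 - μ g) • v = 0 := by rw [sub_smul, one_smul, ← h3, sub_self]
  exact (sub_eq_zero.mp ((smul_eq_zero.mp h4).resolve_right hv)).symm

theorem map_center_comm {π : Representation E G V} {x y : G}
    (h : toImg π x * toImg π y = toImg π y * toImg π x) : π ⁅x, y⁆ = 1 := by
  rw [← toImg_eq_one, map_commutatorElement]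
  exact commutatorElement_eq_one_iff_mul_comm.mpr h

/-- the elements of the radical act as scalars -/
theorem sc_rad (h : TD Q Z T R r s) {π : Representation E G V} [Nontrivial V] {μ : G → E}
    (hμ : ∀ z ∈ Z, ∀ v, π z v = μ z • v)
    (hrad : ∀ x ∈ Q, (∀ y ∈ Q, μ ⁅x, y⁆ = 1) → ∀ a ∈ R, ∀ v, π x (π a v) = π a (π x v)) {x : G}
    (hx : x ∈ Q) (hxr : ∀ y ∈ Q, μ ⁅x, y⁆ = 1) : ∃ z ∈ Z, π x = π z := by
  have hs : Fact s.Prime := ⟨h.hs⟩
  have hcop : (Nat.card (R.map (toImg π))).Coprime (Nat.card (Q.map (toImg π))) := by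
    obtain ⟨k, hk⟩ := h.hQ.exists_card_eq
    have h1 : (Nat.card R).Coprime (Nat.card Q) := by
      rw [h.hR, hk]
      exact Nat.Coprime.pow_right _ ((Nat.coprime_primes h.hr h.hs).mpr h.hrs)
    exact (h1.coprime_dvd_left (Subgroup.card_map_dvd (f := toImg π) (H := R))).coprime_dvd_right
      (Subgroup.card_map_dvd (f := toImg π) (H := Q))
  have h1 := cent_le_gen (N := Z.map (toImg π)) hcop ?_ ?_ ?_
  · have h2 : toImg π x ∈ Q.map (toImg π) ⊓
        centralizer ((R.map (toImg π) : Subgroup _) : Set (MonoidHom.toHomUnits π).range) := by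
      rw [Subgroup.mem_inf]
      refine ⟨⟨x, hx, rfl⟩, ?_⟩
      rw [Subgroup.mem_centralizer_iff]
      rintro _ ⟨a, ha, rfl⟩
      rw [← map_mul, ← map_mul]
      apply toImg_eq
      ext v
      rw [mul_apply', mul_apply', hrad x hx hxr a ha]
    obtain ⟨z, hz, hzx⟩ := h1 h2
    refine ⟨z, hz, ?_⟩
    rw [← imgRep_toImg π x, ← imgRep_toImg π z, hzx]
  · rw [← Subgroup.map_commutator]
    refine Subgroup.map_mono ?_
    rw [commutator_le]
    exact h.hQQ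
  · refine le_norm ?_
    rintro _ ⟨a, ha, rfl⟩ _ ⟨x, hx, rfl⟩
    exact ⟨a * x * a⁻¹, Sect.conj_mem h.hRQ ha hx, by simp⟩
  · rw [← Subgroup.map_commutator, h.hcomm]

theorem sc_center (h : TD Q Z T R r s) {π : Representation E G V} [Nontrivial V] {μ : G → E}
    (hμ : ∀ z ∈ Z, ∀ v, π z v = μ z • v)
    (hrad : ∀ x ∈ Q, (∀ y ∈ Q, μ ⁅x, y⁆ = 1) → ∀ a ∈ R, ∀ v, π x (π a v) = π a (π x v))
    {x : G} (hx : x ∈ Q) (hxc : (⟨toImg π x, ⟨x, hx, rfl⟩⟩ : Q.map (toImg π)) ∈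
      center (Q.map (toImg π))) : ∀ y ∈ Q, μ ⁅x, y⁆ = 1 := by
  intro y hy
  rw [Subgroup.mem_center_iff] at hxc
  have h1 := hxc ⟨toImg π y, ⟨y, hy, rfl⟩⟩
  have h2 : toImg π x * toImg π y = toImg π y * toImg π x :=
    (congrArg Subtype.val h1).symm
  exact mu_one_of_trivial (hμ _ (h.hQQ x hx y hy)) (map_center_comm h2)

theorem sc_scal (h : TD Q Z T R r s) {π : Representation E G V} [Nontrivial V] {μ : G → E}
    (hμ : ∀ z ∈ Z, ∀ v, π z v = μ z • v)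
    (hrad : ∀ x ∈ Q, (∀ y ∈ Q, μ ⁅x, y⁆ = 1) → ∀ a ∈ R, ∀ v, π x (π a v) = π a (π x v)) :
    ∀ z : Q.map (toImg π), z ∈ center (Q.map (toImg π)) →
      ∃ c : E, ∀ v, imgRep π z v = c • v := by
  rintro ⟨_, x, hx, rfl⟩ hxc
  obtain ⟨z, hz, hzx⟩ := sc_rad h hμ hrad hx (sc_center h hμ hrad hx hxc)
  refine ⟨μ z, fun v => ?_⟩
  show π x v = μ z • v
  rw [hzx, hμ z hz]

theorem sc_ed (h : TD Q Z T R r s) {π : Representation E G V} [Nontrivial V] {μ : G → E}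
    (hμ : ∀ z ∈ Z, ∀ v, π z v = μ z • v)
    (hne : ∃ x ∈ Q, ∃ y ∈ Q, μ ⁅x, y⁆ ≠ 1)
    (hrad : ∀ x ∈ Q, (∀ y ∈ Q, μ ⁅x, y⁆ = 1) → ∀ a ∈ R, ∀ v, π x (π a v) = π a (π x v)) :
    ED (Q.map (toImg π)) (R.map (toImg π)) r s := by
  refine ed_of_scal (π := imgRep π) img_inj h.hr h.hs h.hrs ?_ (h.hQ.map _) ?_ ?_ ?_ ?_
    (sc_scal h hμ hrad) ?_
  · rw [← h.hR]
    exact Subgroup.card_map_dvd (f := toImg π) (H := R)
  · refine le_norm ?_
    rintro _ ⟨a, ha, rfl⟩ _ ⟨x, hx, rfl⟩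
    exact ⟨a * x * a⁻¹, Sect.conj_mem h.hRQ ha hx, by simp⟩
  · rw [← Subgroup.map_commutator, h.hcomm]
  · rintro _ ⟨x, hx, rfl⟩ _ ⟨y, hy, rfl⟩ _ ⟨z, hz, rfl⟩
    rw [← map_commutatorElement, ← map_commutatorElement,
      commutatorElement_eq_one_iff_mul_comm.mpr (h.hZ _ (h.hQQ _ hx _ hy) _ hz), map_one]
  · rintro _ ⟨x, hx, rfl⟩ _ ⟨y, hy, rfl⟩
    rw [← map_pow, ← map_commutatorElement,
      commutatorElement_eq_one_iff_mul_comm.mpr (h.hZ _ (h.hQs _ hx) _ hy), map_one]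
  · obtain ⟨x, hx, y, hy, hxy⟩ := hne
    intro hbot
    apply hxy
    have h1 : ∀ g ∈ Q, π g = 1 := by
      intro g hg
      have h3 : toImg π g ∈ Q.map (toImg π) := ⟨g, hg, rfl⟩
      rw [hbot, Subgroup.mem_bot] at h3
      exact toImg_eq_one.mp h3
    exact mu_one_of_trivial (hμ _ (h.hQQ x hx y hy))
      (map_commutatorElement' π (h1 x hx) (h1 y hy))

theorem sc_fixbot {π : Representation E G V} (R : Subgroup G) :
    fix (imgRep π) (R.map (toImg π)) = fix π R := by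
  ext v
  constructor
  · intro hv a ha
    exact hv (toImg π a) ⟨a, ha, rfl⟩
  · rintro hv _ ⟨a, ha, rfl⟩
    exact hv a ha

theorem sc_TN (h : TD Q Z T R r s) {π : Representation E G V} :
    T.map (toImg π) ≤ normalizer ((Q.map (toImg π) : Subgroup _) : Set _) := by
  refine le_norm ?_
  rintro _ ⟨a, ha, rfl⟩ _ ⟨x, hx, rfl⟩
  exact ⟨a * x * a⁻¹, Sect.conj_mem h.hTQ ha hx, by simp⟩

theorem sc_TZ (h : TD Q Z T R r s) {π : Representation E G V} [Nontrivial V] {μ : G → E}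
    (hμ : ∀ z ∈ Z, ∀ v, π z v = μ z • v)
    (hrad : ∀ x ∈ Q, (∀ y ∈ Q, μ ⁅x, y⁆ = 1) → ∀ a ∈ R, ∀ v, π x (π a v) = π a (π x v)) :
    ∀ t ∈ T.map (toImg π), ∀ z ∈ (center (Q.map (toImg π))).map (Q.map (toImg π)).subtype,
      t * z = z * t := by
  rintro t - _ ⟨z, hz, rfl⟩
  obtain ⟨c, hc⟩ := sc_scal h hμ hrad z hz
  apply img_inj
  ext v
  show imgRep π (t * (z : (MonoidHom.toHomUnits π).range)) v =
    imgRep π ((z : (MonoidHom.toHomUnits π).range) * t) v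
  rw [mul_apply', mul_apply', hc, hc, map_smul]

theorem sc_mem (h : TD Q Z T R r s) {π : Representation E G V} [Nontrivial V] {μ : G → E}
    (hμ : ∀ z ∈ Z, ∀ v, π z v = μ z • v)
    (hrad : ∀ x ∈ Q, (∀ y ∈ Q, μ ⁅x, y⁆ = 1) → ∀ a ∈ R, ∀ v, π x (π a v) = π a (π x v))
    {x : G} (hx : x ∈ Q)
    (hxc : toImg π x ∈ (center (Q.map (toImg π))).map (Q.map (toImg π)).subtype) :
    ∀ y ∈ Q, μ ⁅x, y⁆ = 1 := by
  obtain ⟨z, hz, hzx⟩ := hxc
  refine sc_center h hμ hrad hx ?_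
  have : (⟨toImg π x, ⟨x, hx, rfl⟩⟩ : Q.map (toImg π)) = z := Subtype.ext hzx.symm
  rw [this]
  exact hz

/-- there are vectors fixed by `R` -/
theorem sc_fix (h : TD Q Z T R r s) {π : Representation E G V} [Nontrivial V] {μ : G → E}
    (hμ : ∀ z ∈ Z, ∀ v, π z v = μ z • v)
    (hne : ∃ x ∈ Q, ∃ y ∈ Q, μ ⁅x, y⁆ ≠ 1)
    (hrad : ∀ x ∈ Q, (∀ y ∈ Q, μ ⁅x, y⁆ = 1) → ∀ a ∈ R, ∀ v, π x (π a v) = π a (π x v))
    (hrE : (r : E) ≠ 0) (hsE : (s : E) ≠ 0) : fix π R ≠ ⊥ := by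
  intro hbot
  have hED := sc_ed h hμ hne hrad
  obtain ⟨hs2, hcard⟩ := f2f (π := imgRep π) hED (sc_scal h hμ hrad)
    (fun z _ hz => Subtype.ext (img_inj _ _ (by rw [hz, Subgroup.coe_one, map_one]))) hrE hsE
    (by rw [sc_fixbot, hbot])
  subst hs2
  have h1 := H813.TurullTwo.f2_core hED hcard (T.map (toImg π)) (sc_TN h) (by
      rintro _ ⟨t, ht, rfl⟩ _ ⟨a, ha, rfl⟩
      rw [← map_mul, ← map_mul, h.hTR t ht a ha])
    (fun h2 => h.hTr (h2.trans (Subgroup.card_map_dvd (f := toImg π) (H := T))))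
    (fun h2 => h.hTs (h2.trans (Subgroup.card_map_dvd (f := toImg π) (H := T))))
    (sc_TZ h hμ hrad)
  have h2 : Q.map (toImg π) ≤ (center (Q.map (toImg π))).map (Q.map (toImg π)).subtype := by
    have h3 : ⁅T.map (toImg π), Q.map (toImg π)⁆ ≤
        (center (Q.map (toImg π))).map (Q.map (toImg π)).subtype := by
      rw [commutator_le]
      exact h1
    rwa [← Subgroup.map_commutator, commutator_comm, h.hQT] at h3
  obtain ⟨x, hx, y, hy, hxy⟩ := hne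
  exact hxy (sc_mem h hμ hrad hx (h2 ⟨x, hx, rfl⟩) y hy)

theorem sc_core (h : TD Q Z T R r s) {π : Representation E G V} [Nontrivial V] {μ : G → E}
    (hμ : ∀ z ∈ Z, ∀ v, π z v = μ z • v)
    (hne : ∃ x ∈ Q, ∃ y ∈ Q, μ ⁅x, y⁆ ≠ 1)
    (hrad : ∀ x ∈ Q, (∀ y ∈ Q, μ ⁅x, y⁆ = 1) → ∀ a ∈ R, ∀ v, π x (π a v) = π a (π x v))
    (hrE : (r : E) ≠ 0) (hsE : (s : E) ≠ 0)
    (hT : ∀ v, (∀ a ∈ R, π a v = v) → ∀ t ∈ T, π t v = v) :
    ∀ t ∈ T, (∀ x ∈ Q, ∀ y ∈ Q, μ ⁅⁅t, x⁆, y⁆ = 1) ∨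
      (∀ x ∈ Q, ∀ y ∈ Q, μ ⁅t * x * t⁻¹ * x, y⁆ = 1) := by
  intro t ht
  have hED := sc_ed h hμ hne hrad
  have h1 := f3f (π := imgRep π) hED (sc_scal h hμ hrad)
    (fun z _ hz => Subtype.ext (img_inj _ _ (by rw [hz, Subgroup.coe_one, map_one]))) hrE hsE
    (T.map (toImg π)) (sc_TN h) (by
      rintro _ ⟨t, ht, rfl⟩ _ ⟨a, ha, rfl⟩
      rw [← map_mul, ← map_mul, h.hTR t ht a ha])
    (fun h2 => h.hTr (h2.trans (Subgroup.card_map_dvd (f := toImg π) (H := T))))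
    (fun h2 => h.hTs (h2.trans (Subgroup.card_map_dvd (f := toImg π) (H := T))))
    (sc_TZ h hμ hrad) (by rw [sc_fixbot]; exact sc_fix h hμ hne hrad hrE hsE) (by
      rintro _ ⟨t, ht, rfl⟩ v hv
      rw [sc_fixbot] at hv
      exact hT v hv t ht) (toImg π t) ⟨t, ht, rfl⟩
  rcases h1 with h1 | h1
  · left
    intro x hx
    refine sc_mem h hμ hrad ?_ ?_
    · rw [commutatorElement_def]
      exact Q.mul_mem (Sect.conj_mem h.hTQ ht hx) (Q.inv_mem hx)
    · rw [map_commutatorElement]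
      exact h1 _ ⟨x, hx, rfl⟩
  · right
    intro x hx
    refine sc_mem h hμ hrad (Q.mul_mem (Sect.conj_mem h.hTQ ht hx) hx) ?_
    rw [map_mul, map_mul, map_mul, map_inv]
    exact h1 _ ⟨x, hx, rfl⟩

end Cfsg.Agent.H575.FTop
end

-- part: H575/FTopMain
section
/-!
# `T` trivial on the vectors fixed by `R`
-/

set_option autoImplicit false
set_option linter.unusedSectionVars false
set_option linter.unusedVariables false

namespace Cfsg.Agent.H575.FTop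

open Module Subgroup Cfsg.Agent.H575.Dim Cfsg.Agent.H575.Weights Cfsg.Agent.H575.Sect
  Cfsg.Agent.H575.Fix Cfsg.Agent.H575.Lev Cfsg.Agent.H575.ModM Cfsg.Agent.H575.Tower
  Cfsg.Agent.H575.Mult Cfsg.Agent.H575.HA Cfsg.Agent.H575.KL Cfsg.Agent.H575.ExtraIrr
open scoped commutatorElement

variable {E : Type*} [Field E] [IsAlgClosed E] {G V : Type*} [Group G] [Finite G]
  [AddCommGroup V] [Module E V] [FiniteDimensional E V] {Q Z T R : Subgroup G} {r s : ℕ}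

theorem TD_subgroupOf (h : TD Q Z T R r s) {H : Subgroup G} (hQH : Q ≤ H) (hTH : T ≤ H)
    (hRH : R ≤ H) :
    TD (Q.subgroupOf H) (Z.subgroupOf H) (T.subgroupOf H) (R.subgroupOf H) r s where
  hr := h.hr
  hs := h.hs
  hrs := h.hrs
  hR := by rw [Nat.card_congr (Subgroup.subgroupOfEquivOfLe hRH).toEquiv, h.hR]
  hQ := h.hQ.comap_of_injective _ H.subtype_injective
  hZQ := fun x hx => h.hZQ hx
  hQQ := fun x hx y hy => h.hQQ _ hx _ hy
  hQs := fun x hx => h.hQs _ hx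
  hZ := fun z hz x hx => Subtype.ext (h.hZ _ hz _ hx)
  hRQ := subgroupOf_le_normalizer' h.hRQ
  hRZ := subgroupOf_le_normalizer' h.hRZ
  hcomm := by rw [commutator_subgroupOf hQH hRH, h.hcomm]
  hTQ := subgroupOf_le_normalizer' h.hTQ
  hTR := fun t ht a ha => Subtype.ext (h.hTR _ ht _ ha)
  hTr := by rw [Nat.card_congr (Subgroup.subgroupOfEquivOfLe hTH).toEquiv]; exact h.hTr
  hTs := by rw [Nat.card_congr (Subgroup.subgroupOfEquivOfLe hTH).toEquiv]; exact h.hTs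
  hZT := fun z hz t ht => Subtype.ext (h.hZT _ hz _ ht)
  hQT := by rw [commutator_subgroupOf hQH hTH, h.hQT]

theorem TD.hTZ (h : TD Q Z T R r s) : T ≤ normalizer (Z : Set G) := by
  refine le_norm fun t ht z hz => ?_
  rw [← h.hZT z hz t ht, mul_inv_cancel_right]
  exact hz

theorem TD.cop (h : TD Q Z T R r s) : (Nat.card R).Coprime (Nat.card Q) := by
  have hs : Fact s.Prime := ⟨h.hs⟩
  obtain ⟨k, hk⟩ := h.hQ.exists_card_eq
  rw [h.hR, hk]
  exact Nat.Coprime.pow_right _ ((Nat.coprime_primes h.hr h.hs).mpr h.hrs)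

/-- the fixed points of `R` in `Q` -/
theorem TD.cent_le (h : TD Q Z T R r s) : Q ⊓ centralizer (R : Set G) ≤ Z := by
  refine cent_le_gen h.cop ?_ h.hRQ h.hcomm
  rw [commutator_le]
  exact h.hQQ

theorem td_inv (h : TD Q Z T R r s) {π : Representation E G V}
    (hT : ∀ v, (∀ a ∈ R, π a v = v) → ∀ t ∈ T, π t v = v) (hQ0 : fix π Q = ⊥)
    {μ : G → E} (hμ : wt π Z ⊤ μ ≠ ⊥) : ∀ a ∈ R, Same Z (cj a μ) μ :=
  weight_inv h hT (fun _ _ _ _ => Submodule.mem_top) (fun _ _ _ _ => Submodule.mem_top)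
    (fun _ _ _ _ => Submodule.mem_top) h.hZQ h.hRZ h.hTZ
    (fun n hn x hx w _ => by rw [← mul_apply', ← mul_apply', h.hZ n hn x hx]) hQ0 hμ

theorem td_inv' (h : TD Q Z T R r s) {π : Representation E G V}
    (hT : ∀ v, (∀ a ∈ R, π a v = v) → ∀ t ∈ T, π t v = v) (hQ0 : fix π Q = ⊥)
    {μ : G → E} (hμ : wt π Z ⊤ μ ≠ ⊥) : ∀ g ∈ R, ∀ z ∈ Z, μ (g * z * g⁻¹) = μ z := by
  intro g hg z hz
  have h1 := td_inv h hT hQ0 hμ g⁻¹ (R.inv_mem hg) z hz
  have h2 : cj g⁻¹ μ z = μ (g⁻¹⁻¹ * z * g⁻¹) := rfl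
  rw [h2, inv_inv] at h1
  exact h1

theorem td_comm (h : TD Q Z T R r s) {π : Representation E G V} (hsE : (s : E) ≠ 0)
    (hT : ∀ v, (∀ a ∈ R, π a v = v) → ∀ t ∈ T, π t v = v) (hQ0 : fix π Q = ⊥)
    {μ : G → E} (hμ : wt π Z ⊤ μ ≠ ⊥) : ∀ x ∈ Q, (∀ y ∈ Q, μ ⁅x, y⁆ = 1) → ∀ a ∈ R,
      ∀ w ∈ wt π Z ⊤ μ, π x (π a w) = π a (π x w) := by
  obtain ⟨m1, mm, -, -⟩ := wt_facts hμ
  have hRμ := td_inv' h hT hQ0 hμ
  have hTμ : ∀ g ∈ T, ∀ z ∈ Z, μ (g * z * g⁻¹) = μ z := by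
    intro g hg z hz
    rw [← h.hZT z hz g hg, mul_inv_cancel_right]
  set W := wt π Z ⊤ μ with hW
  have hRW : Pres π R W := pres_wt_of_inv π h.hRZ hRμ
  have hTW : Pres π T W := pres_wt_of_comm π h.hZT
  have hQW : Pres π Q W := pres_wt_of_comm π h.hZ
  let N := rad h.hQQ h.hZ μ m1 mm
  have hNQ : N ≤ Q := fun x hx => hx.1
  have hRN : R ≤ normalizer (N : Set G) := le_normalizer_rad h.hRQ hRμ
  have hTN : T ≤ normalizer (N : Set G) := le_normalizer_rad h.hTQ hTμ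
  have hc : ∀ n ∈ N, ∀ x ∈ Q, ∀ w ∈ W, π n (π x w) = π x (π n w) := by
    intro n hn x hx w hw
    exact comm_on_wt (h.hQQ n hn.1 x hx) (hn.2 x hx) (hQW x hx _ (hQW n hn.1 w hw))
  intro x hx hxr a ha w hw
  have hxN : x ∈ N := ⟨hx, hxr⟩
  have hle : W ≤ LinearMap.ker (π x * π a - π a * π x) := by
    refine le_of_wt_le (A := N) (card_ne_zero_of_pgroup h.hs (h.hQ.to_le hNQ) hsE)
      (fun n hn => hQW n (hNQ hn)) (fun n hn n' hn' w hw => hc n hn n' (hNQ hn') w hw) _ ?_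
    intro l u hu
    by_cases hl : wt π N W l = ⊥
    · rw [hl, Submodule.mem_bot] at hu
      rw [hu]
      exact Submodule.zero_mem _
    have hinv := weight_inv h hT hRW hTW hQW hNQ hRN hTN hc hQ0 hl a ha
    have h1 := apply_mem_wt (hRN ha) (hRW a ha) hu
    rw [wt_congr π W hinv] at h1
    rw [LinearMap.mem_ker, LinearMap.sub_apply, Module.End.mul_apply, Module.End.mul_apply,
      h1.2 x hxN, hu.2 x hxN, map_smul, sub_self]
  have h2 := hle hw
  rw [LinearMap.mem_ker, LinearMap.sub_apply, Module.End.mul_apply, Module.End.mul_apply,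
    sub_eq_zero] at h2
  exact h2

theorem td_ne (h : TD Q Z T R r s) {π : Representation E G V} (hsE : (s : E) ≠ 0)
    (hT : ∀ v, (∀ a ∈ R, π a v = v) → ∀ t ∈ T, π t v = v) (hQ0 : fix π Q = ⊥)
    {μ : G → E} (hμ : wt π Z ⊤ μ ≠ ⊥) : ∃ x ∈ Q, ∃ y ∈ Q, μ ⁅x, y⁆ ≠ 1 := by
  by_contra hcon
  push Not at hcon
  apply hμ
  have hRW : Pres π R (wt π Z ⊤ μ) := pres_wt_of_inv π h.hRZ (td_inv' h hT hQ0 hμ)
  have hQW : Pres π Q (wt π Z ⊤ μ) := pres_wt_of_comm π h.hZ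
  have hc := td_comm h hsE hT hQ0 hμ
  let S : Subgroup G :=
    { carrier := {x | x ∈ Q ∧ ∀ w ∈ wt π Z ⊤ μ, π x w = w}
      one_mem' := ⟨Q.one_mem, fun w _ => by rw [map_one]; rfl⟩
      mul_mem' := fun {a b} ha hb => ⟨Q.mul_mem ha.1 hb.1, fun w hw => by
        rw [mul_apply', hb.2 w hw, ha.2 w hw]⟩
      inv_mem' := fun {a} ha => ⟨Q.inv_mem ha.1, fun w hw => by
        have := inv_apply π a w
        rwa [ha.2 w hw] at this⟩ }
  have h1 : ⁅Q, R⁆ ≤ S := by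
    rw [commutator_le]
    intro x hx a ha
    refine ⟨by rw [← h.hcomm]; exact commutator_mem_commutator hx ha, fun w hw => ?_⟩
    have h2 := hc x⁻¹ (Q.inv_mem hx) (fun y hy => hcon _ (Q.inv_mem hx) y hy) a⁻¹
      (R.inv_mem ha) w hw
    rw [commutatorElement_def, mul_apply', mul_apply', mul_apply', h2, apply_inv, apply_inv]
  rw [h.hcomm] at h1
  rw [← le_bot_iff, ← hQ0]
  intro w hw x hx
  exact (h1 hx).2 w hw

theorem td_fix (h : TD Q Z T R r s) {π : Representation E G V} (hsE : (s : E) ≠ 0)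
    (hrE : (r : E) ≠ 0)
    (hT : ∀ v, (∀ a ∈ R, π a v = v) → ∀ t ∈ T, π t v = v) (hQ0 : fix π Q = ⊥)
    {μ : G → E} (hμ : wt π Z ⊤ μ ≠ ⊥) :
    (∃ v ∈ wt π Z ⊤ μ, v ≠ 0 ∧ ∀ a ∈ R, π a v = v) ∧
    ∀ t ∈ T, (∀ x ∈ Q, ∀ y ∈ Q, μ ⁅⁅t, x⁆, y⁆ = 1) ∨
      (∀ x ∈ Q, ∀ y ∈ Q, μ ⁅t * x * t⁻¹ * x, y⁆ = 1) := by
  have hRμ := td_inv' h hT hQ0 hμ
  have hcomm := td_comm h hsE hT hQ0 hμ
  obtain ⟨x0, hx0, y0, hy0, hne⟩ := td_ne h hsE hT hQ0 hμ
  set W := wt π Z ⊤ μ with hW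
  let H : Subgroup G := (Q ⊔ T) ⊔ R
  have hHW : Pres π H W := by
    refine Pres.sup (Pres.sup (pres_wt_of_comm π h.hZ) (pres_wt_of_comm π h.hZT) h.hTQ)
      (pres_wt_of_inv π h.hRZ hRμ) (le_normalizer_sup' h.hRQ (le_norm fun a ha t ht => ?_))
    rw [← h.hTR t ht a ha, mul_inv_cancel_right]
    exact ht
  have hQH : Q ≤ H := le_sup_left.trans le_sup_left
  have hTH : T ≤ H := le_sup_right.trans le_sup_left
  have hRH : R ≤ H := le_sup_right
  have hnt : Nontrivial W := Submodule.nontrivial_iff_ne_bot.mpr hμ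
  have h' := TD_subgroupOf h hQH hTH hRH
  have a1 : ∀ z ∈ Z.subgroupOf H, ∀ v : W,
      sub π H.subtype W (fun g w hw => hHW g g.2 w hw) z v = μ ((z : H) : G) • v :=
    fun z hz v => Subtype.ext (v.2.2 z hz)
  have a2 : ∀ x ∈ Q.subgroupOf H, (∀ y ∈ Q.subgroupOf H, μ ((⁅x, y⁆ : H) : G) = 1) →
      ∀ a ∈ R.subgroupOf H, ∀ v,
      sub π H.subtype W (fun g w hw => hHW g g.2 w hw) x
        (sub π H.subtype W (fun g w hw => hHW g g.2 w hw) a v) =
      sub π H.subtype W (fun g w hw => hHW g g.2 w hw) a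
        (sub π H.subtype W (fun g w hw => hHW g g.2 w hw) x v) := by
    intro x hx hxy a ha v
    exact Subtype.ext (hcomm x hx (fun y hy => hxy ⟨y, hQH hy⟩ hy) a ha v v.2)
  have a3 : ∃ x ∈ Q.subgroupOf H, ∃ y ∈ Q.subgroupOf H, μ ((⁅x, y⁆ : H) : G) ≠ 1 :=
    ⟨⟨x0, hQH hx0⟩, hx0, ⟨y0, hQH hy0⟩, hy0, hne⟩
  constructor
  · have h1 := sc_fix (μ := fun g : H => μ g) h' a1 a3 a2 hrE hsE
    obtain ⟨v, hv, hv0⟩ := Submodule.exists_mem_ne_zero_of_ne_bot h1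
    refine ⟨v, v.2, fun h0 => hv0 (Subtype.ext h0), fun a ha => ?_⟩
    exact congrArg Subtype.val (hv ⟨a, hRH ha⟩ ha)
  · intro t ht
    have h1 := sc_core (μ := fun g : H => μ g) h' a1 a3 a2 hrE hsE (by
      intro v hv t ht
      refine Subtype.ext (hT v (fun a ha => ?_) t ht)
      exact congrArg Subtype.val (hv ⟨a, hRH ha⟩ ha)) ⟨t, hTH ht⟩ ht
    rcases h1 with h1 | h1
    · left
      intro x hx y hy
      exact h1 ⟨x, hQH hx⟩ hx ⟨y, hQH hy⟩ hy
    · right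
      intro x hx y hy
      exact h1 ⟨x, hQH hx⟩ hx ⟨y, hQH hy⟩ hy

/-- `R` fixes a nonzero vector moved by `z` -/
theorem top_vec (h : TD Q Z T R r s) {π : Representation E G V} (hsE : (s : E) ≠ 0)
    (hrE : (r : E) ≠ 0)
    (hT : ∀ v, (∀ a ∈ R, π a v = v) → ∀ t ∈ T, π t v = v) (hQ0 : fix π Q = ⊥)
    {z : G} (hz : z ∈ Z) (hz1 : π z ≠ 1) : ∃ v, (∀ a ∈ R, π a v = v) ∧ π z v ≠ v := by
  by_contra hcon
  push Not at hcon
  apply hz1
  have hle : (⊤ : Submodule E V) ≤ LinearMap.ker (π z - 1) := by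
    refine le_of_wt_le (π := π) (A := Z) (W := ⊤)
      (card_ne_zero_of_pgroup h.hs (h.hQ.to_le h.hZQ) hsE)
      (fun _ _ _ _ => Submodule.mem_top) (fun a ha b hb w _ => by
        rw [← mul_apply', ← mul_apply', h.hZ a ha b (h.hZQ hb)]) _ ?_
    intro μ u hu
    by_cases hl : wt π Z ⊤ μ = ⊥
    · rw [hl, Submodule.mem_bot] at hu
      rw [hu]
      exact Submodule.zero_mem _
    obtain ⟨⟨v, hv, hv0, hvR⟩, -⟩ := td_fix h hsE hrE hT hQ0 hl
    have h1 := hcon v hvR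
    rw [hv.2 z hz] at h1
    have h3 : (1 - μ z) • v = 0 := by rw [sub_smul, one_smul, h1, sub_self]
    have h4 : μ z = 1 := (sub_eq_zero.mp ((smul_eq_zero.mp h3).resolve_right hv0)).symm
    rw [LinearMap.mem_ker, LinearMap.sub_apply, hu.2 z hz, h4, one_smul, Module.End.one_apply,
      sub_self]
  ext v
  have h2 := hle (Submodule.mem_top (x := v))
  rw [LinearMap.mem_ker, LinearMap.sub_apply, sub_eq_zero] at h2
  exact h2

theorem exists_wt [Nontrivial V] (h : TD Q Z T R r s) (π : Representation E G V)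
    (hsE : (s : E) ≠ 0) : ∃ μ, wt π Z ⊤ μ ≠ ⊥ := by
  by_contra hcon
  push Not at hcon
  have hle : (⊤ : Submodule E V) ≤ ⊥ := by
    refine le_of_wt_le (π := π) (A := Z) (W := ⊤)
      (card_ne_zero_of_pgroup h.hs (h.hQ.to_le h.hZQ) hsE)
      (fun _ _ _ _ => Submodule.mem_top) (fun a ha b hb w _ => by
        rw [← mul_apply', ← mul_apply', h.hZ a ha b (h.hZQ hb)]) _ ?_
    intro μ
    rw [hcon μ]
  exact top_ne_bot (le_bot_iff.mp hle)

theorem top_z [Nontrivial V] (h : TD Q Z T R r s) {π : Representation E G V} (hsE : (s : E) ≠ 0)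
    (hT : ∀ v, (∀ a ∈ R, π a v = v) → ∀ t ∈ T, π t v = v) (hQ0 : fix π Q = ⊥) :
    ∃ z ∈ Z, z ∈ centralizer (R : Set G) ∧ π z ≠ 1 := by
  obtain ⟨μ, hμ⟩ := exists_wt h π hsE
  obtain ⟨m1, mm, -, -⟩ := wt_facts hμ
  obtain ⟨x0, hx0, y0, hy0, hne⟩ := td_ne h hsE hT hQ0 hμ
  have hRμ := td_inv' h hT hQ0 hμ
  obtain ⟨c, hc, hcR, hcw⟩ := exists_cent_mul h.hr h.isPGroup_R h.hRZ
    (cop_of_ne h.hr h.hs h.hrs (h.hQ.to_le h.hZQ)) (h.hQQ x0 hx0 y0 hy0)
  refine ⟨c, hc, hcR, fun h1 => hne ?_⟩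
  have h2 : μ (c⁻¹ * ⁅x0, y0⁆) = 1 := kills h.hRZ μ m1 mm hRμ _ hcw
  have h3 : μ ⁅x0, y0⁆ = μ c * μ (c⁻¹ * ⁅x0, y0⁆) := by
    rw [← mm c hc _ (Z.mul_mem (Z.inv_mem hc) (h.hQQ x0 hx0 y0 hy0)), mul_inv_cancel_left]
  rw [h3, h2, mul_one]
  obtain ⟨v, hv, hv0⟩ := Submodule.exists_mem_ne_zero_of_ne_bot hμ
  have h4 := hv.2 c hc
  rw [h1, Module.End.one_apply] at h4
  have h5 : (1 - μ c) • v = 0 := by rw [sub_smul, one_smul, ← h4, sub_self]
  exact (sub_eq_zero.mp ((smul_eq_zero.mp h5).resolve_right hv0)).symm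

theorem top_F [Nontrivial V] (h : TD Q Z T R r s) {π : Representation E G V}
    (hsE : (s : E) ≠ 0) (hrE : (r : E) ≠ 0)
    (hT : ∀ v, (∀ a ∈ R, π a v = v) → ∀ t ∈ T, π t v = v) (hQ0 : fix π Q = ⊥)
    {F : Subgroup G} (hFQ : F ≤ normalizer (Q : Set G)) (hFZ : F ≤ normalizer (Z : Set G))
    (hFR : ∀ f ∈ F, ∀ a ∈ R, f * a = a * f) (hTF : ⁅T, F⁆ = T)
    (hFT : F ≤ normalizer (T : Set G))
    (hFC : ∀ z ∈ Z, z ∈ centralizer (R : Set G) → ∀ f ∈ F, f * z = z * f) : False := by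
  obtain ⟨μ, hμ⟩ := exists_wt h π hsE
  obtain ⟨m1, mm, -, -⟩ := wt_facts hμ
  obtain ⟨x0, hx0, y0, hy0, hne⟩ := td_ne h hsE hT hQ0 hμ
  have hRμ := td_inv' h hT hQ0 hμ
  obtain ⟨-, hpm⟩ := td_fix h hsE hrE hT hQ0 hμ
  have hTμ : ∀ g ∈ T, ∀ z ∈ Z, μ (g * z * g⁻¹) = μ z := by
    intro g hg z hz
    rw [← h.hZT z hz g hg, mul_inv_cancel_right]
  have hFμ : ∀ g ∈ F, ∀ z ∈ Z, μ (g * z * g⁻¹) = μ z := by
    intro g hg z hz
    obtain ⟨c, hc, hcR, hcw⟩ := exists_cent_mul h.hr h.isPGroup_R h.hRZ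
      (cop_of_ne h.hr h.hs h.hrs (h.hQ.to_le h.hZQ)) hz
    have hgR : g ∈ normalizer (R : Set G) := by
      refine le_norm (H := F) (P := R) (fun f hf a ha => ?_) hg
      rw [hFR f hf a ha, mul_inv_cancel_right]
      exact ha
    have h1 : g * (c⁻¹ * z) * g⁻¹ ∈ ⁅Z, R⁆ :=
      Sect.conj_mem (le_normalizer_commutator (H := zpowers g)
        ((zpowers_le.mpr (hFZ hg))) (zpowers_le.mpr hgR)) (mem_zpowers g) hcw
    have hle : ⁅Z, R⁆ ≤ Z := Lib.CoprimeCommutator.commutator_le_left h.hRZ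
    have h2 : μ (g * (c⁻¹ * z) * g⁻¹) = 1 := kills h.hRZ μ m1 mm hRμ _ h1
    have h3 : μ (c⁻¹ * z) = 1 := kills h.hRZ μ m1 mm hRμ _ hcw
    have h4 : g * z * g⁻¹ = c * (g * (c⁻¹ * z) * g⁻¹) := by
      have h5 := hFC c hc hcR g hg
      have h6 : c⁻¹ * g = g * c⁻¹ := by
        rw [inv_mul_eq_iff_eq_mul, ← mul_assoc, ← h5, mul_inv_cancel_right]
      calc g * z * g⁻¹ = c * (c⁻¹ * g) * z * g⁻¹ := by group
        _ = c * (g * (c⁻¹ * z) * g⁻¹) := by rw [h6]; group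
    have h7 : z = c * (c⁻¹ * z) := by rw [mul_inv_cancel_left]
    rw [h4, mm c hc _ (hle h1), h2, mul_one]
    conv_rhs => rw [h7]
    rw [mm c hc _ (hle hcw), h3, mul_one]
  let N := rad h.hQQ h.hZ μ m1 mm
  have hNQ : N ≤ Q := fun x hx => hx.1
  have hQN : Q ≤ normalizer (N : Set G) := by
    refine le_normalizer_rad Subgroup.le_normalizer fun g hg z hz => ?_
    rw [← h.hZ z hz g hg, mul_inv_cancel_right]
  have hTN : T ≤ normalizer (N : Set G) := le_normalizer_rad h.hTQ hTμ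
  have hFN : F ≤ normalizer (N : Set G) := le_normalizer_rad hFQ hFμ
  -- the kernel of `T` on `Q / N`
  let S : Subgroup G :=
    { carrier := {t | t ∈ T ∧ ∀ x ∈ Q, t * x * t⁻¹ * x⁻¹ ∈ N}
      one_mem' := ⟨T.one_mem, fun x hx => by
        rw [one_mul, inv_one, mul_one, mul_inv_cancel]; exact N.one_mem⟩
      mul_mem' := fun {a b} ha hb => ⟨T.mul_mem ha.1 hb.1, fun x hx => by
        have h1 := ha.2 (b * x * b⁻¹) (Sect.conj_mem h.hTQ hb.1 hx)
        have h2 := hb.2 x hx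
        have h3 : a * b * x * (a * b)⁻¹ * x⁻¹ =
            (a * (b * x * b⁻¹) * a⁻¹ * (b * x * b⁻¹)⁻¹) * (b * x * b⁻¹ * x⁻¹) := by group
        rw [h3]
        exact N.mul_mem h1 h2⟩
      inv_mem' := fun {a} ha => ⟨T.inv_mem ha.1, fun x hx => by
        have h1 := ha.2 (a⁻¹ * x * a) (by
          have := Sect.conj_mem h.hTQ (T.inv_mem ha.1) hx
          rwa [inv_inv] at this)
        have h3 : a⁻¹ * x * a⁻¹⁻¹ * x⁻¹ = (a * (a⁻¹ * x * a) * a⁻¹ * (a⁻¹ * x * a)⁻¹)⁻¹ := by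
          group
        rw [h3]
        exact N.inv_mem h1⟩ }
  have hTS : ⁅T, F⁆ ≤ S := by
    rw [commutator_le]
    intro t ht f hf
    have hft : f * t⁻¹ * f⁻¹ ∈ T := Sect.conj_mem hFT hf (T.inv_mem ht)
    have hcm : ⁅t, f⁆ = t * (f * t⁻¹ * f⁻¹) := by rw [commutatorElement_def]; group
    rw [hcm]
    refine ⟨T.mul_mem ht hft, fun x hx => ?_⟩
    have hfx : f⁻¹ * x * f ∈ Q := by
      have := Sect.conj_mem hFQ (F.inv_mem hf) hx
      rwa [inv_inv] at this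
    have hy : t⁻¹ * (f⁻¹ * x * f) * t ∈ Q := by
      have := Sect.conj_mem h.hTQ (T.inv_mem ht) hfx
      rwa [inv_inv] at this
    have hQQ' : Q ≤ normalizer (Q : Set G) := Subgroup.le_normalizer
    rcases hpm t ht with h1 | h1
    · have h1' : ∀ x ∈ Q, t * x * t⁻¹ * x⁻¹ ∈ N := by
        intro x hx
        refine ⟨Q.mul_mem (Sect.conj_mem h.hTQ ht hx) (Q.inv_mem hx), fun y hy => ?_⟩
        exact h1 x hx y hy
      -- `f t⁻¹ f⁻¹` moves `x` to `x` modulo `N`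
      have h2 : (f * t⁻¹ * f⁻¹) * x * (f * t⁻¹ * f⁻¹)⁻¹ * x⁻¹ ∈ N := by
        have h3 := h1' _ hy
        have h4 := Sect.conj_mem hFN hf (N.inv_mem h3)
        have h5 : (f * t⁻¹ * f⁻¹) * x * (f * t⁻¹ * f⁻¹)⁻¹ * x⁻¹ =
            f * (t * (t⁻¹ * (f⁻¹ * x * f) * t) * t⁻¹ * (t⁻¹ * (f⁻¹ * x * f) * t)⁻¹)⁻¹ * f⁻¹ := by
          group
        rw [h5]
        exact h4
      have h3 := h1' _ (Sect.conj_mem h.hTQ hft hx)
      have h4 : t * (f * t⁻¹ * f⁻¹) * x * (t * (f * t⁻¹ * f⁻¹))⁻¹ * x⁻¹ =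
          (t * ((f * t⁻¹ * f⁻¹) * x * (f * t⁻¹ * f⁻¹)⁻¹) * t⁻¹ *
            ((f * t⁻¹ * f⁻¹) * x * (f * t⁻¹ * f⁻¹)⁻¹)⁻¹) *
            ((f * t⁻¹ * f⁻¹) * x * (f * t⁻¹ * f⁻¹)⁻¹ * x⁻¹) := by group
      rw [h4]
      exact N.mul_mem h3 h2
    · have h1' : ∀ x ∈ Q, t * x * t⁻¹ * x ∈ N := by
        intro x hx
        refine ⟨Q.mul_mem (Sect.conj_mem h.hTQ ht hx) hx, fun y hy => ?_⟩
        exact h1 x hx y hy
      -- `f t⁻¹ f⁻¹` moves `x` to `x⁻¹` modulo `N`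
      have h2 : x * ((f * t⁻¹ * f⁻¹) * x * (f * t⁻¹ * f⁻¹)⁻¹) ∈ N := by
        have h3 := h1' _ hy
        have h4 := Sect.conj_mem hFN hf h3
        have h5 : x * ((f * t⁻¹ * f⁻¹) * x * (f * t⁻¹ * f⁻¹)⁻¹) =
            f * (t * (t⁻¹ * (f⁻¹ * x * f) * t) * t⁻¹ * (t⁻¹ * (f⁻¹ * x * f) * t)) * f⁻¹ := by
          group
        rw [h5]
        exact h4
      have h3 := h1' _ (Sect.conj_mem h.hTQ hft hx)
      have h4 : t * (f * t⁻¹ * f⁻¹) * x * (t * (f * t⁻¹ * f⁻¹))⁻¹ * x⁻¹ =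
          (t * ((f * t⁻¹ * f⁻¹) * x * (f * t⁻¹ * f⁻¹)⁻¹) * t⁻¹ *
            ((f * t⁻¹ * f⁻¹) * x * (f * t⁻¹ * f⁻¹)⁻¹)) *
            (x * ((f * t⁻¹ * f⁻¹) * x * (f * t⁻¹ * f⁻¹)⁻¹))⁻¹ := by group
      rw [h4]
      exact N.mul_mem h3 (N.inv_mem h2)
  rw [hTF] at hTS
  have hQle : ⁅Q, T⁆ ≤ N := by
    rw [commutator_comm, commutator_le]
    intro t ht x hx
    exact (hTS ht).2 x hx
  rw [h.hQT] at hQle
  exact hne ((hQle hx0).2 y0 hy0)

end Cfsg.Agent.H575.FTop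
end

-- part: H575/MLev
section
/-!
# The main lemmas for elementary abelian groups
-/

set_option autoImplicit false
set_option linter.unusedSectionVars false
set_option linter.unusedVariables false

namespace Cfsg.Agent.H575.MLev

open Module Subgroup Cfsg.Agent.H575.Dim Cfsg.Agent.H575.Weights
  Cfsg.Agent.H575.Sect Cfsg.Agent.H575.Fix Cfsg.Agent.H575.KL Cfsg.Agent.H575.Lev
  Cfsg.Agent.H575.FTop Cfsg.Agent.H575.BC Cfsg.Agent.H575.HA Cfsg.Agent.H575.ModM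
open scoped commutatorElement

section Rep

variable {E : Type*} [Field E] [IsAlgClosed E] {G V : Type*} [Group G] [Finite G]
  [AddCommGroup V] [Module E V] [FiniteDimensional E V]

theorem eq_zero_of_sum' {π : Representation E G V} {N R : Subgroup G} {W : Submodule E V}
    (hR : (Nat.card R).Prime) (hRW : Pres π R W) (hRN : R ≤ normalizer (N : Set G)) {l : G → E}
    (hl : ¬ ∀ a ∈ R, Same N (cj a l) l) [Fintype R] {u : V} (hu : u ∈ wt π N W l)
    (hsum : ∑ a : R, π (a : G) u = 0) : u = 0 := by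
  classical
  have hsame := sum_same_eq_zero (π := π) (A := N) (W := W) Finset.univ (fun a : R => π a u)
    (fun a : R => cj (a : G) l)
    (fun a _ => apply_mem_wt (hRN a.2) (hRW a a.2) hu) hsum l
  have hone : ∀ r : R, Same N (cj (r : G) l) l → r = 1 := by
    intro r hr
    by_contra hr1
    apply hl
    have : Fact (Nat.card R).Prime := ⟨hR⟩
    have hgen : ∀ x : R, x ∈ Subgroup.zpowers r := fun x => mem_zpowers_of_prime_card rfl hr1
    intro s hs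
    have h1 : (r : G) ∈ stab N l := ⟨hRN r.2, hr⟩
    obtain ⟨n, hn⟩ := hgen ⟨s, hs⟩
    have hn' : (r : G) ^ n = s := congrArg Subtype.val hn
    have h2 : s ∈ stab N l := by
      rw [← hn']
      exact Subgroup.zpow_mem _ h1 n
    exact h2.2
  have hfil : (Finset.univ.filter fun a : R => Same N (cj (a : G) l) l) = {1} := by
    ext a
    rw [Finset.mem_filter, Finset.mem_singleton]
    constructor
    · rintro ⟨-, ha⟩
      exact hone a ha
    · rintro rfl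
      refine ⟨Finset.mem_univ _, ?_⟩
      rw [Subgroup.coe_one, cj_one]
      exact Same.refl N l
  rw [hfil, Finset.sum_singleton, Subgroup.coe_one, map_one, Module.End.one_apply] at hsame
  exact hsame

/-- an abelian group `A = [A, R]` acts trivially if `R` has no fixed points -/
theorem fix0 (π : Representation E G V) {A R : Subgroup G} (hRA : R ≤ normalizer (A : Set G))
    (hcomm : ⁅A, R⁆ = A) (hR : (Nat.card R).Prime) (hab : ∀ a ∈ A, ∀ b ∈ A, a * b = b * a)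
    (hAE : (Nat.card A : E) ≠ 0) (hfix : fix π R = ⊥) : ∀ a ∈ A, π a = 1 := by
  classical
  have : Fintype R := Fintype.ofFinite R
  intro a ha
  have hle : (⊤ : Submodule E V) ≤ LinearMap.ker (π a - 1) := by
    refine le_of_wt_le (π := π) (A := A) (W := ⊤) hAE
      (fun _ _ _ _ => Submodule.mem_top) (fun a ha b hb w _ => by
        rw [← mul_apply', ← mul_apply', hab a ha b hb]) _ ?_
    intro l u hu
    rw [LinearMap.mem_ker, LinearMap.sub_apply, Module.End.one_apply]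
    by_cases hl : ∀ a ∈ R, Same A (cj a l) l
    · by_cases hbot : wt π A ⊤ l = ⊥
      · rw [hbot, Submodule.mem_bot] at hu
        rw [hu, map_zero, sub_zero]
      obtain ⟨l1, lm, -, -⟩ := wt_facts hbot
      have h1 : l a = 1 := by
        refine kills hRA l l1 lm (fun g hg x hx => ?_) a (by rw [hcomm]; exact ha)
        have h2 := hl g⁻¹ (R.inv_mem hg) x hx
        have h3 : cj g⁻¹ l x = l (g⁻¹⁻¹ * x * g⁻¹) := rfl
        rw [h3, inv_inv] at h2
        exact h2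
      rw [hu.2 a ha, h1, one_smul, sub_self]
    · have h1 : ∑ a : R, π (a : G) u = 0 := by
        have h2 : (∑ a : R, π (a : G) u) ∈ fix π R := by
          intro b hb
          rw [map_sum]
          refine Fintype.sum_bijective (fun y => ⟨b, hb⟩ * y) (Group.mulLeft_bijective _) _ _
            fun y => ?_
          rw [← mul_apply']
          rfl
        rw [hfix, Submodule.mem_bot] at h2
        exact h2
      have h2 := eq_zero_of_sum' hR (fun _ _ _ _ => Submodule.mem_top) hRA hl hu h1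
      rw [h2, map_zero, sub_zero]
  ext v
  have h2 := hle (Submodule.mem_top (x := v))
  rw [LinearMap.mem_ker, LinearMap.sub_apply, sub_eq_zero] at h2
  exact h2

end Rep

universe u

variable {M : Type u} [CommGroup M] [Finite M] {p : ℕ} [hp : Fact p.Prime]
  {P Z A R : Subgroup (MulAut M)} {r s q : ℕ}

theorem not_dvd {s : ℕ} (hs : s.Prime) (hsp : s ≠ p) {B : Subgroup (MulAut M)}
    (hB : IsPGroup s B) : ¬ p ∣ Nat.card B := cop_of_ne hp.out hs hsp.symm hB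

theorem not_dvd_R (h : Nat.card R = r) (hr : r.Prime) (hrp : r ≠ p) : ¬ p ∣ Nat.card R := by
  rw [h]
  intro h1
  exact hrp ((Nat.prime_dvd_prime_iff_eq hp.out hr).mp h1).symm

theorem kl_M (hM : ∀ m : M, m ^ p = 1) (h : LD P Z A R r s q) (hsp : s ≠ p) (hrp : r ≠ p)
    (Y : Subgroup (MulAut M)) (hY : IsPGroup q Y)
    (hYR : ∀ y ∈ Y, ∀ a ∈ R, y * a = a * y) (hYP : Y ≤ normalizer (P : Set (MulAut M)))
    (hZY : ∀ z ∈ Z, ∀ y ∈ Y, z * y = y * z)
    (hAY : ∀ a ∈ A, ∀ y ∈ Y, ∀ x ∈ P, ⁅a, y⁆ * x = x * ⁅a, y⁆)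
    {D : Subgroup (MulAut M)} (hD : D = ⁅⁅P, A⁆ ⊓ centralizer (R : Set (MulAut M)), Y⁆)
    (hne : ∃ d ∈ D, d ≠ 1) :
    ∃ d ∈ D, ∃ m ∈ brm ⁅P, R⁆, (∀ a ∈ R, a m = m) ∧ d m ≠ m := by
  by_contra hcon
  push Not at hcon
  obtain ⟨V, i1, i2, i3, π, hinj, -, -, -, hinv⟩ := exists_rep hM
  obtain ⟨d, hd, hd1⟩ := hne
  apply hd1
  apply hinj
  have hle : ⁅P, R⁆ ≤ P := Lib.CoprimeCommutator.commutator_le_left h.hRP
  refine kl h π (cl_ne_zero fun h1 => hsp ((Nat.prime_dvd_prime_iff_eq hp.out h.hs).mp h1).symm)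
    (cl_ne_zero fun h1 => hrp ((Nat.prime_dvd_prime_iff_eq hp.out h.hr).mp h1).symm) Y hY hYR
    hYP hZY hAY hD ?_ d hd
  intro x hx
  exact hinv _ _ x (not_dvd h.hs hsp (h.hP.to_le hle)) (not_dvd_R h.hR h.hr hrp)
    (Lib.CoprimeCommutator.right_le_normalizer_commutator P R) fun m hm hmR => hcon x hx m hm hmR

theorem kl0_M (hM : ∀ m : M, m ^ p = 1) (h : LD P Z A R r s q) (hsp : s ≠ p) (hrp : r ≠ p)
    (hPA : ⁅P, A⁆ = P) (hne : ∃ d ∈ P ⊓ centralizer (R : Set (MulAut M)), d ≠ 1) :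
    ∃ d ∈ P ⊓ centralizer (R : Set (MulAut M)), ∃ m ∈ brm ⁅P, R⁆, (∀ a ∈ R, a m = m) ∧
      d m ≠ m := by
  by_contra hcon
  push Not at hcon
  obtain ⟨V, i1, i2, i3, π, hinj, -, -, -, hinv⟩ := exists_rep hM
  obtain ⟨d, hd, hd1⟩ := hne
  apply hd1
  apply hinj
  have hle : ⁅P, R⁆ ≤ P := Lib.CoprimeCommutator.commutator_le_left h.hRP
  refine kl0 h π (cl_ne_zero fun h1 => hsp ((Nat.prime_dvd_prime_iff_eq hp.out h.hs).mp h1).symm)
    (cl_ne_zero fun h1 => hrp ((Nat.prime_dvd_prime_iff_eq hp.out h.hr).mp h1).symm) hPA ?_ d hd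
  intro x hx
  exact hinv _ _ x (not_dvd h.hs hsp (h.hP.to_le hle)) (not_dvd_R h.hR h.hr hrp)
    (Lib.CoprimeCommutator.right_le_normalizer_commutator P R) fun m hm hmR => hcon x hx m hm hmR

theorem nv_M (hM : ∀ m : M, m ^ p = 1) (h : LD P Z A R r s q) (hsp : s ≠ p) (hrp : r ≠ p)
    (hPA : ⁅P, A⁆ = P) {x : MulAut M} (hx : x ∈ P)
    (hxR : x ∈ centralizer (R : Set (MulAut M)))
    (hinvM : ∀ m ∈ brm ⁅P, R⁆, (∀ a ∈ R, a m = m) → x m = m) : ∀ y ∈ P, ⁅x, y⁆ = 1 := by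
  obtain ⟨V, i1, i2, i3, π, hinj, -, -, -, hinv⟩ := exists_rep hM
  intro y hy
  apply hinj
  have hle : ⁅P, R⁆ ≤ P := Lib.CoprimeCommutator.commutator_le_left h.hRP
  exact nv h π (cl_ne_zero fun h1 => hsp ((Nat.prime_dvd_prime_iff_eq hp.out h.hs).mp h1).symm)
    (cl_ne_zero fun h1 => hrp ((Nat.prime_dvd_prime_iff_eq hp.out h.hr).mp h1).symm) hPA hx hxR
    (hinv _ _ x (not_dvd h.hs hsp (h.hP.to_le hle)) (not_dvd_R h.hR h.hr hrp)
    (Lib.CoprimeCommutator.right_le_normalizer_commutator P R) hinvM) y hy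

theorem fix0_M (hM : ∀ m : M, m ^ p = 1) (hRA : R ≤ normalizer (A : Set (MulAut M)))
    (hcomm : ⁅A, R⁆ = A) (hR : Nat.card R = r) (hr : r.Prime) (hrp : r ≠ p)
    (hab : ∀ a ∈ A, ∀ b ∈ A, a * b = b * a)
    (hA : ¬ p ∣ Nat.card A) (hne : ∃ a ∈ A, a ≠ 1) : ∃ m : M, m ≠ 1 ∧ ∀ a ∈ R, a m = m := by
  by_contra hcon
  push Not at hcon
  obtain ⟨V, i1, i2, i3, π, hinj, -, -, hbot, -⟩ := exists_rep hM
  obtain ⟨d, hd, hd1⟩ := hne
  apply hd1
  apply hinj
  refine fix0 π hRA hcomm (by rw [hR]; exact hr) hab (cl_ne_zero hA)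
    (hbot R (not_dvd_R hR hr hrp) fun m hm => ?_) d hd
  by_contra hm1
  obtain ⟨a, ha, hne⟩ := hcon m hm1
  exact hne (hm a ha)

variable {Q T : Subgroup (MulAut M)}

theorem top_vec_M (hM : ∀ m : M, m ^ p = 1) (h : TD Q Z T R r s) (hsp : s ≠ p) (hrp : r ≠ p)
    (hT : ∀ m : M, (∀ a ∈ R, a m = m) → ∀ t ∈ T, t m = m)
    (hQ0 : ∀ m : M, (∀ x ∈ Q, x m = m) → m = 1) {z : MulAut M} (hz : z ∈ Z) (hz1 : z ≠ 1) :
    ∃ m : M, (∀ a ∈ R, a m = m) ∧ z m ≠ m := by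
  by_contra hcon
  push Not at hcon
  obtain ⟨V, i1, i2, i3, π, hinj, -, hfix, hbot, -⟩ := exists_rep hM
  have hsE : (s : AlgebraicClosure (ZMod p)) ≠ 0 :=
    cl_ne_zero fun h1 => hsp ((Nat.prime_dvd_prime_iff_eq hp.out h.hs).mp h1).symm
  have hrE : (r : AlgebraicClosure (ZMod p)) ≠ 0 :=
    cl_ne_zero fun h1 => hrp ((Nat.prime_dvd_prime_iff_eq hp.out h.hr).mp h1).symm
  have hR := not_dvd_R h.hR h.hr hrp
  obtain ⟨v, hv, hzv⟩ := top_vec h hsE hrE
    (fun v hv t ht => hfix R t hR (fun m hm => hT m hm t ht) v hv)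
    (hbot Q (not_dvd h.hs hsp h.hQ) hQ0) hz (fun h1 => hz1 (hinj _ h1))
  exact hzv (hfix R z hR hcon v hv)

theorem top_z_M [hnt : Nontrivial M] (hM : ∀ m : M, m ^ p = 1) (h : TD Q Z T R r s) (hsp : s ≠ p)
    (hrp : r ≠ p)
    (hT : ∀ m : M, (∀ a ∈ R, a m = m) → ∀ t ∈ T, t m = m)
    (hQ0 : ∀ m : M, (∀ x ∈ Q, x m = m) → m = 1) :
    ∃ z ∈ Z, z ∈ centralizer (R : Set (MulAut M)) ∧ z ≠ 1 := by
  obtain ⟨V, i1, i2, i3, π, hinj, hnt', hfix, hbot, -⟩ := exists_rep hM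
  have := hnt' hnt
  have hsE : (s : AlgebraicClosure (ZMod p)) ≠ 0 :=
    cl_ne_zero fun h1 => hsp ((Nat.prime_dvd_prime_iff_eq hp.out h.hs).mp h1).symm
  have hR := not_dvd_R h.hR h.hr hrp
  obtain ⟨z, hz, hzR, hz1⟩ := top_z h hsE
    (fun v hv t ht => hfix R t hR (fun m hm => hT m hm t ht) v hv)
    (hbot Q (not_dvd h.hs hsp h.hQ) hQ0)
  exact ⟨z, hz, hzR, fun h1 => hz1 (by rw [h1, map_one])⟩

theorem top_F_M [hnt : Nontrivial M] (hM : ∀ m : M, m ^ p = 1) (h : TD Q Z T R r s) (hsp : s ≠ p)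
    (hrp : r ≠ p)
    (hT : ∀ m : M, (∀ a ∈ R, a m = m) → ∀ t ∈ T, t m = m)
    (hQ0 : ∀ m : M, (∀ x ∈ Q, x m = m) → m = 1) {F : Subgroup (MulAut M)}
    (hFQ : F ≤ normalizer (Q : Set (MulAut M))) (hFZ : F ≤ normalizer (Z : Set (MulAut M)))
    (hFR : ∀ f ∈ F, ∀ a ∈ R, f * a = a * f) (hTF : ⁅T, F⁆ = T)
    (hFT : F ≤ normalizer (T : Set (MulAut M)))
    (hFC : ∀ z ∈ Z, z ∈ centralizer (R : Set (MulAut M)) → ∀ f ∈ F, f * z = z * f) : False := by
  obtain ⟨V, i1, i2, i3, π, hinj, hnt', hfix, hbot, -⟩ := exists_rep hM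
  have := hnt' hnt
  have hsE : (s : AlgebraicClosure (ZMod p)) ≠ 0 :=
    cl_ne_zero fun h1 => hsp ((Nat.prime_dvd_prime_iff_eq hp.out h.hs).mp h1).symm
  have hrE : (r : AlgebraicClosure (ZMod p)) ≠ 0 :=
    cl_ne_zero fun h1 => hrp ((Nat.prime_dvd_prime_iff_eq hp.out h.hr).mp h1).symm
  have hR := not_dvd_R h.hR h.hr hrp
  exact top_F h hsE hrE
    (fun v hv t ht => hfix R t hR (fun m hm => hT m hm t ht) v hv)
    (hbot Q (not_dvd h.hs hsp h.hQ) hQ0) hFQ hFZ hFR hTF hFT hFC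

end Cfsg.Agent.H575.MLev
end

-- part: H575/Model
section
/-!
# Models of elementary abelian sections
-/

set_option autoImplicit false
set_option linter.unusedSectionVars false
set_option linter.unusedVariables false

namespace Cfsg.Agent.H575.Model

open Subgroup Cfsg.Agent.H575.Sect Cfsg.Agent.H575.Tower Cfsg.Agent.H575.BC
open scoped commutatorElement

universe u

variable {Γ : Type u} [Group Γ]

/-- the group acting on `L / ZL` -/
def nn (L ZL : Subgroup Γ) : Subgroup Γ := normalizer (L : Set Γ) ⊓ normalizer (ZL : Set Γ)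

/-- a model of the section `L / ZL` -/
structure Mod (L ZL : Subgroup Γ) (p : ℕ) {M : Type u} [CommGroup M] (f : L →* M)
    (θ : nn L ZL →* MulAut M) : Prop where
  surj : Function.Surjective f
  ker : ∀ l : L, f l = 1 ↔ (l : Γ) ∈ ZL
  eq : ∀ (g : nn L ZL) (l l' : L), (l' : Γ) = g * l * (g : Γ)⁻¹ → θ g (f l) = f l'
  exp : ∀ m : M, m ^ p = 1

theorem exists_mod [Finite Γ] {L ZL : Subgroup Γ} {p : ℕ} (hZL : ZL ≤ L)
    (hLL : ∀ x ∈ L, ∀ y ∈ L, ⁅x, y⁆ ∈ ZL)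
    (hLp : ∀ x ∈ L, x ^ p ∈ ZL) :
    ∃ (M : Type u) (_ : CommGroup M) (_ : Finite M) (f : L →* M) (θ : nn L ZL →* MulAut M),
      Mod L ZL p f θ := by
  have hn : (ZL.subgroupOf L).Normal := by
    refine ⟨fun z hz x => ?_⟩
    rw [Subgroup.mem_subgroupOf] at hz ⊢
    have h1 : ((x * z * x⁻¹ : L) : Γ) = ⁅(x : Γ), (z : Γ)⁆ * z := by
      rw [commutatorElement_def, inv_mul_cancel_right]
      rfl
    rw [h1]
    exact ZL.mul_mem (hLL _ x.2 _ z.2) hz
  let instM : CommGroup (L ⧸ ZL.subgroupOf L) := { (inferInstance : Group (L ⧸ ZL.subgroupOf L)) with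
    mul_comm := by
      intro x y
      induction x using QuotientGroup.induction_on with | H x => ?_
      induction y using QuotientGroup.induction_on with | H y => ?_
      change ((x * y : L) : L ⧸ ZL.subgroupOf L) = ((y * x : L) : L ⧸ ZL.subgroupOf L)
      rw [QuotientGroup.eq, Subgroup.mem_subgroupOf]
      have h1 : (((x * y)⁻¹ * (y * x) : L) : Γ) = ⁅(y : Γ)⁻¹, (x : Γ)⁻¹⁆ := by
        rw [commutatorElement_def, inv_inv, inv_inv]
        simp [mul_assoc]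
      rw [h1]
      exact hLL _ (L.inv_mem y.2) _ (L.inv_mem x.2) }
  refine ⟨L ⧸ ZL.subgroupOf L, instM, inferInstance, QuotientGroup.mk' (ZL.subgroupOf L),
    secAct (nn L ZL) L ZL inf_le_left inf_le_right, ?_⟩
  refine ⟨QuotientGroup.mk'_surjective _, ?_, ?_, ?_⟩
  · intro l
    exact QuotientGroup.eq_one_iff l
  · intro g l l' hl'
    have h1 := secAct_mk (H := nn L ZL) (L := L) (N := ZL) inf_le_left inf_le_right g l
    refine h1.trans ?_
    exact congrArg _ (Subtype.ext hl'.symm)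
  · intro m
    induction m using QuotientGroup.induction_on with | H x => ?_
    have h1 : ((x : L) : L ⧸ ZL.subgroupOf L) ^ p = ((x ^ p : L) : L ⧸ ZL.subgroupOf L) := rfl
    refine h1.trans ?_
    exact (QuotientGroup.eq_one_iff _).mpr (hLp x x.2)

variable {L ZL : Subgroup Γ} {p : ℕ} {M : Type u} [CommGroup M] {f : L →* M}
  {θ : nn L ZL →* MulAut M}

/-- the image of a subgroup -/
def im (θ : nn L ZL →* MulAut M) (H : Subgroup Γ) : Subgroup (MulAut M) :=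
  (H.subgroupOf (nn L ZL)).map θ

theorem mem_im {H : Subgroup Γ} {x : MulAut M} :
    x ∈ im θ H ↔ ∃ g : nn L ZL, (g : Γ) ∈ H ∧ θ g = x := Iff.rfl

theorem mem_im_of {H : Subgroup Γ} {g : nn L ZL} (hg : (g : Γ) ∈ H) : θ g ∈ im θ H :=
  ⟨g, hg, rfl⟩

theorem im_mono {H K : Subgroup Γ} (h : H ≤ K) : im θ H ≤ im θ K := by
  rintro _ ⟨g, hg, rfl⟩
  exact ⟨g, h hg, rfl⟩

theorem im_comm [Finite Γ] {H K : Subgroup Γ} (hH : H ≤ nn L ZL) (hK : K ≤ nn L ZL) :
    im θ ⁅H, K⁆ = ⁅im θ H, im θ K⁆ := by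
  rw [im, im, im, ← Subgroup.map_commutator, HA.commutator_subgroupOf hH hK]

theorem im_norm {H K : Subgroup Γ} (h : H ≤ normalizer (K : Set Γ)) :
    im θ H ≤ normalizer (im θ K : Set (MulAut M)) := by
  refine le_norm ?_
  rintro _ ⟨g, hg, rfl⟩ _ ⟨k, hk, rfl⟩
  exact ⟨g * k * g⁻¹, Sect.conj_mem h hg hk, by simp⟩

theorem im_pgroup {H : Subgroup Γ} {s : ℕ} (h : IsPGroup s H) : IsPGroup s (im θ H) :=
  (h.comap_of_injective _ (nn L ZL).subtype_injective).map _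

theorem mem_norm_L {g : Γ} (hg : g ∈ nn L ZL) {l : Γ} (hl : l ∈ L) : g * l * g⁻¹ ∈ L :=
  Sect.conj_mem (H := nn L ZL) inf_le_left hg hl

/-- fixed points -/
theorem Mod.fix_iff (h : Mod L ZL p f θ) {g : nn L ZL} {l : L} :
    θ g (f l) = f l ↔ ⁅(g : Γ), (l : Γ)⁆ ∈ ZL := by
  have h1 := h.eq g l ⟨g * l * (g : Γ)⁻¹, mem_norm_L g.2 l.2⟩ rfl
  rw [h1]
  have h2 := h.ker (⟨g * l * (g : Γ)⁻¹, mem_norm_L g.2 l.2⟩ * l⁻¹)
  rw [map_mul, map_inv, mul_inv_eq_one] at h2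
  rw [h2]
  rfl

theorem Mod.eq_one_iff (h : Mod L ZL p f θ) {g : nn L ZL} :
    θ g = 1 ↔ ∀ l ∈ L, ⁅(g : Γ), l⁆ ∈ ZL := by
  constructor
  · intro h1 l hl
    exact (h.fix_iff (g := g) (l := ⟨l, hl⟩)).mp (by rw [h1]; rfl)
  · intro h1
    ext m
    obtain ⟨l, rfl⟩ := h.surj m
    exact (h.fix_iff).mpr (h1 l l.2)

theorem Mod.mul_comm_iff (h : Mod L ZL p f θ) {g k : nn L ZL} :
    θ g * θ k = θ k * θ g ↔ ∀ l ∈ L, ⁅⁅(g : Γ), (k : Γ)⁆, l⁆ ∈ ZL := by
  rw [← commutatorElement_eq_one_iff_mul_comm, ← map_commutatorElement, h.eq_one_iff]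
  rfl

/-- elements of `[M, B]` come from `[L, B]` -/
theorem Mod.brm_lift (h : Mod L ZL p f θ) {B : Subgroup Γ}
    {m : M} (hm : m ∈ brm (im θ B)) : ∃ l : L, (l : Γ) ∈ ⁅L, B⁆ ∧ f l = m := by
  have hle : brm (im θ B) ≤ ((⁅L, B⁆ : Subgroup Γ).subgroupOf L).map f := by
    rw [brm, closure_le]
    rintro _ ⟨_, ⟨b, hb, rfl⟩, u, rfl⟩
    obtain ⟨l, rfl⟩ := h.surj u
    have h1 := h.eq b l ⟨b * l * (b : Γ)⁻¹, mem_norm_L b.2 l.2⟩ rfl
    rw [h1]
    refine ⟨⟨b * l * (b : Γ)⁻¹, mem_norm_L b.2 l.2⟩ * l⁻¹, ?_, by rw [map_mul, map_inv]⟩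
    show (b : Γ) * l * (b : Γ)⁻¹ * (l : Γ)⁻¹ ∈ ⁅L, B⁆
    rw [← commutatorElement_def, commutator_comm]
    exact commutator_mem_commutator hb l.2
  obtain ⟨l, hl, rfl⟩ := hle hm
  exact ⟨l, hl, rfl⟩

variable [Finite Γ] {R : Subgroup Γ} {r : ℕ}

/-- lifting fixed elements of the section -/
theorem Mod.lift_fixed (h : Mod L ZL p f θ) (hr : r.Prime) (hR : IsPGroup r R)
    (hrL : ¬ r ∣ Nat.card L) (hRS : R ≤ nn L ZL) {N : Subgroup Γ} (hNL : N ≤ L)
    (hRN : R ≤ normalizer (N : Set Γ)) {l : L} (hl : (l : Γ) ∈ N)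
    (hfix : ∀ a ∈ im θ R, a (f l) = f l) :
    ∃ c : L, (c : Γ) ∈ N ∧ (c : Γ) ∈ centralizer (R : Set Γ) ∧ f c = f l := by
  have hn : R ≤ normalizer ((ZL ⊓ N : Subgroup Γ) : Set Γ) :=
    le_normalizer_inf (hRS.trans inf_le_right) hRN
  obtain ⟨c, hc, hcN⟩ := exists_cent_coset hr hR hn (fun h1 => hrL (h1.trans
    (Subgroup.card_dvd_of_le (inf_le_right.trans hNL)))) (k := (l : Γ)) (by
      intro a ha
      refine ⟨?_, N.mul_mem (N.inv_mem hl) (Sect.conj_mem hRN ha hl)⟩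
      have h1 := hfix _ (mem_im_of (g := ⟨a, hRS ha⟩) ha)
      rw [h.fix_iff] at h1
      have h2 : (l : Γ)⁻¹ * (a * l * a⁻¹) = (l : Γ)⁻¹ * ⁅a, (l : Γ)⁆ * (l : Γ)⁻¹⁻¹ := by
        rw [commutatorElement_def]
        group
      rw [SetLike.mem_coe, h2]
      -- `ZL` is normalised by `L`
      have h3 : (l : Γ)⁻¹ * ⁅a, (l : Γ)⁆ * (l : Γ)⁻¹⁻¹ ∈ L := by
        refine L.mul_mem (L.mul_mem (L.inv_mem l.2) ?_) (L.inv_mem (L.inv_mem l.2))
        rw [commutatorElement_def]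
        exact L.mul_mem (mem_norm_L (hRS ha) l.2) (L.inv_mem l.2)
      have h4 : ⁅a, (l : Γ)⁆ ∈ L := by
        rw [commutatorElement_def]
        exact L.mul_mem (mem_norm_L (hRS ha) l.2) (L.inv_mem l.2)
      have h5 := (h.ker ⟨_, h3⟩).mp (by
        have h6 : (⟨_, h3⟩ : L) = l⁻¹ * ⟨_, h4⟩ * l⁻¹⁻¹ := rfl
        rw [h6, map_mul, map_mul, (h.ker ⟨_, h4⟩).mpr h1, mul_one, ← map_mul, mul_inv_cancel,
          map_one])
      exact h5)
  have hcN' : c ∈ N := by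
    have := N.mul_mem hl hcN.2
    rwa [mul_inv_cancel_left] at this
  refine ⟨⟨c, hNL hcN'⟩, hcN', hc, ?_⟩
  have h2 := (h.ker (l⁻¹ * ⟨c, hNL hcN'⟩)).mpr hcN.1
  rw [map_mul, map_inv, inv_mul_eq_one] at h2
  exact h2.symm

/-- lifting elements of the image commuting with `R` -/
theorem Mod.lift_cent (h : Mod L ZL p f θ) (hr : r.Prime) (hR : IsPGroup r R)
    (hRS : R ≤ nn L ZL) {N : Subgroup Γ} (hNS : N ≤ nn L ZL) (hrN : ¬ r ∣ Nat.card N)
    (hRN : R ≤ normalizer (N : Set Γ)) {g : nn L ZL} (hg : (g : Γ) ∈ N)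
    (hcom : ∀ a ∈ im θ R, a * θ g = θ g * a) :
    ∃ c : nn L ZL, (c : Γ) ∈ N ∧ (c : Γ) ∈ centralizer (R : Set Γ) ∧ θ c = θ g := by
  let Kr : Subgroup Γ := N ⊓ (θ.ker).map (nn L ZL).subtype
  have hKr : R ≤ normalizer (Kr : Set Γ) := by
    refine le_normalizer_inf hRN (le_norm ?_)
    rintro a ha _ ⟨k, hk, rfl⟩
    refine ⟨⟨a, hRS ha⟩ * k * ⟨a, hRS ha⟩⁻¹, ?_, rfl⟩
    rw [SetLike.mem_coe, MonoidHom.mem_ker] at hk ⊢
    rw [map_mul, map_mul, hk, mul_one, ← map_mul, mul_inv_cancel, map_one]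
  obtain ⟨c, hc, hcN⟩ := exists_cent_coset hr hR hKr (fun h1 => hrN (h1.trans
    (Subgroup.card_dvd_of_le inf_le_left))) (k := (g : Γ)) (by
      intro a ha
      refine ⟨N.mul_mem (N.inv_mem hg) (Sect.conj_mem hRN ha hg), ?_⟩
      refine ⟨g⁻¹ * (⟨a, hRS ha⟩ * g * ⟨a, hRS ha⟩⁻¹), ?_, rfl⟩
      rw [SetLike.mem_coe, MonoidHom.mem_ker]
      have h1 := hcom _ (mem_im_of (g := ⟨a, hRS ha⟩) ha)
      rw [map_mul, map_mul, map_mul, h1, map_inv, map_inv, mul_inv_cancel_right, inv_mul_cancel])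
  have hcN' : c ∈ N := by
    have := N.mul_mem hg hcN.1
    rwa [mul_inv_cancel_left] at this
  obtain ⟨k, hk, hkc⟩ := hcN.2
  refine ⟨⟨c, hNS hcN'⟩, hcN', hc, ?_⟩
  have h1 : k = g⁻¹ * ⟨c, hNS hcN'⟩ := Subtype.ext hkc
  rw [SetLike.mem_coe, MonoidHom.mem_ker, h1, map_mul, map_inv, inv_mul_eq_one] at hk
  exact hk.symm

end Cfsg.Agent.H575.Model
end

-- part: H575/GLev
section
/-!
# Group-level versions of the main lemmas
-/

set_option autoImplicit false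
set_option linter.unusedSectionVars false
set_option linter.unusedVariables false

namespace Cfsg.Agent.H575.GLev

open Subgroup Cfsg.Agent.H575.Sect Cfsg.Agent.H575.Tower Cfsg.Agent.H575.BC
  Cfsg.Agent.H575.Model Cfsg.Agent.H575.Lev Cfsg.Agent.H575.FTop Cfsg.Agent.H575.HA
open scoped commutatorElement

universe u

variable {Γ : Type u} [Group Γ]

/-- the data of a level of the tower -/
structure GD (L ZL P Z K A R : Subgroup Γ) (r s q p : ℕ) : Prop where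
  hr : r.Prime
  hs : s.Prime
  hq : q.Prime
  hp : p.Prime
  hrs : r ≠ s
  hrq : r ≠ q
  hqs : q ≠ s
  hrp : r ≠ p
  hsp : s ≠ p
  hR : Nat.card R = r
  hL : IsPGroup p L
  hZL : ZL ≤ L
  hLL : ∀ x ∈ L, ∀ y ∈ L, ⁅x, y⁆ ∈ ZL
  hLp : ∀ x ∈ L, x ^ p ∈ ZL
  hPS : P ≤ nn L ZL
  hAS : A ≤ nn L ZL
  hRS : R ≤ nn L ZL
  hRL : ∃ a ∈ R, ∃ l ∈ L, ⁅a, l⁆ ∉ ZL
  hP : IsPGroup s P
  hKP : K ≤ P
  hK : ∀ x ∈ P, (∀ l ∈ L, ⁅x, l⁆ ∈ ZL) ↔ x ∈ K
  hZP : Z ≤ P
  hPP : ∀ x ∈ P, ∀ y ∈ P, ⁅x, y⁆ ∈ Z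
  hPs : ∀ x ∈ P, x ^ s ∈ Z
  hZ : ∀ z ∈ Z, ∀ x ∈ P, ⁅z, x⁆ ∈ K
  hA : IsPGroup q A
  hAP : A ≤ normalizer (P : Set Γ)
  hZA : ∀ z ∈ Z, ∀ a ∈ A, ⁅z, a⁆ ∈ K
  hRP : R ≤ normalizer (P : Set Γ)
  hRZ : R ≤ normalizer (Z : Set Γ)
  hRA : R ≤ normalizer (A : Set Γ)
  hcomm : ⁅A, R⁆ = A
  hA3 : ∀ a ∈ A, ∀ b ∈ A, ∀ c ∈ A, ∀ x ∈ P, ⁅⁅⁅a, b⁆, c⁆, x⁆ ∈ K
  hAq : ∀ a ∈ A, ∀ b ∈ A, ∀ x ∈ P, ⁅⁅a ^ q, b⁆, x⁆ ∈ K

/-- `x` acts nontrivially on the fixed points of `R` in `[L / ZL, B]` -/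
def Vis (L ZL B R : Subgroup Γ) (x : Γ) : Prop :=
  ∃ g ∈ ⁅L, B⁆, g ∈ centralizer (R : Set Γ) ∧ ⁅x, g⁆ ∉ ZL

variable {L ZL P Z K A R : Subgroup Γ} {r s q p : ℕ} {M : Type u} [CommGroup M] {f : L →* M}
  {θ : nn L ZL →* MulAut M}

theorem isPGroup_of_card (hr : r.Prime) (hR : Nat.card R = r) : IsPGroup r R := by
  have : Fact r.Prime := ⟨hr⟩
  exact IsPGroup.of_card (n := 1) (by rw [hR, pow_one])

variable [Finite Γ]

theorem card_im_R (hm : Mod L ZL p f θ) (hr : r.Prime) (hR : Nat.card R = r)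
    (hRS : R ≤ nn L ZL) (hRL : ∃ a ∈ R, ∃ l ∈ L, ⁅a, l⁆ ∉ ZL) : Nat.card (im θ R) = r := by
  have h1 : Nat.card (im θ R) ∣ r := by
    have h2 := Subgroup.card_map_dvd (f := θ) (H := R.subgroupOf (nn L ZL))
    rwa [Nat.card_congr (Subgroup.subgroupOfEquivOfLe hRS).toEquiv, hR] at h2
  rcases (Nat.dvd_prime hr).mp h1 with h2 | h2
  · exfalso
    obtain ⟨a, ha, l, hl, hne⟩ := hRL
    apply hne
    have h3 : θ ⟨a, hRS ha⟩ = 1 := by
      have h4 : θ ⟨a, hRS ha⟩ ∈ im θ R := mem_im_of (g := ⟨a, hRS ha⟩) ha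
      rw [Subgroup.card_eq_one.mp h2, Subgroup.mem_bot] at h4
      exact h4
    exact hm.eq_one_iff.mp h3 l hl
  · exact h2

theorem vis_of (hm : Mod L ZL p f θ) (hr : r.Prime) (hR : IsPGroup r R)
    (hrL : ¬ r ∣ Nat.card L) (hRS : R ≤ nn L ZL) {B : Subgroup Γ} (hBS : B ≤ nn L ZL)
    (hRB : R ≤ normalizer (B : Set Γ)) {d : nn L ZL}
    (h : ∃ m ∈ brm (im θ B), (∀ a ∈ im θ R, a m = m) ∧ θ d m ≠ m) : Vis L ZL B R d := by
  obtain ⟨m, hmb, hmR, hdm⟩ := h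
  obtain ⟨l, hl, rfl⟩ := hm.brm_lift hmb
  have hle : ⁅L, B⁆ ≤ L := Lib.CoprimeCommutator.commutator_le_left (hBS.trans inf_le_left)
  obtain ⟨c, hc, hcR, hcl⟩ := hm.lift_fixed hr hR hrL hRS hle
    (le_normalizer_commutator (hRS.trans inf_le_left) hRB) hl hmR
  refine ⟨c, hc, hcR, fun h1 => hdm ?_⟩
  rw [← hcl]
  exact hm.fix_iff.mpr h1

theorem GD.toLD (h : GD L ZL P Z K A R r s q p) (hm : Mod L ZL p f θ) :
    LD (im θ P) (im θ Z) (im θ A) (im θ R) r s q := by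
  have hZS : Z ≤ nn L ZL := h.hZP.trans h.hPS
  have hone : ∀ g : nn L ZL, (g : Γ) ∈ K → θ g = 1 := by
    intro g hg
    rw [hm.eq_one_iff]
    exact (h.hK g (h.hKP hg)).mpr hg
  have hcom : ∀ g k : nn L ZL, ⁅(g : Γ), (k : Γ)⁆ ∈ K → θ g * θ k = θ k * θ g := by
    intro g k hgk
    rw [← commutatorElement_eq_one_iff_mul_comm, ← map_commutatorElement]
    exact hone _ hgk
  refine
    { hr := h.hr
      hs := h.hs
      hq := h.hq
      hrs := h.hrs
      hrq := h.hrq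
      hqs := h.hqs
      hR := card_im_R hm h.hr h.hR h.hRS h.hRL
      hP := im_pgroup h.hP
      hZP := im_mono h.hZP
      hPP := ?_
      hPs := ?_
      hZ := ?_
      hA := im_pgroup h.hA
      hAP := im_norm h.hAP
      hZA := ?_
      hRP := im_norm h.hRP
      hRZ := im_norm h.hRZ
      hRA := im_norm h.hRA
      hcomm := by rw [← im_comm h.hAS h.hRS, h.hcomm]
      hA3 := ?_
      hAq := ?_ }
  · rintro _ ⟨x, hx, rfl⟩ _ ⟨y, hy, rfl⟩
    rw [← map_commutatorElement]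
    exact mem_im_of (h.hPP _ hx _ hy)
  · rintro _ ⟨x, hx, rfl⟩
    rw [← map_pow]
    exact mem_im_of (h.hPs _ hx)
  · rintro _ ⟨x, hx, rfl⟩ _ ⟨y, hy, rfl⟩
    exact hcom _ _ (h.hZ _ hx _ hy)
  · rintro _ ⟨x, hx, rfl⟩ _ ⟨y, hy, rfl⟩
    exact hcom _ _ (h.hZA _ hx _ hy)
  · rintro _ ⟨a, ha, rfl⟩ _ ⟨b, hb, rfl⟩ _ ⟨c, hc, rfl⟩ _ ⟨x, hx, rfl⟩
    rw [← map_commutatorElement, ← map_commutatorElement]
    exact hcom _ _ (h.hA3 _ ha _ hb _ hc _ hx)
  · rintro _ ⟨a, ha, rfl⟩ _ ⟨b, hb, rfl⟩ _ ⟨x, hx, rfl⟩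
    rw [← map_pow, ← map_commutatorElement]
    exact hcom _ _ (h.hAq _ ha _ hb _ hx)

theorem not_dvd_of {r s : ℕ} (hr : r.Prime) (hs : s.Prime) (hrs : r ≠ s) {P : Subgroup Γ}
    (hP : IsPGroup s P) : ¬ r ∣ Nat.card P := cop_of_ne hr hs hrs hP

/-- the fixed points of `R` in the image -/
theorem im_cent (hm : Mod L ZL p f θ) (hr : r.Prime) (hR : IsPGroup r R)
    (hRS : R ≤ nn L ZL) {N : Subgroup Γ} (hNS : N ≤ nn L ZL) (hrN : ¬ r ∣ Nat.card N)
    (hRN : R ≤ normalizer (N : Set Γ)) :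
    im θ N ⊓ centralizer (im θ R : Set (MulAut M)) =
      im θ (N ⊓ centralizer (R : Set Γ)) := by
  apply le_antisymm
  · rintro x ⟨⟨g, hg, rfl⟩, hx⟩
    have hx' : θ g ∈ centralizer (im θ R : Set (MulAut M)) := hx
    obtain ⟨c, hc, hcR, hcg⟩ := hm.lift_cent hr hR hRS hNS hrN hRN hg
      (fun a ha => Subgroup.mem_centralizer_iff.mp hx' a ha)
    rw [← hcg]
    exact mem_im_of (g := c) ⟨hc, hcR⟩
  · rintro _ ⟨g, hg, rfl⟩
    have h1 : θ g ∈ centralizer (im θ R : Set (MulAut M)) := by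
      rw [Subgroup.mem_centralizer_iff]
      rintro _ ⟨a, ha, rfl⟩
      rw [← map_mul, ← map_mul]
      congr 1
      exact Subtype.ext (Subgroup.mem_centralizer_iff.mp hg.2 a ha)
    exact ⟨mem_im_of hg.1, h1⟩

theorem klG (h : GD L ZL P Z K A R r s q p) {Y : Subgroup Γ} (hY : IsPGroup q Y)
    (hYS : Y ≤ nn L ZL) (hYR : ∀ y ∈ Y, ∀ a ∈ R, y * a = a * y)
    (hYP : Y ≤ normalizer (P : Set Γ)) (hZY : ∀ z ∈ Z, ∀ y ∈ Y, ⁅z, y⁆ ∈ K)
    (hAY : ∀ a ∈ A, ∀ y ∈ Y, ∀ x ∈ P, ⁅⁅a, y⁆, x⁆ ∈ K)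
    (hne : ∃ d ∈ ⁅⁅P, A⁆ ⊓ centralizer (R : Set Γ), Y⁆, d ∉ K) :
    ∃ d ∈ ⁅⁅P, A⁆ ⊓ centralizer (R : Set Γ), Y⁆, Vis L ZL ⁅P, R⁆ R d := by
  have hpf : Fact p.Prime := ⟨h.hp⟩
  obtain ⟨M, i1, i2, f, θ, hm⟩ := exists_mod h.hZL h.hLL h.hLp
  have hLD := h.toLD hm
  have hRp : IsPGroup r R := isPGroup_of_card h.hr h.hR
  have hrL := not_dvd_of h.hr h.hp h.hrp h.hL
  have hle : ⁅P, A⁆ ≤ P := Lib.CoprimeCommutator.commutator_le_left h.hAP
  have hD : im θ ⁅⁅P, A⁆ ⊓ centralizer (R : Set Γ), Y⁆ =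
      ⁅⁅im θ P, im θ A⁆ ⊓ centralizer (im θ R : Set (MulAut M)), im θ Y⁆ := by
    rw [← im_comm h.hPS h.hAS, im_cent hm h.hr hRp h.hRS (hle.trans h.hPS)
      (not_dvd_of h.hr h.hs h.hrs (h.hP.to_le hle)) (le_normalizer_commutator h.hRP h.hRA),
      ← im_comm ((inf_le_left.trans hle).trans h.hPS) hYS]
  have hDP : ⁅⁅P, A⁆ ⊓ centralizer (R : Set Γ), Y⁆ ≤ P := by
    refine (commutator_mono (inf_le_left.trans hle) le_rfl).trans ?_
    exact Lib.CoprimeCommutator.commutator_le_left hYP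
  have hcom : ∀ g k : nn L ZL, ⁅(g : Γ), (k : Γ)⁆ ∈ K → θ g * θ k = θ k * θ g := by
    intro g k hgk
    rw [← commutatorElement_eq_one_iff_mul_comm, ← map_commutatorElement, hm.eq_one_iff]
    exact (h.hK _ (h.hKP hgk)).mpr hgk
  obtain ⟨_, ⟨d, hd, rfl⟩, hdm⟩ := MLev.kl_M hm.exp hLD h.hsp h.hrp (im θ Y) (im_pgroup hY) (by
      rintro _ ⟨y, hy, rfl⟩ _ ⟨a, ha, rfl⟩
      rw [← map_mul, ← map_mul]
      congr 1
      exact Subtype.ext (hYR _ hy _ ha)) (im_norm hYP) (by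
      rintro _ ⟨z, hz, rfl⟩ _ ⟨y, hy, rfl⟩
      exact hcom _ _ (hZY _ hz _ hy)) (by
      rintro _ ⟨a, ha, rfl⟩ _ ⟨y, hy, rfl⟩ _ ⟨x, hx, rfl⟩
      rw [← map_commutatorElement]
      exact hcom _ _ (hAY _ ha _ hy _ hx)) hD (by
      obtain ⟨d, hd, hdK⟩ := hne
      refine ⟨θ ⟨d, h.hPS (hDP hd)⟩, mem_im_of (g := ⟨d, h.hPS (hDP hd)⟩) hd, fun h1 => hdK ?_⟩
      exact (h.hK d (hDP hd)).mp (hm.eq_one_iff.mp h1))
  refine ⟨d, hd, ?_⟩
  refine vis_of hm h.hr hRp hrL h.hRS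
    ((Lib.CoprimeCommutator.commutator_le_left h.hRP).trans h.hPS)
    (Lib.CoprimeCommutator.right_le_normalizer_commutator P R) ?_
  rwa [im_comm h.hPS h.hRS]

theorem kl0G (h : GD L ZL P Z K A R r s q p) (hPA : ⁅P, A⁆ = P)
    (hne : ∃ d ∈ P ⊓ centralizer (R : Set Γ), d ∉ K) :
    ∃ d ∈ P ⊓ centralizer (R : Set Γ), Vis L ZL ⁅P, R⁆ R d := by
  have hpf : Fact p.Prime := ⟨h.hp⟩
  obtain ⟨M, i1, i2, f, θ, hm⟩ := exists_mod h.hZL h.hLL h.hLp
  have hLD := h.toLD hm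
  have hRp : IsPGroup r R := isPGroup_of_card h.hr h.hR
  have hrL := not_dvd_of h.hr h.hp h.hrp h.hL
  have hce := im_cent hm h.hr hRp h.hRS h.hPS (not_dvd_of h.hr h.hs h.hrs h.hP) h.hRP
  obtain ⟨x, hx, hxm⟩ := MLev.kl0_M hm.exp hLD h.hsp h.hrp
    (by rw [← im_comm h.hPS h.hAS, hPA]) (by
      obtain ⟨d, hd, hdK⟩ := hne
      rw [hce]
      refine ⟨θ ⟨d, h.hPS hd.1⟩, mem_im_of (g := ⟨d, h.hPS hd.1⟩) hd, fun h1 => hdK ?_⟩
      exact (h.hK d hd.1).mp (hm.eq_one_iff.mp h1))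
  rw [hce] at hx
  obtain ⟨d, hd, rfl⟩ := hx
  refine ⟨d, hd, ?_⟩
  refine vis_of hm h.hr hRp hrL h.hRS
    ((Lib.CoprimeCommutator.commutator_le_left h.hRP).trans h.hPS)
    (Lib.CoprimeCommutator.right_le_normalizer_commutator P R) ?_
  rwa [im_comm h.hPS h.hRS]

theorem nvG (h : GD L ZL P Z K A R r s q p) (hPA : ⁅P, A⁆ = P) {x : Γ} (hx : x ∈ P)
    (hxR : x ∈ centralizer (R : Set Γ)) (hinv : ¬ Vis L ZL ⁅P, R⁆ R x) : ∀ y ∈ P, ⁅x, y⁆ ∈ K := by
  have hpf : Fact p.Prime := ⟨h.hp⟩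
  obtain ⟨M, i1, i2, f, θ, hm⟩ := exists_mod h.hZL h.hLL h.hLp
  have hLD := h.toLD hm
  have hRp : IsPGroup r R := isPGroup_of_card h.hr h.hR
  have hrL := not_dvd_of h.hr h.hp h.hrp h.hL
  have hce := im_cent hm h.hr hRp h.hRS h.hPS (not_dvd_of h.hr h.hs h.hrs h.hP) h.hRP
  have hx' : θ ⟨x, h.hPS hx⟩ ∈ im θ P ⊓ centralizer (im θ R : Set (MulAut M)) := by
    rw [hce]
    exact mem_im_of (g := ⟨x, h.hPS hx⟩) ⟨hx, hxR⟩
  intro y hy
  have h1 := MLev.nv_M hm.exp hLD h.hsp h.hrp (by rw [← im_comm h.hPS h.hAS, hPA]) hx'.1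
    hx'.2 (by
      intro m hmb hmR
      by_contra hne
      apply hinv
      refine vis_of hm h.hr hRp hrL h.hRS
        ((Lib.CoprimeCommutator.commutator_le_left h.hRP).trans h.hPS)
        (Lib.CoprimeCommutator.right_le_normalizer_commutator P R)
        (d := ⟨x, h.hPS hx⟩) ⟨m, ?_, hmR, hne⟩
      rwa [im_comm h.hPS h.hRS]) (θ ⟨y, h.hPS hy⟩) (mem_im_of (g := ⟨y, h.hPS hy⟩) hy)
  rw [← map_commutatorElement, hm.eq_one_iff] at h1
  have hxy : ⁅x, y⁆ ∈ P := by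
    rw [commutatorElement_def]
    exact P.mul_mem (P.mul_mem (P.mul_mem hx hy) (P.inv_mem hx)) (P.inv_mem hy)
  exact (h.hK _ hxy).mp h1

end Cfsg.Agent.H575.GLev
end
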