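import Cfsg.Agent.H575.ExtraFix_mg
import Cfsg.Agent.Lib.CoprimeAbelian
import Mathlib.GroupTheory.Sylow
import Cfsg.Agent.Lib.CoprimeCommutator
import Mathlib.GroupTheory.QuotientGroup.Basic
import Mathlib.Tactic
import Cfsg.Agent.H575.GroupM
import Cfsg.Agent.Blocks.ModularTraces
set_option linter.all false

-- part: H575/Fix
section
/-!
# Fixed points and the image of a representation
-/

set_option autoImplicit false
set_option linter.unusedSectionVars false

namespace Cfsg.Agent.H575.Fix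

open Module Subgroup Cfsg.Agent.H575.Dim Cfsg.Agent.H575.ModM Cfsg.Agent.H575.ExtraMod
  Cfsg.Agent.H575.ExtraIrr
open scoped commutatorElement

section Def

variable {k : Type*} [Field k] {G V : Type*} [Group G] [AddCommGroup V] [Module k V]

/-- the fixed points of `R` -/
def fix (ρ : Representation k G V) (R : Subgroup G) : Submodule k V where
  carrier := {v | ∀ a ∈ R, ρ a v = v}
  add_mem' := by
    intro u v hu hv a ha
    rw [map_add, hu a ha, hv a ha]
  zero_mem' := fun a _ => map_zero _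
  smul_mem' := by
    intro c v hv a ha
    rw [map_smul, hv a ha]

theorem mem_fix {ρ : Representation k G V} {R : Subgroup G} {v : V} :
    v ∈ fix ρ R ↔ ∀ a ∈ R, ρ a v = v := Iff.rfl

/-- the image of the group in the general linear group -/
def toImg (ρ : Representation k G V) : G →* (MonoidHom.toHomUnits ρ).range :=
  (MonoidHom.toHomUnits ρ).rangeRestrict

/-- the faithful representation of the image -/
def imgRep (ρ : Representation k G V) :
    Representation k (MonoidHom.toHomUnits ρ).range V :=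
  (Units.coeHom (Module.End k V)).comp (MonoidHom.toHomUnits ρ).range.subtype

theorem imgRep_toImg (ρ : Representation k G V) (g : G) : imgRep ρ (toImg ρ g) = ρ g := rfl

theorem toImg_eq_one {ρ : Representation k G V} {g : G} : toImg ρ g = 1 ↔ ρ g = 1 := by
  constructor
  · intro h
    rw [← imgRep_toImg, h, map_one]
  · intro h
    apply Subtype.ext
    apply Units.ext
    exact h

theorem toImg_eq {ρ : Representation k G V} {g h : G} (hgh : ρ g = ρ h) :
    toImg ρ g = toImg ρ h := by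
  apply Subtype.ext
  apply Units.ext
  exact hgh

end Def

end Cfsg.Agent.H575.Fix
end

-- part: H575/Mult
section
/-!
# The image of an irreducible representation of a group of class two, and multiplicities
-/

set_option autoImplicit false
set_option linter.unusedSectionVars false

namespace Cfsg.Agent.H575.Mult

open Module Subgroup Cfsg.Agent.H575.Dim Cfsg.Agent.H575.ModM Cfsg.Agent.H575.ExtraMod
  Cfsg.Agent.H575.ExtraIrr Cfsg.Agent.H575.Fix
open scoped commutatorElement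

/-- `C_F(R) ≤ N` if `[F, R] = F`, `F' ≤ N` and the orders are coprime. -/
theorem cent_le_gen {Γ : Type*} [Group Γ] [Finite Γ] {R F N : Subgroup Γ}
    (hRs : (Nat.card R).Coprime (Nat.card F))
    (hab : ⁅F, F⁆ ≤ N) (hRF : R ≤ normalizer (F : Set Γ)) (hcomm : ⁅F, R⁆ = F) :
    F ⊓ centralizer (R : Set Γ) ≤ N := by
  classical
  let N' : Subgroup F := N.subgroupOf F
  have hN' : ∀ x y : F, x * y * x⁻¹ * y⁻¹ ∈ N' := by
    intro x y
    exact hab (Subgroup.commutator_mem_commutator x.2 y.2)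
  have hnorm : N'.Normal := by
    refine ⟨fun n hn g => ?_⟩
    have h1 : g * n * g⁻¹ = (g * n * g⁻¹ * n⁻¹) * n := by group
    rw [h1]
    exact N'.mul_mem (hN' g n) hn
  let inst : CommGroup (F ⧸ N') := { (inferInstance : Group (F ⧸ N')) with
    mul_comm := by
      intro x y
      induction x using QuotientGroup.induction_on with | H x => ?_
      induction y using QuotientGroup.induction_on with | H y => ?_
      change ((x * y : F) : F ⧸ N') = ((y * x : F) : F ⧸ N')
      rw [QuotientGroup.eq]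
      have h := hN' y⁻¹ x⁻¹
      have h2 : (x * y)⁻¹ * (y * x) = y⁻¹ * x⁻¹ * y⁻¹⁻¹ * x⁻¹⁻¹ := by group
      rw [h2]
      exact h }
  have : Fintype R := Fintype.ofFinite R
  let T : F →* F ⧸ N' :=
    { toFun := fun x => ∏ a : R, QuotientGroup.mk' N'
        ⟨a * x * (a : Γ)⁻¹, conj_mem_of_le_normalizer hRF a.2 x.2⟩
      map_one' := by
        refine Finset.prod_eq_one fun a _ => ?_
        have : (⟨a * ((1 : F) : Γ) * (a : Γ)⁻¹, conj_mem_of_le_normalizer hRF a.2 (1 : F).2⟩ : F) = 1 := by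
          refine Subtype.ext ?_
          show (a : Γ) * 1 * (a : Γ)⁻¹ = 1
          group
        rw [this, map_one]
      map_mul' := by
        intro x y
        rw [← Finset.prod_mul_distrib]
        refine Finset.prod_congr rfl fun a _ => ?_
        rw [← map_mul]
        refine congrArg _ (Subtype.ext ?_)
        show (a : Γ) * (x * y) * (a : Γ)⁻¹ = a * x * (a : Γ)⁻¹ * (a * y * (a : Γ)⁻¹)
        group }
  have hT : ∀ x : F, T x = ∏ a : R, QuotientGroup.mk' N'
        ⟨a * x * (a : Γ)⁻¹, conj_mem_of_le_normalizer hRF a.2 x.2⟩ := fun x => rfl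
  have hTconj : ∀ (x : F) (b : R), T ⟨b * x * (b : Γ)⁻¹, conj_mem_of_le_normalizer hRF b.2 x.2⟩ = T x := by
    intro x b
    rw [hT, hT]
    refine Fintype.prod_equiv (Equiv.mulRight b) _ _ fun a => ?_
    refine congrArg _ (Subtype.ext ?_)
    show (a : Γ) * (b * x * (b : Γ)⁻¹) * (a : Γ)⁻¹ = ((a * b : R) : Γ) * x * ((a * b : R) : Γ)⁻¹
    rw [Subgroup.coe_mul]
    group
  have hker : ⁅F, R⁆ ≤ T.ker.map F.subtype := by
    rw [Subgroup.commutator_le]
    intro x hx b hb
    let x' : F := ⟨x, hx⟩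
    let y' : F := ⟨b * x * b⁻¹, conj_mem_of_le_normalizer hRF hb hx⟩
    refine ⟨x' * y'⁻¹, ?_, ?_⟩
    · show T (x' * y'⁻¹) = 1
      rw [map_mul, map_inv, mul_inv_eq_one]
      exact (hTconj x' ⟨b, hb⟩).symm
    · show x * (b * x * b⁻¹)⁻¹ = ⁅x, b⁆
      rw [commutatorElement_def]
      group
  have hT1 : ∀ x : F, T x = 1 := by
    intro x
    have h1 : (x : Γ) ∈ T.ker.map F.subtype := by
      apply hker
      rw [hcomm]
      exact x.2
    obtain ⟨y, hy, hxy⟩ := h1
    have : y = x := Subtype.ext hxy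
    rw [← this]
    exact hy
  rintro x ⟨hxF, hxR⟩
  have h1 := hT1 ⟨x, hxF⟩
  rw [hT] at h1
  have h2 : ∀ a : R, QuotientGroup.mk' N'
        ⟨a * ((⟨x, hxF⟩ : F) : Γ) * (a : Γ)⁻¹, conj_mem_of_le_normalizer hRF a.2 (⟨x, hxF⟩ : F).2⟩ =
        QuotientGroup.mk' N' ⟨x, hxF⟩ := by
    intro a
    refine congrArg _ (Subtype.ext ?_)
    show (a : Γ) * x * (a : Γ)⁻¹ = x
    rw [Subgroup.mem_centralizer_iff.mp hxR a a.2]
    group
  rw [Finset.prod_congr rfl fun a _ => h2 a, Finset.prod_const, Finset.card_univ,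
    ← Nat.card_eq_fintype_card] at h1
  have h3 : (Nat.card R).Coprime (Nat.card (F ⧸ N')) :=
    hRs.coprime_dvd_right (Subgroup.card_quotient_dvd_card N')
  have h6 := Lib.CoprimeAbelian.eq_one_of_pow_coprime h3 _ h1
  have h7 : (⟨x, hxF⟩ : F) ∈ N' := (QuotientGroup.eq_one_iff _).mp h6
  exact h7

theorem commutator_map_one {G H : Type*} [Group G] [Group H] (f : G →* H) {x y : G}
    (h : f ⁅x, y⁆ = 1) : f x * f y = f y * f x := by
  rw [map_commutatorElement, commutatorElement_eq_one_iff_mul_comm] at h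
  exact h

section Img

variable {E : Type*} [Field E] [IsAlgClosed E] {G V : Type*} [Group G] [Finite G]
    [AddCommGroup V] [Module E V] [FiniteDimensional E V] {ρ : Representation E G V}

instance : Finite (MonoidHom.toHomUnits ρ).range :=
  Finite.of_surjective _ (MonoidHom.toHomUnits ρ).rangeRestrict_surjective

theorem irr_img {F : Subgroup G} (hirr : Irr (ρ.comp F.subtype)) :
    Irr ((imgRep ρ).comp (F.map (toImg ρ)).subtype) := by
  refine ⟨hirr.1, fun W hW => hirr.2 W ?_⟩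
  intro h w hw
  exact hW ⟨toImg ρ h, ⟨h, h.2, rfl⟩⟩ w hw

/-- a faithful representation in which the centre acts by scalars -/
theorem ed_of_scal {H : Type*} [Group H] [Finite H] {π : Representation E H V}
    (hinj : ∀ x y, π x = π y → x = y) {F R : Subgroup H} {r s : ℕ} (hr : r.Prime) (hs : s.Prime)
    (hrs : r ≠ s) (hR : Nat.card R ∣ r) (hF : IsPGroup s F) (hRF : R ≤ normalizer (F : Set H))
    (hcomm : ⁅F, R⁆ = F) (h1 : ∀ x ∈ F, ∀ y ∈ F, ∀ z ∈ F, ⁅⁅x, y⁆, z⁆ = 1)
    (h2 : ∀ x ∈ F, ∀ y ∈ F, ⁅x ^ s, y⁆ = 1) [hnt : Nontrivial V]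
    (hscal : ∀ z : F, z ∈ center F → ∃ c : E, ∀ v, π (z : H) v = c • v) (hFne : F ≠ ⊥) :
    ED F R r s := by
  have : Fact s.Prime := ⟨hs⟩
  have : Fact r.Prime := ⟨hr⟩
  have hRcard : Nat.card R = r := by
    rcases (Nat.dvd_prime hr).mp hR with h | h
    · exfalso
      apply hFne
      rw [← hcomm, Subgroup.card_eq_one.mp h, Subgroup.commutator_bot_right]
    · exact h
  have hcopF : (Nat.card R).Coprime (Nat.card F) := by
    obtain ⟨k, hk⟩ := hF.exists_card_eq
    rw [hRcard, hk]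
    exact Nat.Coprime.pow_right _ ((Nat.coprime_primes hr hs).mpr hrs)
  -- commutators are central
  have hab : ∀ x y : F, x * y * x⁻¹ * y⁻¹ ∈ center F := by
    intro x y
    rw [Subgroup.mem_center_iff]
    intro z
    apply Subtype.ext
    have h3 := commutatorElement_eq_one_iff_mul_comm.mp (h1 x x.2 y y.2 z z.2)
    rw [commutatorElement_def] at h3
    exact h3.symm
  -- central elements commute with everything
  have hZR : ∀ z ∈ center F, ∀ a : H, a * (z : H) = z * a := by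
    intro z hz a
    obtain ⟨c, hc⟩ := hscal z hz
    apply hinj
    apply LinearMap.ext
    intro v
    rw [mul_apply', mul_apply', hc, hc, map_smul]
  have hFF : ⁅F, F⁆ ≤ F := by
    rw [Subgroup.commutator_le]
    intro u hu v hv
    rw [commutatorElement_def]
    exact F.mul_mem (F.mul_mem (F.mul_mem hu hv) (F.inv_mem hu)) (F.inv_mem hv)
  have h4 : ∀ w ∈ ⁅F, F⁆, w ^ s = 1 ∧ ∀ x ∈ F, w * x = x * w := by
    intro w hw
    have hw' := hw
    rw [Subgroup.commutator_def] at hw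
    induction hw using Subgroup.closure_induction with
    | mem w hw =>
      obtain ⟨x, hx, y, hy, rfl⟩ := hw
      have hc1 : ∀ g ∈ F, ⁅x, y⁆ * g = g * ⁅x, y⁆ := by
        intro g hg
        exact commutatorElement_eq_one_iff_mul_comm.mp (h1 x hx y hy g hg)
      refine ⟨?_, hc1⟩
      -- `[x, y] ^ s = [x ^ s, y]`
      have h5 : ∀ n : ℕ, ⁅x, y⁆ ^ n = ⁅x ^ n, y⁆ := by
        intro n
        induction n with
        | zero => rw [pow_zero, pow_zero, commutatorElement_one_left]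
        | succ n ih =>
          have h6 : ⁅x ^ (n + 1), y⁆ = x * ⁅x ^ n, y⁆ * x⁻¹ * ⁅x, y⁆ := by
            simp only [commutatorElement_def, pow_succ']
            group
          rw [h6, ← ih, pow_succ]
          have h7 : x * ⁅x, y⁆ ^ n = ⁅x, y⁆ ^ n * x := by
            have h8 : Commute ⁅x, y⁆ x := hc1 _ hx
            exact (h8.pow_left n).eq.symm
          rw [h7, mul_inv_cancel_right]
      rw [h5]
      exact h2 x hx y hy
    | one => exact ⟨one_pow s, fun x _ => by rw [one_mul, mul_one]⟩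
    | mul a b ha hb iha ihb =>
      have ha' : a ∈ ⁅F, F⁆ := by rw [Subgroup.commutator_def]; exact ha
      have hb' : b ∈ ⁅F, F⁆ := by rw [Subgroup.commutator_def]; exact hb
      have iha := iha ha'
      have ihb := ihb hb'
      have hcab : Commute a b := iha.2 b (hFF hb')
      refine ⟨by rw [hcab.mul_pow, iha.1, ihb.1, one_mul], fun x hx => ?_⟩
      rw [mul_assoc, ihb.2 x hx, ← mul_assoc, iha.2 x hx, mul_assoc]
    | inv a ha iha =>
      have ha' : a ∈ ⁅F, F⁆ := by rw [Subgroup.commutator_def]; exact ha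
      have iha := iha ha'
      refine ⟨by rw [inv_pow, iha.1, inv_one], fun x hx => ?_⟩
      have h5 := iha.2 x hx
      calc a⁻¹ * x = a⁻¹ * (x * a) * a⁻¹ := by group
        _ = a⁻¹ * (a * x) * a⁻¹ := by rw [h5]
        _ = x * a⁻¹ := by group
  have hpow : ∀ z ∈ center F, z ^ s = 1 := by
    intro z hz
    have h3 : (z : H) ∈ ⁅F, F⁆ := by
      apply cent_le_gen hcopF le_rfl hRF hcomm
      refine ⟨z.2, Subgroup.mem_centralizer_iff.mpr fun a _ => hZR z hz a⟩
    apply Subtype.ext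
    exact (h4 _ h3).1
  have hZcard : Nat.card (center F) = s := by
    classical
    -- the map to scalars
    have hc : ∀ z : center F, ∃ c : E, ∀ v, π ((z : F) : H) v = c • v :=
      fun z => hscal z z.2
    choose c hc using hc
    obtain ⟨v0, hv0⟩ := exists_ne (0 : V)
    have hcinj : Function.Injective c := by
      intro z w hzw
      apply Subtype.ext
      apply Subtype.ext
      apply hinj
      apply LinearMap.ext
      intro v
      rw [hc, hc, hzw]
    have hcpow : ∀ z, c z ^ s = 1 := by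
      intro z
      have h3 : ∀ n : ℕ, π (((z : F) : H) ^ n) v0 = c z ^ n • v0 := by
        intro n
        induction n with
        | zero => simp
        | succ n ih => rw [pow_succ', mul_apply', ih, map_smul, hc, smul_smul, pow_succ]
      have h4 := h3 s
      have h5 : ((z : F) : H) ^ s = 1 := congrArg Subtype.val (hpow z z.2)
      rw [h5, map_one, Module.End.one_apply] at h4
      have h6 : (c z ^ s - 1) • v0 = 0 := by rw [sub_smul, one_smul, ← h4, sub_self]
      exact sub_eq_zero.mp ((smul_eq_zero.mp h6).resolve_right hv0)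
    have hle : Nat.card (center F) ≤ s := by
      have hs0 : 0 < s := hs.pos
      let g : center F → Polynomial.nthRootsFinset s (1 : E) :=
        fun z => ⟨c z, (Polynomial.mem_nthRootsFinset hs0 1).mpr (hcpow z)⟩
      have hg : Function.Injective g := fun z w h => hcinj (congrArg Subtype.val h)
      calc Nat.card (center F) ≤ Nat.card (Polynomial.nthRootsFinset s (1 : E)) :=
            Nat.card_le_card_of_injective g hg
        _ = (Polynomial.nthRootsFinset s (1 : E)).card := by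
            rw [Nat.card_eq_fintype_card, Fintype.card_coe]
        _ ≤ s := by
            rw [Polynomial.nthRootsFinset_def]
            exact (Multiset.toFinset_card_le _).trans (Polynomial.card_nthRoots s 1)
    have hnt' : Nontrivial (center F) := by
      have h3 : Nontrivial F := (Subgroup.nontrivial_iff_ne_bot F).mpr hFne
      exact hF.center_nontrivial
    have h3 : 1 < Nat.card (center F) := Finite.one_lt_card
    obtain ⟨k, hk⟩ := (hF.to_subgroup (center F)).exists_card_eq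
    rw [hk] at hle h3 ⊢
    have hk1 : k = 1 := by
      have h4 : k ≠ 0 := by
        rintro rfl
        simp at h3
      have h5 : k ≤ 1 := by
        by_contra hcon
        push Not at hcon
        have h6 : s ^ 2 ≤ s ^ k := Nat.pow_le_pow_right hs.pos hcon
        have h7 : s * 2 ≤ s ^ 2 := by rw [sq]; exact Nat.mul_le_mul_left s hs.two_le
        have := hs.pos
        omega
      omega
    rw [hk1, pow_one]
  exact
    { hr := hr
      hs := hs
      hrs := hrs
      hR := hRcard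
      hF := hF
      hZ := hZcard
      hab := hab
      hRF := hRF
      hcomm := hcomm
      hCF := by
        intro x hx
        apply cent_le_gen hcopF ?_ hRF hcomm hx
        rw [Subgroup.commutator_le]
        intro u hu v hv
        exact ⟨⟨u, hu⟩ * ⟨v, hv⟩ * ⟨u, hu⟩⁻¹ * ⟨v, hv⟩⁻¹, hab _ _, rfl⟩ }

/-- a faithful representation -/
theorem rd_faithful {H : Type*} [Group H] [Finite H] {π : Representation E H V}
    (hinj : ∀ x y, π x = π y → x = y) {F R : Subgroup H} {r s : ℕ} (hr : r.Prime) (hs : s.Prime)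
    (hrs : r ≠ s) (hR : Nat.card R ∣ r) (hF : IsPGroup s F) (hRF : R ≤ normalizer (F : Set H))
    (hcomm : ⁅F, R⁆ = F) (h1 : ∀ x ∈ F, ∀ y ∈ F, ∀ z ∈ F, ⁅⁅x, y⁆, z⁆ = 1)
    (h2 : ∀ x ∈ F, ∀ y ∈ F, ⁅x ^ s, y⁆ = 1) (hrE : (r : E) ≠ 0) (hsE : (s : E) ≠ 0)
    (hirr : Irr (π.comp F.subtype)) (hFne : F ≠ ⊥) : RD π F R r s := by
  have hnt := hirr.1
  -- scalars
  have hscal : ∀ z : F, z ∈ center F → ∃ c : E, ∀ v, π (z : H) v = c • v := by
    intro z hz
    refine hirr.scalar (π (z : H)) fun g v => ?_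
    show π (z : H) (π (g : H) v) = π (g : H) (π (z : H) v)
    rw [← mul_apply', ← mul_apply']
    have := congrArg Subtype.val (Subgroup.mem_center_iff.mp hz g)
    rw [Subgroup.coe_mul, Subgroup.coe_mul] at this
    rw [this]
  have hCV : ∀ v, (∀ g ∈ F, π g v = v) → v = 0 := by
    intro v hv
    by_contra hv0
    have h3 : fix π F = ⊥ ∨ fix π F = ⊤ := by
      apply hirr.2
      intro g w hw a ha
      have h4 : π (g : H) w = w := hw g g.2
      show π a (π (g : H) w) = π (g : H) w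
      rw [h4]
      exact hw a ha
    rcases h3 with h3 | h3
    · have h4 : v ∈ fix π F := hv
      rw [h3, Submodule.mem_bot] at h4
      exact hv0 h4
    · apply hFne
      rw [eq_bot_iff]
      intro x hx
      rw [Subgroup.mem_bot]
      apply hinj
      apply LinearMap.ext
      intro w
      have h4 : w ∈ fix π F := by rw [h3]; exact Submodule.mem_top
      rw [map_one]
      exact h4 x hx
  exact
    { toED := ed_of_scal hinj hr hs hrs hR hF hRF hcomm h1 h2 hscal hFne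
      hrE := hrE
      hsE := hsE
      hirr := hirr
      hCV := hCV }

/-- the image of an irreducible representation -/
theorem rd_img {F R : Subgroup G} {r s : ℕ} (hr : r.Prime) (hs : s.Prime) (hrs : r ≠ s)
    (hR : Nat.card R = r) (hF : IsPGroup s F) (hRF : R ≤ normalizer (F : Set G))
    (hcomm : ⁅F, R⁆ = F) (h1 : ∀ x ∈ F, ∀ y ∈ F, ∀ z ∈ F, ρ ⁅⁅x, y⁆, z⁆ = 1)
    (h2 : ∀ x ∈ F, ∀ y ∈ F, ρ ⁅x ^ s, y⁆ = 1) (hrE : (r : E) ≠ 0) (hsE : (s : E) ≠ 0)
    (hirr : Irr (ρ.comp F.subtype)) (hne : ∃ x ∈ F, ρ x ≠ 1) :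
    RD (imgRep ρ) (F.map (toImg ρ)) (R.map (toImg ρ)) r s := by
  refine rd_faithful ?_ hr hs hrs ?_ (hF.map _) ?_ ?_ ?_ ?_ hrE hsE (irr_img hirr) ?_
  · intro x y hxy
    exact Subtype.ext (Units.ext hxy)
  · rw [← hR]
    exact Subgroup.card_map_dvd (f := toImg ρ) (H := R)
  · refine le_normalizer_of_conj ?_
    rintro _ ⟨a, ha, rfl⟩ _ ⟨x, hx, rfl⟩
    exact ⟨a * x * a⁻¹, conj_mem_of_le_normalizer hRF ha hx, by simp⟩
  · rw [← Subgroup.map_commutator, hcomm]
  · rintro _ ⟨x, hx, rfl⟩ _ ⟨y, hy, rfl⟩ _ ⟨z, hz, rfl⟩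
    rw [← map_commutatorElement, ← map_commutatorElement]
    exact toImg_eq_one.mpr (h1 x hx y hy z hz)
  · rintro _ ⟨x, hx, rfl⟩ _ ⟨y, hy, rfl⟩
    rw [← map_pow, ← map_commutatorElement]
    exact toImg_eq_one.mpr (h2 x hx y hy)
  · obtain ⟨x0, hx0, hne⟩ := hne
    intro h
    apply hne
    have h3 : toImg ρ x0 ∈ F.map (toImg ρ) := ⟨x0, hx0, rfl⟩
    rw [h, Subgroup.mem_bot] at h3
    exact toImg_eq_one.mp h3

end Img

section Commutant

variable {E : Type*} [Field E] [IsAlgClosed E] {V : Type*}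
  [AddCommGroup V] [Module E V] [FiniteDimensional E V]

/-- the dimensions of the eigenspaces of an operator of finite order and the commutant -/
theorem sum_eigen (T : Module.End E V) {r : ℕ} (hr : (r : E) ≠ 0) (hT : T ^ r = 1)
    (C : Submodule E (Module.End E V)) (hC : ∀ S : Module.End E V, S * T = T * S → S ∈ C) :
    finrank E V = ∑ μ ∈ Polynomial.nthRootsFinset r (1 : E), finrank E (T.eigenspace μ) ∧
    ∑ μ ∈ Polynomial.nthRootsFinset r (1 : E), finrank E (T.eigenspace μ) ^ 2 ≤ finrank E C := by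
  classical
  have hr0 : 0 < r := Nat.pos_of_ne_zero (by rintro rfl; exact hr Nat.cast_zero)
  have hss : T.IsSemisimple := by
    apply Module.End.isSemisimple_of_squarefree_aeval_eq_zero (p := Polynomial.X ^ r - 1)
    · exact (Polynomial.X_pow_sub_one_separable_iff.mpr hr).squarefree
    · rw [map_sub, map_pow, Polynomial.aeval_X, map_one, sub_eq_zero, hT]
  have htop : ⨆ μ : E, T.eigenspace μ = ⊤ := by
    rw [← Module.End.iSup_maxGenEigenspace_eq_top T]
    exact iSup_congr fun μ => (hss.isFinitelySemisimple.maxGenEigenspace_eq_eigenspace μ).symm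
  let S : Finset E := Polynomial.nthRootsFinset r (1 : E)
  have hpow : ∀ (μ : E) (v : V), T v = μ • v → ∀ n : ℕ, (T ^ n) v = μ ^ n • v := by
    intro μ v hv n
    induction n with
    | zero => simp
    | succ n ih => rw [pow_succ', Module.End.mul_apply, ih, map_smul, hv, smul_smul, pow_succ]
  have hbot : ∀ μ : E, μ ∉ S → T.eigenspace μ = ⊥ := by
    intro μ hμ
    rw [eq_bot_iff]
    intro v hv
    rw [Module.End.mem_eigenspace_iff] at hv
    rw [Submodule.mem_bot]
    by_contra hv0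
    apply hμ
    rw [Polynomial.mem_nthRootsFinset hr0]
    have h2 := hpow μ v hv r
    rw [hT, Module.End.one_apply] at h2
    have h3 : (μ ^ r - 1) • v = 0 := by rw [sub_smul, one_smul, ← h2, sub_self]
    exact sub_eq_zero.mp ((smul_eq_zero.mp h3).resolve_right hv0)
  have htop' : ⨆ μ : S, T.eigenspace (μ : E) = ⊤ := by
    rw [eq_top_iff, ← htop]
    refine iSup_le fun μ => ?_
    by_cases h : μ ∈ S
    · exact le_iSup (fun μ : S => T.eigenspace (μ : E)) ⟨μ, h⟩
    · rw [hbot μ h]; exact bot_le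
  have hind : iSupIndep fun μ : S => T.eigenspace (μ : E) :=
    (T.eigenspaces_iSupIndep).comp Subtype.val_injective
  have hint := DirectSum.isInternal_submodule_of_iSupIndep_of_iSup_eq_top hind htop'
  let Φ : (∀ μ : S, T.eigenspace (μ : E)) ≃ₗ[E] V :=
    (DirectSum.linearEquivFunOnFintype E S fun μ : S => T.eigenspace (μ : E)).symm ≪≫ₗ
      LinearEquiv.ofBijective (DirectSum.coeLinearMap fun μ : S => T.eigenspace (μ : E)) hint
  have hΦs : ∀ (μ : S) (v : T.eigenspace (μ : E)), Φ (Pi.single μ v) = v := by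
    intro μ v
    show (DirectSum.coeLinearMap fun μ : S => T.eigenspace (μ : E))
      ((DirectSum.linearEquivFunOnFintype E S fun μ : S => T.eigenspace (μ : E)).symm
        (Pi.single μ v)) = v
    rw [DirectSum.linearEquivFunOnFintype_symm_single, DirectSum.coeLinearMap_lof]
  have hTΦ : ∀ w : (∀ μ : S, T.eigenspace (μ : E)),
      T (Φ w) = Φ fun μ => (μ : E) • w μ := by
    intro w
    have h2 : w = ∑ μ : S, Pi.single μ (w μ) := (Finset.univ_sum_single w).symm
    have h3 : (fun μ : S => (μ : E) • w μ) = ∑ μ : S, Pi.single μ ((μ : E) • w μ) :=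
      (Finset.univ_sum_single _).symm
    rw [h3]
    conv_lhs => rw [h2]
    rw [map_sum, map_sum, map_sum]
    refine Finset.sum_congr rfl fun μ _ => ?_
    rw [hΦs, hΦs]
    exact Module.End.mem_eigenspace_iff.mp (w μ).2
  -- block diagonal operators
  let Ψ : (∀ μ : S, Module.End E (T.eigenspace (μ : E))) →ₗ[E] Module.End E V :=
    { toFun := fun φ => Φ.toLinearMap ∘ₗ (LinearMap.pi fun μ => φ μ ∘ₗ LinearMap.proj μ) ∘ₗ
        Φ.symm.toLinearMap
      map_add' := by
        intro a b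
        apply LinearMap.ext
        intro v
        show Φ _ = Φ _ + Φ _
        rw [← map_add]
        rfl
      map_smul' := by
        intro c a
        apply LinearMap.ext
        intro v
        show Φ _ = c • Φ _
        rw [← map_smul]
        rfl }
  have hΨ : ∀ φ w, Ψ φ (Φ w) = Φ fun μ => φ μ (w μ) := by
    intro φ w
    show Φ _ = _
    congr 1
    funext μ
    show φ μ (Φ.symm (Φ w) μ) = φ μ (w μ)
    rw [LinearEquiv.symm_apply_apply]
  have hΨC : ∀ φ, Ψ φ ∈ C := by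
    intro φ
    apply hC
    apply LinearMap.ext
    intro v
    obtain ⟨w, rfl⟩ := Φ.surjective v
    rw [Module.End.mul_apply, Module.End.mul_apply, hTΦ, hΨ, hΨ, hTΦ]
    congr 1
    funext μ
    rw [map_smul]
  have hΨinj : Function.Injective Ψ := by
    intro a b hab
    funext μ
    apply LinearMap.ext
    intro v
    have h2 : Ψ a (Φ (Pi.single μ v)) = Ψ b (Φ (Pi.single μ v)) := by rw [hab]
    rw [hΨ, hΨ] at h2
    have h3 := congrFun (Φ.injective h2) μ
    simpa using h3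
  have h2 : finrank E (∀ μ : S, Module.End E (T.eigenspace (μ : E))) ≤ finrank E C :=
    LinearMap.finrank_le_finrank_of_injective (f := Ψ.codRestrict C hΨC)
      (fun a b hab => hΨinj (congrArg Subtype.val hab))
  rw [Module.finrank_pi_fintype] at h2
  have h3 : finrank E V = ∑ μ : S, finrank E (T.eigenspace (μ : E)) := by
    rw [← Φ.finrank_eq, Module.finrank_pi_fintype]
  have h4 : ∑ μ : S, finrank E (Module.End E (T.eigenspace (μ : E))) =
      ∑ μ : S, finrank E (T.eigenspace (μ : E)) ^ 2 := by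
    refine Finset.sum_congr rfl fun μ _ => ?_
    rw [Module.finrank_linearMap, sq]
  rw [h4] at h2
  constructor
  · rw [h3]
    exact Finset.sum_coe_sort S fun μ => finrank E (T.eigenspace μ)
  · rw [← Finset.sum_coe_sort S fun μ => finrank E (T.eigenspace μ) ^ 2]
    exact h2

end Commutant

section Mult

variable {E : Type*} [Field E] [IsAlgClosed E] {G V : Type*} [Group G] [Finite G]
    [AddCommGroup V] [Module E V] [FiniteDimensional E V] {ρ : Representation E G V}
    {F R : Subgroup G} {r s : ℕ}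

theorem mult_arith {d d0 c o r : ℕ} (hr : 2 ≤ r) (hd : d0 ≤ d)
    (h1 : o * r = d ^ 2 + (r - 1)) (h2 : c ≤ o)
    (h3 : (d - d0) ^ 2 + (r - 1) * d0 ^ 2 ≤ (r - 1) * c) :
    d ≤ r * d0 + (r - 1) ∧ r * d0 ≤ d + (r - 1) := by
  obtain ⟨t, rfl⟩ : ∃ t, r = t + 1 := ⟨r - 1, by omega⟩
  obtain ⟨e, rfl⟩ : ∃ e, d = d0 + e := ⟨d - d0, by omega⟩
  rw [Nat.add_sub_cancel] at *
  rw [Nat.add_sub_cancel_left] at h3
  -- `(d - r d0)^2 ≤ t^2`
  have h4 : (e ^ 2 + t * d0 ^ 2) * (t + 1) ≤ t * ((d0 + e) ^ 2 + t) := by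
    calc (e ^ 2 + t * d0 ^ 2) * (t + 1) ≤ t * c * (t + 1) := Nat.mul_le_mul_right _ h3
      _ ≤ t * o * (t + 1) := Nat.mul_le_mul_right _ (Nat.mul_le_mul_left _ h2)
      _ = t * ((d0 + e) ^ 2 + t) := by rw [mul_assoc, h1]
  have h5 : ((e : ℤ) - t * d0) ^ 2 ≤ (t : ℤ) ^ 2 := by
    zify at h4
    nlinarith
  have h6 := abs_le_of_sq_le_sq' h5 (by positivity)
  constructor
  · zify
    nlinarith [h6.2]
  · zify
    nlinarith [h6.1]

/-- **Multiplicities of the eigenvalue one.** -/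
theorem mult (h : RD ρ F R r s) :
    finrank E V ≤ r * finrank E (fix ρ R) + (r - 1) ∧
      r * finrank E (fix ρ R) ≤ finrank E V + (r - 1) := by
  have hp : Fact (Nat.card R).Prime := ⟨h.hR ▸ h.hr⟩
  have hnt : Nontrivial R := Finite.one_lt_card_iff_nontrivial.mp (hp.out.one_lt)
  obtain ⟨a0, ha0⟩ := exists_ne (1 : R)
  have hgen : ∀ a : R, ∃ n : ℕ, a0 ^ n = a := by
    intro a
    have h8 : a ∈ Subgroup.zpowers a0 := mem_zpowers_of_prime_card rfl ha0
    rw [← mem_powers_iff_mem_zpowers] at h8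
    exact h8
  let T0 : Module.End E V := ρ (a0 : G)
  let C : Submodule E (Module.End E V) :=
    { carrier := {S | S * T0 = T0 * S}
      add_mem' := by
        intro a b ha hb
        show (a + b) * T0 = T0 * (a + b)
        rw [add_mul, mul_add, ha, hb]
      zero_mem' := by
        show 0 * T0 = T0 * 0
        rw [zero_mul, mul_zero]
      smul_mem' := by
        intro c a ha
        show c • a * T0 = T0 * c • a
        rw [smul_mul_assoc, mul_smul_comm, ha] }
  have hT0r : T0 ^ r = 1 := by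
    show ρ (a0 : G) ^ r = 1
    rw [← map_pow, ← Subgroup.coe_pow, ← h.hR, pow_card_eq_one', Subgroup.coe_one, map_one]
  have hfix : fix ρ R = T0.eigenspace 1 := by
    ext v
    rw [mem_fix, Module.End.mem_eigenspace_iff, one_smul]
    constructor
    · intro hv
      exact hv a0 a0.2
    · intro hv a ha
      obtain ⟨n, hn⟩ := hgen ⟨a, ha⟩
      have h1 : (a0 : G) ^ n = a := by
        have := congrArg Subtype.val hn
        rwa [Subgroup.coe_pow] at this
      rw [← h1]
      have h2 : ∀ m : ℕ, ρ ((a0 : G) ^ m) v = v := by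
        intro m
        induction m with
        | zero => rw [pow_zero, map_one, Module.End.one_apply]
        | succ m ih => rw [pow_succ', mul_apply', ih]; exact hv
      exact h2 n
  obtain ⟨h3, h4⟩ := sum_eigen T0 h.hrE hT0r C (fun S hS => hS)
  have h2 := h.finrank_commutant_le T0 hgen rfl C (fun S hS => hS)
  have h1 := h.card_orbits
  rw [h.card_eq] at h1
  have hr0 : 0 < r := h.hr.pos
  have h1mem : (1 : E) ∈ Polynomial.nthRootsFinset r (1 : E) :=
    (Polynomial.mem_nthRootsFinset hr0 1).mpr (one_pow r)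
  classical
  rw [← Finset.add_sum_erase _ _ h1mem, ← hfix] at h3 h4
  refine mult_arith h.hr.two_le (by omega) h1 h2 ?_
  have h5 : finrank E V - finrank E (fix ρ R) =
      ∑ μ ∈ (Polynomial.nthRootsFinset r (1 : E)).erase 1, finrank E (T0.eigenspace μ) := by
    omega
  rw [h5]
  have h6 : ((Polynomial.nthRootsFinset r (1 : E)).erase 1).card ≤ r - 1 := by
    rw [Finset.card_erase_of_mem h1mem]
    refine Nat.sub_le_sub_right ?_ 1
    rw [Polynomial.nthRootsFinset_def]
    exact (Multiset.toFinset_card_le _).trans (Polynomial.card_nthRoots r 1)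
  calc _ ≤ ((Polynomial.nthRootsFinset r (1 : E)).erase 1).card *
        (∑ μ ∈ (Polynomial.nthRootsFinset r (1 : E)).erase 1, finrank E (T0.eigenspace μ) ^ 2) +
          (r - 1) * finrank E (fix ρ R) ^ 2 := Nat.add_le_add_right sq_sum_le_card_mul_sum_sq _
    _ ≤ (r - 1) *
        (∑ μ ∈ (Polynomial.nthRootsFinset r (1 : E)).erase 1, finrank E (T0.eigenspace μ) ^ 2) +
          (r - 1) * finrank E (fix ρ R) ^ 2 :=
        Nat.add_le_add_right (Nat.mul_le_mul_right _ h6) _
    _ = (r - 1) * (finrank E (fix ρ R) ^ 2 +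
        ∑ μ ∈ (Polynomial.nthRootsFinset r (1 : E)).erase 1, finrank E (T0.eigenspace μ) ^ 2) := by
        ring
    _ ≤ _ := Nat.mul_le_mul_left _ h4

end Mult

end Cfsg.Agent.H575.Mult
end

-- part: H575/Tower
section
/-!
# Towers of `p`-subgroups

Definitions for the theorem on the Fitting height of the fixed points of a coprime automorphism
of prime order (`S4363`).  The group `P 0` is at the bottom; `P j` normalizes `P i` for `i ≤ j`.
-/

set_option autoImplicit false

open Subgroup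
open scoped commutatorElement

namespace Cfsg.Agent.H575.Tower

variable {Γ : Type*} [Group Γ]

/-- the elements normalizing `K` and centralizing `P` modulo `K` -/
def cmod (P K : Subgroup Γ) : Subgroup Γ where
  carrier := {x | x ∈ normalizer (K : Set Γ) ∧ ∀ y ∈ P, ⁅x, y⁆ ∈ K}
  one_mem' := ⟨one_mem _, fun y _ => by rw [commutatorElement_one_left]; exact K.one_mem⟩
  mul_mem' := by
    rintro a b ⟨ha, ha'⟩ ⟨hb, hb'⟩
    refine ⟨mul_mem ha hb, fun y hy => ?_⟩
    have h1 : ⁅a * b, y⁆ = a * ⁅b, y⁆ * a⁻¹ * ⁅a, y⁆ := by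
      simp only [commutatorElement_def]
      group
    rw [h1]
    exact K.mul_mem ((mem_normalizer_iff.mp ha _).mp (hb' y hy)) (ha' y hy)
  inv_mem' := by
    rintro a ⟨ha, ha'⟩
    refine ⟨inv_mem ha, fun y hy => ?_⟩
    have h1 : ⁅a⁻¹, y⁆ = a⁻¹ * ⁅a, y⁆⁻¹ * a⁻¹⁻¹ := by
      simp only [commutatorElement_def]
      group
    rw [h1]
    exact (mem_normalizer_iff.mp (inv_mem ha) _).mp (K.inv_mem (ha' y hy))

theorem mem_cmod {P K : Subgroup Γ} {x : Γ} :
    x ∈ cmod P K ↔ x ∈ normalizer (K : Set Γ) ∧ ∀ y ∈ P, ⁅x, y⁆ ∈ K := Iff.rfl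

/-- the kernels of a tower: `K 0 = 1` and `K (i + 1)` is the kernel of the action of `P (i + 1)`
on `P i / K i` -/
def ker (P : ℕ → Subgroup Γ) : ℕ → Subgroup Γ
  | 0 => ⊥
  | i + 1 => P (i + 1) ⊓ cmod (P i) (ker P i)

/-- A tower of height `n` (with `P i`, `i < n`) of `R`-invariant subgroups. -/
structure IsTower (R : Subgroup Γ) (P : ℕ → Subgroup Γ) (p : ℕ → ℕ) (n : ℕ) : Prop where
  prime : ∀ i < n, (p i).Prime
  pgroup : ∀ i < n, IsPGroup (p i) (P i)
  ne : ∀ i, i + 1 < n → p i ≠ p (i + 1)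
  norm : ∀ i j, i ≤ j → j < n → P j ≤ normalizer (P i : Set Γ)
  inv : ∀ i < n, R ≤ normalizer (P i : Set Γ)
  nontriv : ∀ i < n, ¬ P i ≤ ker P i

end Cfsg.Agent.H575.Tower
end

-- part: H575/Sect
section
/-!
# Actions on sections
-/

set_option autoImplicit false
set_option linter.unusedSectionVars false

namespace Cfsg.Agent.H575.Sect

open Subgroup Cfsg.Agent.H575.Tower
open scoped commutatorElement

variable {G : Type*} [Group G]

theorem conj_mem {H P : Subgroup G} (h : H ≤ normalizer (P : Set G))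
    {g y : G} (hg : g ∈ H) (hy : y ∈ P) : g * y * g⁻¹ ∈ P :=
  (mem_normalizer_iff.mp (h hg) y).mp hy

theorem le_norm {H P : Subgroup G} (h : ∀ g ∈ H, ∀ y ∈ P, g * y * g⁻¹ ∈ P) :
    H ≤ normalizer (P : Set G) := by
  intro g hg
  rw [mem_normalizer_iff]
  intro y
  constructor
  · exact h g hg y
  · intro hy
    have h1 := h g⁻¹ (H.inv_mem hg) _ hy
    rwa [show g⁻¹ * (g * y * g⁻¹) * g⁻¹⁻¹ = y by group] at h1

/-- the action of `H` on the section `L / (N ⊓ L)` -/
def secAct (H L N : Subgroup G) [(N.subgroupOf L).Normal] (hL : H ≤ normalizer (L : Set G))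
    (hN : H ≤ normalizer (N : Set G)) : H →* MulAut (L ⧸ N.subgroupOf L) where
  toFun h := QuotientGroup.congr (N.subgroupOf L) (N.subgroupOf L)
    (normalizerMonoidHom L ⟨h, hL h.2⟩) (by
      ext x
      constructor
      · rintro ⟨y, hy, rfl⟩
        exact conj_mem hN h.2 hy
      · intro hx
        refine ⟨(normalizerMonoidHom L ⟨h, hL h.2⟩)⁻¹ x, ?_, ?_⟩
        · have h1 : ((((normalizerMonoidHom L ⟨h, hL h.2⟩)⁻¹ x : L)) : G) = (h : G)⁻¹ * x * h := by
            have h2 : (normalizerMonoidHom L ⟨h, hL h.2⟩)⁻¹ =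
              normalizerMonoidHom L (⟨h, hL h.2⟩ : normalizer (L : Set G))⁻¹ := (map_inv _ _).symm
            rw [h2]
            show (h : G)⁻¹ * x * (h : G)⁻¹⁻¹ = _
            rw [inv_inv]
          show ((((normalizerMonoidHom L ⟨h, hL h.2⟩)⁻¹ x : L)) : G) ∈ N
          rw [h1]
          have h3 := conj_mem hN (H.inv_mem h.2) hx
          rwa [inv_inv] at h3
        · exact MulAut.apply_inv_self _ _ _)
  map_one' := by
    ext x
    induction x using QuotientGroup.induction_on with | H x => ?_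
    show ((_ : L) : L ⧸ N.subgroupOf L) = (x : L ⧸ N.subgroupOf L)
    congr 1
    apply Subtype.ext
    show (1 : G) * x * (1 : G)⁻¹ = x
    group
  map_mul' := by
    intro a b
    ext x
    induction x using QuotientGroup.induction_on with | H x => ?_
    show ((_ : L) : L ⧸ N.subgroupOf L) = ((_ : L) : L ⧸ N.subgroupOf L)
    congr 1
    apply Subtype.ext
    show ((a : G) * b) * x * ((a : G) * b)⁻¹ = a * (b * x * (b : G)⁻¹) * (a : G)⁻¹
    group

theorem secAct_mk {H L N : Subgroup G} [(N.subgroupOf L).Normal]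
    (hL : H ≤ normalizer (L : Set G)) (hN : H ≤ normalizer (N : Set G)) (h : H) (x : L) :
    secAct H L N hL hN h (QuotientGroup.mk x) =
      QuotientGroup.mk (⟨h * x * (h : G)⁻¹, conj_mem hL h.2 x.2⟩ : L) := rfl

theorem cmod_conj {P K : Subgroup G} {g x : G} (hgP : g ∈ normalizer (P : Set G))
    (hgK : g ∈ normalizer (K : Set G)) (hx : x ∈ cmod P K) : g * x * g⁻¹ ∈ cmod P K := by
  refine ⟨mul_mem (mul_mem hgK hx.1) (inv_mem hgK), fun y hy => ?_⟩
  have h1 : g⁻¹ * y * g ∈ P := by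
    have := (mem_normalizer_iff.mp (inv_mem hgP) y).mp hy
    rwa [inv_inv] at this
  have h2 : ⁅g * x * g⁻¹, y⁆ = g * ⁅x, g⁻¹ * y * g⁆ * g⁻¹ := by
    simp only [commutatorElement_def]
    group
  rw [h2]
  exact (mem_normalizer_iff.mp hgK _).mp (hx.2 _ h1)

/-- three subgroups -/
theorem commutator_le_cmod {P N A R : Subgroup G} (hR : R ≤ cmod P N)
    (hAP : A ≤ normalizer (P : Set G)) (hAN : A ≤ normalizer (N : Set G)) : ⁅A, R⁆ ≤ cmod P N := by
  rw [commutator_le]
  intro a ha b hb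
  rw [commutatorElement_def]
  exact mul_mem (cmod_conj (hAP ha) (hAN ha) (hR hb)) (inv_mem (hR hb))

/-- `K = C_K(A) [K, A]` for a `q`-group `A` of order prime to `K`. -/
theorem exists_cent_mul [Finite G] {q : ℕ} (hq : q.Prime) {A K : Subgroup G} (hA : IsPGroup q A)
    (hAK : A ≤ normalizer (K : Set G)) (hqK : ¬ q ∣ Nat.card K) {k : G} (hk : k ∈ K) :
    ∃ c ∈ K, c ∈ centralizer (A : Set G) ∧ c⁻¹ * k ∈ ⁅K, A⁆ := by
  have : Fact q.Prime := ⟨hq⟩
  have hle : ⁅K, A⁆ ≤ K := Lib.CoprimeCommutator.commutator_le_left hAK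
  obtain ⟨c, hc, hkc⟩ := Lib.CoprimeCommutator.exists_fixed_in_coset q A ⁅K, A⁆ hA
    (Lib.CoprimeCommutator.right_le_normalizer_commutator K A)
    (fun h => hqK (h.trans (card_dvd_of_le hle))) k (fun a ha => by
      have h1 : k⁻¹ * (a * k * a⁻¹) = ⁅k⁻¹, a⁆ := by
        simp only [commutatorElement_def]
        group
      rw [h1]
      exact commutator_mem_commutator (K.inv_mem hk) ha)
  refine ⟨c, ?_, hc, ?_⟩
  · have h1 : c = k * (k⁻¹ * c) := by group
    rw [h1]
    exact K.mul_mem hk (hle hkc)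
  · have h1 : c⁻¹ * k = (k⁻¹ * c)⁻¹ := by group
    rw [h1]
    exact inv_mem hkc

/-- fixed points of a `q`-group in a coset -/
theorem exists_cent_coset [Finite G] {q : ℕ} (hq : q.Prime) {A N : Subgroup G}
    (hA : IsPGroup q A) (hAN : A ≤ normalizer (N : Set G)) (hqN : ¬ q ∣ Nat.card N) {k : G}
    (hk : ∀ a ∈ A, k⁻¹ * (a * k * a⁻¹) ∈ N) :
    ∃ c ∈ centralizer (A : Set G), k⁻¹ * c ∈ N := by
  have : Fact q.Prime := ⟨hq⟩
  obtain ⟨c, hc, hkc⟩ := Lib.CoprimeCommutator.exists_fixed_in_coset q A N hA hAN hqN k hk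
  exact ⟨c, hc, hkc⟩

theorem le_normalizer_commutator {H A B : Subgroup G} (hA : H ≤ normalizer (A : Set G))
    (hB : H ≤ normalizer (B : Set G)) : H ≤ normalizer ((⁅A, B⁆ : Subgroup G) : Set G) := by
  refine le_norm fun g hg x hx => ?_
  have h1 : (⁅A, B⁆).map (MulAut.conj g).toMonoidHom ≤ ⁅A, B⁆ := by
    rw [map_commutator]
    refine commutator_mono ?_ ?_
    · rintro _ ⟨a, ha, rfl⟩
      exact conj_mem hA hg ha
    · rintro _ ⟨b, hb, rfl⟩
      exact conj_mem hB hg hb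
  exact h1 ⟨x, hx, rfl⟩

theorem le_normalizer_inf {H A B : Subgroup G} (hA : H ≤ normalizer (A : Set G))
    (hB : H ≤ normalizer (B : Set G)) : H ≤ normalizer ((A ⊓ B : Subgroup G) : Set G) :=
  le_norm fun _ hg _ hx => ⟨conj_mem hA hg hx.1, conj_mem hB hg hx.2⟩

theorem le_normalizer_sup' {H A B : Subgroup G} (hA : H ≤ normalizer (A : Set G))
    (hB : H ≤ normalizer (B : Set G)) : H ≤ normalizer ((A ⊔ B : Subgroup G) : Set G) := by
  refine le_norm fun g hg x hx => ?_
  have h1 : (A ⊔ B).map (MulAut.conj g).toMonoidHom ≤ A ⊔ B := by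
    rw [Subgroup.map_sup]
    refine sup_le_sup ?_ ?_
    · rintro _ ⟨a, ha, rfl⟩
      exact conj_mem hA hg ha
    · rintro _ ⟨b, hb, rfl⟩
      exact conj_mem hB hg hb
  exact h1 ⟨x, hx, rfl⟩

/-- groups commuting with `R` normalize `C(R)` -/
theorem le_normalizer_centralizer {H R : Subgroup G} (h : H ≤ normalizer (R : Set G)) :
    H ≤ normalizer ((centralizer (R : Set G) : Subgroup G) : Set G) := by
  refine le_norm fun g hg x hx => ?_
  rw [mem_centralizer_iff] at hx ⊢
  intro a ha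
  have h1 : g⁻¹ * a * g ∈ R := by
    have := conj_mem h (H.inv_mem hg) ha
    rwa [inv_inv] at this
  have h2 := hx _ h1
  calc a * (g * x * g⁻¹) = g * ((g⁻¹ * a * g) * x) * g⁻¹ := by group
    _ = g * (x * (g⁻¹ * a * g)) * g⁻¹ := by rw [h2]
    _ = g * x * g⁻¹ * a := by group

end Cfsg.Agent.H575.Sect
end

-- part: H575/ExtraSq
section
/-!
# Dimensions of representations of groups of class two
-/

set_option autoImplicit false
set_option linter.unusedSectionVars false

namespace Cfsg.Agent.H575.ExtraSq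

open Module Subgroup Cfsg.Agent.H575.Dim Cfsg.Agent.H575.ExtraIrr Cfsg.Agent.H575.Weights
open scoped commutatorElement

variable {E : Type*} [Field E] {G V : Type*} [Group G]
  [AddCommGroup V] [Module E V] [FiniteDimensional E V]

/-- the conjugation action on operators -/
def cjRep (ρ : Representation E G V) : Representation E G (Module.End E V) where
  toFun g :=
    { toFun := fun T => ρ g * T * ρ g⁻¹
      map_add' := fun S T => by rw [mul_add, add_mul]
      map_smul' := fun c T => by rw [mul_smul_comm, smul_mul_assoc]; rfl }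
  map_one' := by
    apply LinearMap.ext
    intro T
    show ρ 1 * T * ρ 1⁻¹ = T
    rw [inv_one, map_one, one_mul, mul_one]
  map_mul' := by
    intro a b
    apply LinearMap.ext
    intro T
    show ρ (a * b) * T * ρ (a * b)⁻¹ = ρ a * (ρ b * T * ρ b⁻¹) * ρ a⁻¹
    rw [mul_inv_rev, map_mul, map_mul]
    simp only [mul_assoc]

theorem cjRep_apply (ρ : Representation E G V) (g : G) (T : Module.End E V) :
    cjRep ρ g T = ρ g * T * ρ g⁻¹ := rfl

theorem ne_zero_rep (ρ : Representation E G V) [Nontrivial V] (g : G) : ρ g ≠ 0 := by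
  intro h
  obtain ⟨v, hv⟩ := exists_ne (0 : V)
  apply hv
  rw [← inv_apply ρ g v, h, LinearMap.zero_apply, map_zero]

/-- operators of different cosets of the radical are linearly independent -/
theorem relIndex_le_sq [Finite G] (ρ : Representation E G V) [Nontrivial V] (P N : Subgroup G)
    (c : G → G → E) (hc : ∀ x ∈ P, ∀ y ∈ P, ∀ v, ρ ⁅x, y⁆ v = c x y • v)
    (hnd : ∀ x ∈ P, (∀ y ∈ P, c y x = 1) → x ∈ N) : N.relIndex P ≤ finrank E V ^ 2 := by
  classical
  let S := P ⧸ N.subgroupOf P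
  have : Fintype S := Fintype.ofFinite S
  let x : S → P := fun s => Quotient.out s
  have hx : ∀ s : S, (QuotientGroup.mk (x s) : S) = s := fun s => Quotient.out_eq' s
  have hwt : ∀ s : S, ρ (x s : G) ∈ wt (cjRep ρ) P ⊤ (fun y => c y (x s)) := by
    intro s
    refine ⟨Submodule.mem_top, fun y hy => ?_⟩
    rw [cjRep_apply]
    have h1 : ρ y * ρ (x s : G) * ρ y⁻¹ = ρ ⁅y, (x s : G)⁆ * ρ (x s : G) := by
      rw [← map_mul, ← map_mul, ← map_mul]
      congr 1
      simp only [commutatorElement_def]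
      group
    rw [h1]
    apply LinearMap.ext
    intro v
    rw [Module.End.mul_apply, hc y hy _ (x s).2, LinearMap.smul_apply]
  have hli : LinearIndependent E (fun s : S => ρ (x s : G)) := by
    rw [Fintype.linearIndependent_iff]
    intro a ha t
    have h1 := sum_same_eq_zero (π := cjRep ρ) (A := P) (W := ⊤) Finset.univ
      (fun s : S => a s • ρ (x s : G)) (fun s : S => fun y => c y (x s))
      (fun s _ => Submodule.smul_mem _ _ (hwt s)) ha (fun y => c y (x t))
    have hfil : (Finset.univ.filter fun s : S =>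
        Same P (fun y => c y (x s)) (fun y => c y (x t))) = {t} := by
      ext s
      rw [Finset.mem_filter, Finset.mem_singleton]
      constructor
      · rintro ⟨-, hs⟩
        rw [← hx s, ← hx t, QuotientGroup.eq]
        show ((x s)⁻¹ * x t : P) ∈ N.subgroupOf P
        rw [Subgroup.mem_subgroupOf]
        apply hnd _ ((x s)⁻¹ * x t).2
        intro y hy
        have h2 : c y (x s) = c y (x t) := hs y hy
        -- `[y, xs⁻¹ xt]` acts trivially
        obtain ⟨v, hv⟩ := exists_ne (0 : V)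
        have h3 : ⁅y, (((x s)⁻¹ * x t : P) : G)⁆ =
            (x s : G)⁻¹ * (⁅y, (x s : G)⁆⁻¹ * ⁅y, (x t : G)⁆) * x s := by
          rw [Subgroup.coe_mul, Subgroup.coe_inv]
          simp only [commutatorElement_def]
          group
        have h4 : ρ (⁅y, (x s : G)⁆⁻¹ * ⁅y, (x t : G)⁆) = 1 := by
          apply LinearMap.ext
          intro w
          rw [mul_apply', hc y hy _ (x t).2, ← h2, ← hc y hy _ (x s).2, inv_apply]
          rfl
        have h5 : ρ ⁅y, (((x s)⁻¹ * x t : P) : G)⁆ v = v := by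
          rw [h3, mul_apply', mul_apply', h4, Module.End.one_apply, inv_apply]
        rw [hc y hy _ ((x s)⁻¹ * x t).2] at h5
        have h6 : (c y (((x s)⁻¹ * x t : P) : G) - 1) • v = 0 := by
          rw [sub_smul, one_smul, h5, sub_self]
        exact sub_eq_zero.mp ((smul_eq_zero.mp h6).resolve_right hv)
      · rintro rfl
        exact ⟨Finset.mem_univ _, Same.refl _ _⟩
    rw [hfil, Finset.sum_singleton] at h1
    exact (smul_eq_zero.mp h1).resolve_right (ne_zero_rep ρ _)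
  have h1 := hli.fintype_card_le_finrank
  rw [Module.finrank_linearMap, ← sq] at h1
  rw [Subgroup.relIndex, Subgroup.index_eq_card, Nat.card_eq_fintype_card]
  exact h1

/-- density -/
theorem sq_le_card [IsAlgClosed E] {H : Type*} [Group H] [Finite H] (ρ : Representation E H V)
    (hirr : Irr ρ) {ι : Type*} [Fintype ι] (f : ι → Module.End E V)
    (hf : ∀ h, ρ h ∈ Submodule.span E (Set.range f)) : finrank E V ^ 2 ≤ Fintype.card ι := by
  have h1 : Submodule.span E (Set.range f) = ⊤ := by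
    rw [eq_top_iff]
    intro T _
    let τ : Unit → Representation E H V := fun _ => ρ
    have hirr' : ∀ i, (τ i).IsIrreducible := fun i => irr_isIrreducible hirr
    obtain ⟨a, ha⟩ := Blocks.ModularTraces.exists_density τ hirr'
      (fun i j hij => absurd (Subsingleton.elim i j) hij) (fun _ => T)
    have h1 : T = (τ ()).asAlgebraHom a := (ha ()).symm
    rw [h1, Representation.asAlgebraHom_def, MonoidAlgebra.lift_apply]
    exact Submodule.sum_mem _ fun g _ => Submodule.smul_mem _ _ (hf g)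
  have h2 := finrank_range_le_card (R := E) f
  rw [Set.finrank, h1, finrank_top, Module.finrank_linearMap, ← sq] at h2
  exact h2

/-- **The index of the radical is the square of the dimension.** -/
theorem relIndex_eq_sq [IsAlgClosed E] {H : Type*} [Group H] [Finite H]
    (ρ : Representation E H V) (hirr : Irr ρ) (N : Subgroup H)
    (c : H → H → E) (hc : ∀ x y, ∀ v, ρ ⁅x, y⁆ v = c x y • v)
    (hnd : ∀ x, (∀ y, c y x = 1) → x ∈ N) (hN : ∀ x ∈ N, ∀ y, c y x = 1) :
    N.index = finrank E V ^ 2 := by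
  classical
  have hnt := hirr.1
  apply le_antisymm
  · have h1 := relIndex_le_sq ρ ⊤ N c (fun x _ y _ => hc x y) (fun x _ h => hnd x fun y => h y trivial)
    rwa [Subgroup.relIndex_top_right] at h1
  · have : Fintype (H ⧸ N) := Fintype.ofFinite _
    have hscal : ∀ x ∈ N, ∃ a : E, ∀ v, ρ x v = a • v := by
      intro x hx
      refine hirr.scalar (ρ x) fun y v => ?_
      have h1 : y * x = ⁅y, x⁆ * (x * y) := by
        simp only [commutatorElement_def]
        group
      rw [← mul_apply' ρ y x, h1, mul_apply', hc, hN x hx y, one_smul, mul_apply']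
    have h1 := sq_le_card ρ hirr (fun s : H ⧸ N => ρ (Quotient.out s)) (by
      intro h
      have h2 : (Quotient.out (QuotientGroup.mk h : H ⧸ N))⁻¹ * h ∈ N :=
        QuotientGroup.eq.mp (Quotient.out_eq' _)
      obtain ⟨a, ha⟩ := hscal _ h2
      have h3 : ρ h = a • ρ (Quotient.out (QuotientGroup.mk h : H ⧸ N)) := by
        apply LinearMap.ext
        intro v
        rw [LinearMap.smul_apply, ← map_smul, ← ha, ← mul_apply']
        congr 2
        group
      rw [h3]
      exact Submodule.smul_mem _ _ (Submodule.subset_span ⟨_, rfl⟩))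
    rw [Subgroup.index_eq_card, Nat.card_eq_fintype_card]
    exact h1

end Cfsg.Agent.H575.ExtraSq
end

-- part: H575/Lev
section
/-!
# Groups of class two acting on a module: the commutator form of a weight
-/

set_option autoImplicit false
set_option linter.unusedSectionVars false

namespace Cfsg.Agent.H575.Lev

open Module Subgroup Cfsg.Agent.H575.Dim Cfsg.Agent.H575.Weights Cfsg.Agent.H575.Sect
  Cfsg.Agent.H575.Tower Cfsg.Agent.H575.Fix
open scoped commutatorElement

/-- The group `P` of class two with the central subgroup `Z`, and the group `A = [A, R]` above. -/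
structure LD {G : Type*} [Group G] (P Z A R : Subgroup G) (r s q : ℕ) : Prop where
  hr : r.Prime
  hs : s.Prime
  hq : q.Prime
  hrs : r ≠ s
  hrq : r ≠ q
  hqs : q ≠ s
  hR : Nat.card R = r
  hP : IsPGroup s P
  hZP : Z ≤ P
  hPP : ∀ x ∈ P, ∀ y ∈ P, ⁅x, y⁆ ∈ Z
  hPs : ∀ x ∈ P, x ^ s ∈ Z
  hZ : ∀ z ∈ Z, ∀ x ∈ P, z * x = x * z
  hA : IsPGroup q A
  hAP : A ≤ normalizer (P : Set G)
  hZA : ∀ z ∈ Z, ∀ a ∈ A, z * a = a * z
  hRP : R ≤ normalizer (P : Set G)
  hRZ : R ≤ normalizer (Z : Set G)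
  hRA : R ≤ normalizer (A : Set G)
  hcomm : ⁅A, R⁆ = A
  hA3 : ∀ a ∈ A, ∀ b ∈ A, ∀ c ∈ A, ∀ x ∈ P, ⁅⁅a, b⁆, c⁆ * x = x * ⁅⁅a, b⁆, c⁆
  hAq : ∀ a ∈ A, ∀ b ∈ A, ∀ x ∈ P, ⁅a ^ q, b⁆ * x = x * ⁅a ^ q, b⁆

section Comm

variable {G : Type*} [Group G] {P Z : Subgroup G}

theorem comm_mul_left (hPP : ∀ x ∈ P, ∀ y ∈ P, ⁅x, y⁆ ∈ Z) (hZ : ∀ z ∈ Z, ∀ x ∈ P, z * x = x * z)
    {x x' y : G} (hx : x ∈ P) (hx' : x' ∈ P) (hy : y ∈ P) : ⁅x * x', y⁆ = ⁅x, y⁆ * ⁅x', y⁆ := by
  have h1 : ⁅x * x', y⁆ = x * ⁅x', y⁆ * x⁻¹ * ⁅x, y⁆ := by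
    simp only [commutatorElement_def]
    group
  have h2 := hZ _ (hPP x' hx' y hy) x hx
  have h3 : ⁅x, y⁆ ∈ P := by
    rw [commutatorElement_def]
    exact P.mul_mem (P.mul_mem (P.mul_mem hx hy) (P.inv_mem hx)) (P.inv_mem hy)
  rw [h1, ← h2, mul_inv_cancel_right, hZ _ (hPP x' hx' y hy) _ h3]

theorem comm_mul_right (hPP : ∀ x ∈ P, ∀ y ∈ P, ⁅x, y⁆ ∈ Z) (hZ : ∀ z ∈ Z, ∀ x ∈ P, z * x = x * z)
    {x y y' : G} (hx : x ∈ P) (hy : y ∈ P) (hy' : y' ∈ P) : ⁅x, y * y'⁆ = ⁅x, y⁆ * ⁅x, y'⁆ := by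
  have h1 : ⁅x, y * y'⁆ = ⁅x, y⁆ * (y * ⁅x, y'⁆ * y⁻¹) := by
    simp only [commutatorElement_def]
    group
  have h2 := hZ _ (hPP x hx y' hy') y hy
  rw [h1, ← h2, mul_inv_cancel_right]

theorem comm_pow (hPP : ∀ x ∈ P, ∀ y ∈ P, ⁅x, y⁆ ∈ Z) (hZ : ∀ z ∈ Z, ∀ x ∈ P, z * x = x * z)
    {x y : G} (hx : x ∈ P) (hy : y ∈ P) (n : ℕ) : ⁅x, y⁆ ^ n = ⁅x ^ n, y⁆ := by
  induction n with
  | zero => rw [pow_zero, pow_zero, commutatorElement_one_left]
  | succ n ih =>
    rw [pow_succ, ih, pow_succ, comm_mul_left hPP hZ (P.pow_mem hx n) hx hy]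

end Comm

section Beta

variable {E : Type*} [Field E] {G V : Type*} [Group G] [AddCommGroup V] [Module E V]

/-- the multiplicativity of a weight that occurs -/
theorem wt_facts {π : Representation E G V} {A : Subgroup G} {W : Submodule E V} {l : G → E}
    (h : wt π A W l ≠ ⊥) : l 1 = 1 ∧ (∀ a ∈ A, ∀ b ∈ A, l (a * b) = l a * l b) ∧
      (∀ a ∈ A, l a ≠ 0) ∧ ∀ a ∈ A, l a⁻¹ = (l a)⁻¹ := by
  obtain ⟨v, hv, hv0⟩ := Submodule.exists_mem_ne_zero_of_ne_bot h
  have key : ∀ c d : E, c • v = d • v → c = d := by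
    intro c d hcd
    have h1 : (c - d) • v = 0 := by rw [sub_smul, hcd, sub_self]
    exact sub_eq_zero.mp ((smul_eq_zero.mp h1).resolve_right hv0)
  have h1 : l 1 = 1 := by
    apply key
    rw [← hv.2 1 A.one_mem, map_one, one_smul]
    rfl
  have h2 : ∀ a ∈ A, ∀ b ∈ A, l (a * b) = l a * l b := by
    intro a ha b hb
    apply key
    rw [← hv.2 _ (A.mul_mem ha hb), mul_apply', hv.2 b hb, map_smul, hv.2 a ha, smul_smul,
      mul_comm]
  refine ⟨h1, h2, fun a ha h0 => ?_, fun a ha => ?_⟩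
  · have h3 := h2 a ha a⁻¹ (A.inv_mem ha)
    rw [mul_inv_cancel, h1, h0, zero_mul] at h3
    exact one_ne_zero h3
  · have h3 := h2 a ha a⁻¹ (A.inv_mem ha)
    rw [mul_inv_cancel, h1] at h3
    exact (inv_eq_of_mul_eq_one_right h3.symm).symm

/-- the radical of the commutator form -/
def rad {P Z : Subgroup G} (hPP : ∀ x ∈ P, ∀ y ∈ P, ⁅x, y⁆ ∈ Z)
    (hZ : ∀ z ∈ Z, ∀ x ∈ P, z * x = x * z) (μ : G → E) (h1 : μ 1 = 1)
    (h2 : ∀ a ∈ Z, ∀ b ∈ Z, μ (a * b) = μ a * μ b) : Subgroup G where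
  carrier := {x | x ∈ P ∧ ∀ y ∈ P, μ ⁅x, y⁆ = 1}
  one_mem' := ⟨P.one_mem, fun y _ => by rw [commutatorElement_one_left, h1]⟩
  mul_mem' := by
    rintro a b ⟨ha, ha'⟩ ⟨hb, hb'⟩
    refine ⟨P.mul_mem ha hb, fun y hy => ?_⟩
    rw [comm_mul_left hPP hZ ha hb hy, h2 _ (hPP a ha y hy) _ (hPP b hb y hy), ha' y hy, hb' y hy,
      one_mul]
  inv_mem' := by
    rintro a ⟨ha, ha'⟩
    refine ⟨P.inv_mem ha, fun y hy => ?_⟩
    have h3 := comm_mul_left hPP hZ (P.inv_mem ha) ha hy
    rw [inv_mul_cancel, commutatorElement_one_left] at h3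
    have h4 := h2 _ (hPP a⁻¹ (P.inv_mem ha) y hy) _ (hPP a ha y hy)
    rw [← h3, h1, ha' y hy, mul_one] at h4
    exact h4.symm

theorem mem_rad {P Z : Subgroup G} {hPP : ∀ x ∈ P, ∀ y ∈ P, ⁅x, y⁆ ∈ Z}
    {hZ : ∀ z ∈ Z, ∀ x ∈ P, z * x = x * z} {μ : G → E} {h1 : μ 1 = 1}
    {h2 : ∀ a ∈ Z, ∀ b ∈ Z, μ (a * b) = μ a * μ b} {x : G} :
    x ∈ rad hPP hZ μ h1 h2 ↔ x ∈ P ∧ ∀ y ∈ P, μ ⁅x, y⁆ = 1 := Iff.rfl

/-- elements preserving `P`, `Z` and `μ` normalize the radical -/
theorem le_normalizer_rad {P Z : Subgroup G} {hPP : ∀ x ∈ P, ∀ y ∈ P, ⁅x, y⁆ ∈ Z}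
    {hZ : ∀ z ∈ Z, ∀ x ∈ P, z * x = x * z} {μ : G → E} {h1 : μ 1 = 1}
    {h2 : ∀ a ∈ Z, ∀ b ∈ Z, μ (a * b) = μ a * μ b} {H : Subgroup G}
    (hHP : H ≤ normalizer (P : Set G)) (hH : ∀ g ∈ H, ∀ z ∈ Z, μ (g * z * g⁻¹) = μ z) :
    H ≤ normalizer ((rad hPP hZ μ h1 h2 : Subgroup G) : Set G) := by
  refine le_norm fun g hg x hx => ?_
  refine ⟨Sect.conj_mem hHP hg hx.1, fun y hy => ?_⟩
  have h3 : g⁻¹ * y * g ∈ P := by
    have := Sect.conj_mem hHP (H.inv_mem hg) hy
    rwa [inv_inv] at this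
  have h4 : ⁅g * x * g⁻¹, y⁆ = g * ⁅x, g⁻¹ * y * g⁆ * g⁻¹ := by
    simp only [commutatorElement_def]
    group
  rw [h4, hH g hg _ (hPP x hx.1 _ h3)]
  exact hx.2 _ h3

/-- **Nondegeneracy of commutators.** -/
theorem ndg [Finite G] {β : G → G → E} {C S : Subgroup G} {n : ℕ}
    (hS : S ≤ normalizer (C : Set G))
    (hb1 : ∀ x ∈ C, ∀ x' ∈ C, ∀ y ∈ C, β (x * x') y = β x y * β x' y)
    (hb2 : ∀ x ∈ C, ∀ y ∈ C, ∀ y' ∈ C, β x (y * y') = β x y * β x y')
    (hb0 : ∀ y ∈ C, β 1 y = 1)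
    (hbS : ∀ g ∈ S, ∀ x ∈ C, ∀ y ∈ C, β (g * x * g⁻¹) (g * y * g⁻¹) = β x y)
    (hn : ∀ x ∈ C, ∀ y ∈ C, β x y ^ n = 1) (hcop : (Nat.card S).Coprime n)
    {d : G} (hd : d ∈ ⁅C, S⁆) (hdd : ∀ d' ∈ ⁅C, S⁆, β d d' = 1) : ∀ c ∈ C, β d c = 1 := by
  classical
  have : Fintype S := Fintype.ofFinite S
  have hle : ⁅C, S⁆ ≤ C := Lib.CoprimeCommutator.commutator_le_left hS
  intro c hc
  have hinvC : ∀ g ∈ S, ∀ x ∈ C, g⁻¹ * x * g ∈ C := by
    intro g hg x hx
    have := Sect.conj_mem hS (S.inv_mem hg) hx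
    rwa [inv_inv] at this
  let Θ : C →* E :=
    { toFun := fun x => ∏ g : S, β ((g : G)⁻¹ * x * g) c
      map_one' := by
        refine Finset.prod_eq_one fun g _ => ?_
        rw [Subgroup.coe_one, mul_one, inv_mul_cancel, hb0 c hc]
      map_mul' := by
        intro x y
        rw [← Finset.prod_mul_distrib]
        refine Finset.prod_congr rfl fun g _ => ?_
        rw [← hb1 _ (hinvC g g.2 x x.2) _ (hinvC g g.2 y y.2) c hc]
        congr 1
        rw [Subgroup.coe_mul]
        group }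
  have hΘ : ∀ x : C, Θ x = ∏ g : S, β ((g : G)⁻¹ * x * g) c := fun x => rfl
  have hΘconj : ∀ (x : C) (h : S), Θ ⟨h * x * (h : G)⁻¹, Sect.conj_mem hS h.2 x.2⟩ = Θ x := by
    intro x h
    rw [hΘ, hΘ]
    refine Fintype.prod_equiv (Equiv.mulLeft h⁻¹) _ _ fun g => ?_
    congr 1
    show (g : G)⁻¹ * (h * x * (h : G)⁻¹) * g = ((h⁻¹ * g : S) : G)⁻¹ * x * ((h⁻¹ * g : S) : G)
    rw [Subgroup.coe_mul, Subgroup.coe_inv]
    group
  have hker : ⁅C, S⁆ ≤ (MonoidHom.ker Θ).map C.subtype := by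
    rw [commutator_le]
    intro x hx h hh
    let x' : C := ⟨x, hx⟩
    let y' : C := ⟨h * x * h⁻¹, Sect.conj_mem hS hh hx⟩
    refine ⟨x' * y'⁻¹, ?_, ?_⟩
    · show Θ (x' * y'⁻¹) = 1
      have h1 : Θ x' = Θ y' := (hΘconj x' ⟨h, hh⟩).symm
      rw [map_mul, h1, ← map_mul, mul_inv_cancel, map_one]
    · show x * (h * x * h⁻¹)⁻¹ = ⁅x, h⁆
      rw [commutatorElement_def]
      group
  have hΘd : Θ ⟨d, hle hd⟩ = 1 := by
    obtain ⟨y, hy, hyd⟩ := hker hd
    have : y = ⟨d, hle hd⟩ := Subtype.ext hyd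
    rw [← this]
    exact hy
  have hconst : ∀ g ∈ S, β (g⁻¹ * d * g) c = β d c := by
    intro g hg
    have h1 := hbS g hg _ (hinvC g hg d (hle hd)) c hc
    have h2 : g * (g⁻¹ * d * g) * g⁻¹ = d := by group
    rw [h2] at h1
    rw [← h1]
    have h3 : c = ⁅c, g⁆ * (g * c * g⁻¹) := by
      rw [commutatorElement_def]
      group
    have h4 : ⁅c, g⁆ ∈ ⁅C, S⁆ := commutator_mem_commutator hc hg
    conv_rhs => rw [h3]
    rw [hb2 d (hle hd) _ (hle h4) _ (Sect.conj_mem hS hg hc), hdd _ h4, one_mul]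
  have hprod : ∏ g : S, β ((g : G)⁻¹ * d * g) c = β d c ^ Nat.card S := by
    rw [Nat.card_eq_fintype_card, ← Finset.card_univ, ← Finset.prod_const]
    exact Finset.prod_congr rfl fun g _ => hconst g g.2
  have hΘd' : β d c ^ Nat.card S = 1 := by
    rw [← hprod]
    exact hΘd
  have h1 : β d c ^ Nat.gcd (Nat.card S) n = 1 := pow_gcd_eq_one.mpr ⟨hΘd', hn d (hle hd) c hc⟩
  rwa [hcop, pow_one] at h1

end Beta

end Cfsg.Agent.H575.Lev
end

-- part: H813/TurullHa
section
/-!
# A `q`-group of class two and an element of order `2^m + 1` on a module (helper813, for helper575's S4363)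

* `irr_case` : the irreducible case: `dim V - dim C_V(R) ≤ 2m` only if `dim V = r`, `dim V - dim C_V(R) ≥ 2m`;
* `closed` : the case of an algebraically closed field;
* `ha_core`.
-/

set_option autoImplicit false
set_option linter.unusedSectionVars false

namespace Cfsg.Agent.H813.TurullHa

open Module Subgroup Cfsg.Agent.H575.Dim Cfsg.Agent.H575.ExtraMod
  Cfsg.Agent.H575.ExtraIrr Cfsg.Agent.H575.Fix Cfsg.Agent.H575.Mult
open scoped commutatorElement

section Closed

variable {E : Type*} [Field E] [IsAlgClosed E] {H V : Type*} [Group H] [Finite H]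
  [AddCommGroup V] [Module E V] [FiniteDimensional E V]

theorem fix_eq_range {ρ : Representation E H V} (R : Subgroup H) :
    fix (imgRep ρ) (R.map (toImg ρ)) = fix ρ R := by
  ext v
  rw [mem_fix, mem_fix]
  constructor
  · intro h a ha
    exact h _ ⟨a, ha, rfl⟩
  · rintro h _ ⟨a, ha, rfl⟩
    exact h a ha

/-- the reducible case: a complement permutes the summands regularly -/
theorem exists_ind (hH : (Nat.card H : E) ≠ 0) (ρ : Representation E H V)
    (hρ : Irr ρ) (N R : Subgroup H) [hNn : N.Normal] (hN : N.index.Prime)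
    (hR : Nat.card R = N.index) (hNR : N ⊔ R = ⊤) (hirr : ¬ Irr (ρ.comp N.subtype)) :
    ∃ t : ℕ, 1 ≤ t ∧ finrank E V = N.index * t ∧ finrank E (fix ρ R) ≤ t := by
  classical
  have : Fintype R := Fintype.ofFinite R
  obtain ⟨W, hW, hWirr, hfin⟩ := (step hH ρ hρ N hN).resolve_left hirr
  let Φ : (R → W) →ₗ[E] V :=
    { toFun := fun w => ∑ g : R, ρ g (w g)
      map_add' := by
        intro a b
        simp [Finset.sum_add_distrib]
      map_smul' := by
        intro c a
        simp [Finset.smul_sum] }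
  have hΦ : ∀ w, Φ w = ∑ g : R, ρ g (w g) := fun w => rfl
  have hΦR : ∀ (h : R) (w : R → W), ρ h (Φ w) = Φ fun g => w (h⁻¹ * g) := by
    intro h w
    rw [hΦ, hΦ, map_sum]
    refine Fintype.sum_bijective (fun y => h * y) (Group.mulLeft_bijective h) _ _ fun y => ?_
    rw [inv_mul_cancel_left, Subgroup.coe_mul, mul_apply']
  have hΦN : ∀ n ∈ N, ∀ w : R → W, ρ n (Φ w) ∈ LinearMap.range Φ := by
    intro n hn w
    refine ⟨fun g => ⟨ρ ((g : H)⁻¹ * n * g) (w g), hW ⟨_, by
      have := hNn.conj_mem n hn (g : H)⁻¹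
      rwa [inv_inv] at this⟩ _ (w g).2⟩, ?_⟩
    rw [hΦ, hΦ, map_sum]
    refine Finset.sum_congr rfl fun g _ => ?_
    show ρ g (ρ ((g : H)⁻¹ * n * g) (w g)) = ρ n (ρ g (w g))
    rw [← mul_apply', ← mul_apply']
    congr 2
    group
  have hinv : ∀ h : H, ∀ v ∈ LinearMap.range Φ, ρ h v ∈ LinearMap.range Φ := by
    intro h
    have h1 : h ∈ N ⊔ R := by rw [hNR]; exact Subgroup.mem_top h
    rw [← SetLike.mem_coe, Subgroup.normal_mul, Set.mem_mul] at h1
    obtain ⟨n, hn, a, ha, rfl⟩ := h1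
    rintro _ ⟨w, rfl⟩
    rw [mul_apply', hΦR ⟨a, ha⟩ w]
    exact hΦN n hn _
  have hWnt := hWirr.1
  obtain ⟨w0, hw0⟩ := exists_ne (0 : W)
  have hrange : LinearMap.range Φ = ⊤ := by
    rcases hρ.2 _ hinv with h | h
    · exfalso
      have h1 : Φ (Pi.single 1 w0) = w0 := by
        rw [hΦ, Finset.sum_eq_single 1]
        · rw [Pi.single_eq_same, Subgroup.coe_one, map_one]
          rfl
        · intro b _ hb
          rw [Pi.single_eq_of_ne hb]
          simp
        · intro h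
          exact absurd (Finset.mem_univ _) h
      have h2 : (w0 : V) ∈ LinearMap.range Φ := ⟨_, h1⟩
      rw [h, Submodule.mem_bot] at h2
      exact hw0 (Subtype.ext h2)
    · exact h
  have hsurj : Function.Surjective Φ := LinearMap.range_eq_top.mp hrange
  have hfr : finrank E (R → W) = finrank E V := by
    rw [Module.finrank_pi_fintype, Finset.sum_const, Finset.card_univ, smul_eq_mul, hfin, ← hR,
      Nat.card_eq_fintype_card]
  have hinj : Function.Injective Φ := (LinearMap.injective_iff_surjective_of_finrank_eq_finrank hfr).mpr hsurj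
  refine ⟨finrank E W, finrank_pos, hfin, ?_⟩
  -- the fixed points are the constant functions
  let e : (R → W) ≃ₗ[E] V := LinearEquiv.ofBijective Φ ⟨hinj, hsurj⟩
  have he : ∀ w, e w = Φ w := fun w => rfl
  let L : fix ρ R →ₗ[E] W := (LinearMap.proj 1).comp (e.symm.toLinearMap.comp (fix ρ R).subtype)
  refine LinearMap.finrank_le_finrank_of_injective (f := L) ?_
  rw [← LinearMap.ker_eq_bot, LinearMap.ker_eq_bot']
  intro v hv
  obtain ⟨w, hw⟩ := e.surjective (v : V)
  have hv1 : w 1 = 0 := by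
    have h1 : e.symm (v : V) 1 = 0 := hv
    rwa [← hw, LinearEquiv.symm_apply_apply] at h1
  have hconst : ∀ g : R, w g = 0 := by
    intro g
    have h1 : ρ ((g⁻¹ : R) : H) (v : V) = v := v.2 _ (g⁻¹).2
    rw [← hw, he, hΦR] at h1
    have h2 := congrFun (hinj h1) 1
    rw [inv_inv, mul_one, hv1] at h2
    exact h2
  apply Subtype.ext
  rw [← hw, show w = 0 from funext hconst, map_zero]
  rfl

/-- degree at least two -/
theorem two_le {ρ : Representation E H V} {F R : Subgroup H} {r s : ℕ} (h : RD ρ F R r s) : 2 ≤ finrank E V := by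
  have hcard := h.card_eq
  have hntV := h.hirr.1
  have hpos : 0 < finrank E V := finrank_pos
  by_contra hlt
  have hd1 : finrank E V = 1 := by omega
  rw [hd1, one_pow] at hcard
  have hall : ∀ f : F, f ∈ center F := by
    intro f
    have h4 : Subsingleton (F ⧸ center F) := (Nat.card_eq_one_iff_unique.mp hcard).1
    exact (QuotientGroup.eq_one_iff f).mp (Subsingleton.elim _ _)
  have hle : ⁅F, R⁆ ≤ ⊥ := by
    rw [Subgroup.commutator_le]
    intro f hf a ha
    have h5 := congrArg Subtype.val (h.alpha_center ⟨a, ha⟩ (hall ⟨f, hf⟩))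
    rw [alpha_coe] at h5
    have h6 : a * f * a⁻¹ = f := h5
    rw [Subgroup.mem_bot, commutatorElement_def]
    have h7 : f * a * f⁻¹ * a⁻¹ = f * (a * f * a⁻¹)⁻¹ := by group
    rw [h7, h6, mul_inv_cancel]
  rw [h.hcomm, le_bot_iff] at hle
  have h8 := h.hZ
  have h9 : Nat.card (center F) = 1 := by
    have h10 := Subgroup.card_le_card_group (center F)
    have h11 : Nat.card F = 1 := by rw [hle]; exact Subgroup.card_bot
    rw [h11] at h10
    exact le_antisymm h10 Nat.card_pos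
  rw [h9] at h8
  exact h.hs.one_lt.ne h8

/-- the arithmetic of the irreducible case -/
theorem arith_irr {m r d d0 o : ℕ} (hr : r.Prime) (hrm : r = 2 ^ m + 1) (hd2 : 2 ≤ d) (hodd : Odd d)
    (ho : o * r = d ^ 2 + (r - 1)) (hm : r * d0 ≤ d + (r - 1)) (hle : d ≤ d0 + 2 * m) : False := by
  have hr1 : 1 ≤ r := hr.pos
  obtain ⟨e, rfl⟩ : ∃ e, d = e + 1 := ⟨d - 1, by omega⟩
  -- `r ∣ d ^ 2 - 1`
  have hdvd : r ∣ e * (e + 2) := by
    have h1 : e * (e + 2) + r = o * r := by
      rw [ho]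
      have : (e + 1) ^ 2 = e * (e + 2) + 1 := by ring
      omega
    exact (Nat.dvd_add_left (dvd_refl r)).1 (h1 ▸ dvd_mul_left r o)
  -- `(r - 1) e ≤ 2 m r`
  have h2 : 2 ^ m * e ≤ 2 * m * (2 ^ m + 1) := by
    have h3 : r * (e + 1) ≤ r * d0 + r * (2 * m) := by
      calc r * (e + 1) ≤ r * (d0 + 2 * m) := Nat.mul_le_mul_left _ hle
        _ = r * d0 + r * (2 * m) := by ring
    have h4 : r * (e + 1) ≤ (e + 1) + (r - 1) + r * (2 * m) := by omega
    rw [hrm] at h4
    rw [Nat.add_sub_cancel] at h4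
    nlinarith
  have hlow : 2 ^ m ≤ e + 1 := by
    rcases hr.dvd_mul.1 hdvd with h | h
    · have := Nat.le_of_dvd (by omega) h
      omega
    · have := Nat.le_of_dvd (by omega) h
      omega
  have hm3 : m ≤ 3 := by
    by_contra hc
    push Not at hc
    -- `2 ^ m > 2 m + 2` for `m ≥ 4`
    have h4 : 2 * m + 3 < 2 ^ m := by
      obtain ⟨i, rfl⟩ : ∃ i, m = i + 4 := ⟨m - 4, by omega⟩
      clear * -
      induction i with
      | zero => norm_num
      | succ i ih =>
        have h5 : 2 ^ (i + 1 + 4) = 2 * 2 ^ (i + 4) := by ring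
        rw [h5]
        omega
    have h5 : 2 ^ m * (2 ^ m - 1) ≤ 2 * m * (2 ^ m + 1) := (Nat.mul_le_mul_left _ (by omega)).trans h2
    obtain ⟨x, hx⟩ : ∃ x, x = 2 ^ m := ⟨_, rfl⟩
    rw [← hx] at h4 h5
    obtain ⟨y, rfl⟩ : ∃ y, x = y + (2 * m + 4) := ⟨x - (2 * m + 4), by omega⟩
    have h6 : y + (2 * m + 4) - 1 = y + (2 * m + 3) := by omega
    rw [h6] at h5
    nlinarith
  interval_cases m
  · simp at h2
    omega
  · have h3 : e ≤ 3 := by omega
    subst hrm
    interval_cases e <;> first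
      | omega
      | (revert hodd; decide)
  · have h3 : e ≤ 5 := by omega
    subst hrm
    interval_cases e <;> first
      | omega
      | (revert hodd; decide)
  · rw [hrm] at hr
    norm_num at hr

/-- **The irreducible case.** -/
theorem irr_case (hH : (Nat.card H : E) ≠ 0) (σ : Representation E H V) (hσ : Irr σ) (A R : Subgroup H) [A.Normal]
    (hAR : A ⊔ R = ⊤) {r q m : ℕ} (hr : r.Prime) (hrm : r = 2 ^ m + 1) (hR : Nat.card R = r) (hidx : A.index = r)
    (hq : q.Prime) (hq2 : q ≠ 2) (hqr : r ≠ q) (hA : IsPGroup q A) (hcomm : ⁅A, R⁆ = A)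
    (h1 : ∀ x ∈ A, ∀ y ∈ A, ∀ z ∈ A, σ ⁅⁅x, y⁆, z⁆ = 1)
    (h2 : ∀ x ∈ A, ∀ y ∈ A, σ ⁅x ^ q, y⁆ = 1)
    (hrE : (r : E) ≠ 0) (hqE : (q : E) ≠ 0) (hne : ∃ x ∈ A, σ x ≠ 1)
    (hdim : finrank E V ≤ finrank E (fix σ R) + 2 * m) :
    Odd (finrank E V) ∧ finrank E (fix σ R) + 2 * m ≤ finrank E V := by
  have hRA : R ≤ normalizer (A : Set H) := by rw [normalizer_eq_top A]; exact le_top
  by_cases hF : Irr (σ.comp A.subtype)
  · exfalso
    have hqf : Fact q.Prime := ⟨hq⟩
    have hRD := rd_img hr hq hqr hR hA hRA hcomm h1 h2 hrE hqE hF hne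
    obtain ⟨-, hm2⟩ := mult hRD
    rw [fix_eq_range] at hm2
    have ho := hRD.card_orbits
    rw [hRD.card_eq] at ho
    have hodd : Odd (finrank E V) := by
      obtain ⟨n, hn⟩ := hRD.hF.exists_card_eq
      have h4 : finrank E V ^ 2 ∣ q ^ n := by
        rw [← hn, ← hRD.card_eq]
        exact Subgroup.card_quotient_dvd_card _
      obtain ⟨k, -, hk⟩ := (Nat.dvd_prime_pow hq).mp ((dvd_pow_self _ (by norm_num)).trans h4)
      rw [hk]
      exact (hq.odd_of_ne_two hq2).pow
    exact arith_irr hr hrm (two_le hRD) hodd ho hm2 hdim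
  · obtain ⟨t, ht, hfin, hfix⟩ := exists_ind hH σ hσ A R (by rw [hidx]; exact hr) (by rw [hidx, hR]) hAR hF
    rw [hidx] at hfin
    have h3 : 2 ^ m * t ≤ 2 * m := by
      rw [hfin, hrm] at hdim
      nlinarith
    have hm2 : m ≤ 2 := by
      by_contra hc
      push Not at hc
      have h4 : 2 * m < 2 ^ m := by
        obtain ⟨i, rfl⟩ : ∃ i, m = i + 3 := ⟨m - 3, by omega⟩
        clear * -
        induction i with
        | zero => norm_num
        | succ i ih =>
          have h5 : 2 ^ (i + 1 + 3) = 2 * 2 ^ (i + 3) := by ring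
          rw [h5]
          omega
      have h5 : 2 ^ m * 1 ≤ 2 ^ m * t := Nat.mul_le_mul_left _ ht
      omega
    have key : t = 1 ∧ 2 * m = 2 ^ m := by
      interval_cases m
      · simp at h3; omega
      · simp at h3 ⊢; omega
      · simp at h3 ⊢; omega
    obtain ⟨rfl, hkey⟩ := key
    rw [mul_one] at hfin
    rw [hfin, hrm, ← hkey]
    refine ⟨⟨m, rfl⟩, ?_⟩
    omega

/-- **The case of an algebraically closed field.** -/
theorem closed (ρ : Representation E H V) [Nontrivial V] (A R : Subgroup H) [hAn : A.Normal]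
    (hAR : A ⊔ R = ⊤) {r q m : ℕ} (hr : r.Prime) (hrm : r = 2 ^ m + 1) (hR : Nat.card R = r)
    (hq : q.Prime) (hq2 : q ≠ 2) (hqr : r ≠ q) (hA : IsPGroup q A) (hcomm : ⁅A, R⁆ = A)
    (h1 : ∀ x ∈ A, ∀ y ∈ A, ∀ z ∈ A, ρ ⁅⁅x, y⁆, z⁆ = 1)
    (h2 : ∀ x ∈ A, ∀ y ∈ A, ρ ⁅x ^ q, y⁆ = 1)
    (hrE : (r : E) ≠ 0) (hqE : (q : E) ≠ 0) (hC : fix ρ A = ⊥) (heven : Even (finrank E V))
    (hdim : finrank E V ≤ finrank E (fix ρ R) + 2 * m) : False := by
  have hqf : Fact q.Prime := ⟨hq⟩
  obtain ⟨k, hk⟩ := hA.exists_card_eq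
  have hcop : (Nat.card R).Coprime (Nat.card A) := by
    rw [hR, hk]
    exact Nat.Coprime.pow_right _ ((Nat.coprime_primes hr hq).mpr hqr)
  have hidx : A.index = r := by
    have hcomp : Subgroup.IsComplement' A R := by
      refine Subgroup.isComplement'_of_disjoint_and_mul_eq_univ
        (Subgroup.disjoint_of_coprime_natCard hcop.symm) ?_
      rw [← Subgroup.normal_mul, hAR, Subgroup.coe_top]
    rw [hcomp.symm.index_eq_card, hR]
  have hHE : (Nat.card H : E) ≠ 0 := by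
    rw [← A.card_mul_index, hidx, Nat.cast_mul, hk, Nat.cast_pow]
    exact mul_ne_zero (pow_ne_zero _ hqE) hrE
  obtain ⟨W, hW, hirr⟩ := Cfsg.Agent.H575.ExtraFix.exists_irr ρ
  obtain ⟨T, hT1, hT2, hT3⟩ := exists_proj ρ hHE W hW
  obtain ⟨σ, hσ⟩ : ∃ σ, σ = Cfsg.Agent.H575.Dim.sub ρ (MonoidHom.id H) W hW := ⟨_, rfl⟩
  have hσc : ∀ (h : H) (w : W), ((σ h w : W) : V) = ρ h w := by
    intro h w
    rw [hσ]
    rfl
  rw [← hσ] at hirr
  obtain ⟨U, hU⟩ : ∃ U, U = LinearMap.ker T := ⟨_, rfl⟩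
  have hUm : ∀ v, v ∈ U ↔ T v = 0 := fun v => by rw [hU, LinearMap.mem_ker]
  have hUi : ∀ h : H, ∀ u ∈ U, ρ h u ∈ U := by
    intro h u hu
    rw [hUm] at hu ⊢
    rw [hT1, hu, map_zero]
  have hrange : LinearMap.range T = W := by
    apply le_antisymm
    · rintro _ ⟨v, rfl⟩
      exact hT3 v
    · intro w hw
      exact ⟨w, hT2 w hw⟩
  have hfr : finrank E W + finrank E U = finrank E V := by
    rw [← hrange, hU]
    exact LinearMap.finrank_range_add_finrank_ker T
  -- the fixed points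
  have hfix : fix ρ R ≤ (W ⊓ fix ρ R) ⊔ (U ⊓ fix ρ R) := by
    intro v hv
    have h3 : T v ∈ fix ρ R := fun a ha => by rw [← hT1, hv a ha]
    have h4 : v - T v ∈ U := by rw [hUm, map_sub, hT2 _ (hT3 v), sub_self]
    have h5 : v = T v + (v - T v) := by abel
    rw [h5]
    exact Submodule.add_mem_sup ⟨hT3 v, h3⟩ ⟨h4, (fix ρ R).sub_mem hv h3⟩
  have hfixle : finrank E (fix ρ R) ≤ finrank E (W ⊓ fix ρ R : Submodule E V) +
      finrank E (U ⊓ fix ρ R : Submodule E V) :=
    (Submodule.finrank_mono hfix).trans (Submodule.finrank_add_le_finrank_add_finrank _ _)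
  have hfixW : finrank E (W ⊓ fix ρ R : Submodule E V) = finrank E (fix σ R) := by
    have h3 : (fix σ R).map W.subtype = W ⊓ fix ρ R := by
      ext v
      constructor
      · rintro ⟨w, hw, rfl⟩
        refine ⟨w.2, fun a ha => ?_⟩
        have h4 := congrArg Subtype.val (hw a ha)
        rw [hσc] at h4
        exact h4
      · rintro ⟨hv, hv'⟩
        refine ⟨⟨v, hv⟩, fun a ha => Subtype.ext ?_, rfl⟩
        rw [hσc]
        exact hv' a ha
    rw [← h3]
    exact Submodule.finrank_map_subtype_eq W (fix σ R)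
  have hfixU : finrank E (U ⊓ fix ρ R : Submodule E V) ≤ finrank E U := Submodule.finrank_mono inf_le_left
  have hne : ∃ x ∈ A, σ x ≠ 1 := by
    by_contra hcon
    push Not at hcon
    have hnt := hirr.1
    obtain ⟨w, hw⟩ := exists_ne (0 : W)
    apply hw
    have h3 : (w : V) ∈ fix ρ A := by
      intro a ha
      rw [← hσc, hcon a ha, Module.End.one_apply]
    rw [hC, Submodule.mem_bot] at h3
    exact Subtype.ext h3
  have hone : ∀ g : H, ρ g = 1 → σ g = 1 := by
    intro g hg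
    apply LinearMap.ext
    intro w
    apply Subtype.ext
    rw [hσc, hg, Module.End.one_apply, Module.End.one_apply]
  obtain ⟨hodd, hge⟩ := irr_case hHE σ hirr A R hAR hr hrm hR hidx hq hq2 hqr hA hcomm
    (fun x hx y hy z hz => hone _ (h1 x hx y hy z hz)) (fun x hx y hy => hone _ (h2 x hx y hy)) hrE hqE hne
    (by rw [hfixW] at hfixle; omega)
  -- `R` is trivial on `U`
  have hUR : U ≤ fix ρ R := by
    have h3 : (U ⊓ fix ρ R : Submodule E V) = U :=
      Submodule.eq_of_le_of_finrank_le inf_le_left (by rw [hfixW] at hfixle; omega)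
    rw [← h3]
    exact inf_le_right
  have hUA : U ≤ fix ρ A := by
    intro u hu a ha
    let K : Subgroup H :=
      { carrier := {g | ∀ u ∈ U, ρ g u = u}
        one_mem' := fun u _ => by rw [map_one, Module.End.one_apply]
        mul_mem' := fun {a b} ha hb u hu => by rw [mul_apply', hb u hu, ha u hu]
        inv_mem' := fun {a} ha u hu => by
          have h3 := ha (ρ a⁻¹ u) (hUi _ u hu)
          rw [apply_inv] at h3
          exact h3.symm }
    have hle : ⁅A, R⁆ ≤ K := by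
      rw [Subgroup.commutator_le]
      intro x _ b hb u hu
      rw [commutatorElement_def, mul_apply', mul_apply', mul_apply', hUR hu b⁻¹ (R.inv_mem hb),
        hUR (hUi _ u hu) b hb, apply_inv]
    rw [hcomm] at hle
    exact hle ha u hu
  have hU0 : finrank E U = 0 := by
    rw [hC, le_bot_iff] at hUA
    rw [hUA, finrank_bot]
  rw [hU0, add_zero] at hfr
  rw [hfr] at hodd
  exact (Nat.not_even_iff_odd.2 hodd) heven

end Closed

open TensorProduct in
/-- **The general case.** -/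
theorem ha_core {k : Type*} [Field k] {G Y : Type*} [Group G] [Finite G] [AddCommGroup Y]
    [Module k Y] [FiniteDimensional k Y] [Nontrivial Y] (ρ : Representation k G Y)
    (A R : Subgroup G) {r q m : ℕ} (hr : r.Prime) (hrm : r = 2 ^ m + 1) (hR : Nat.card R = r)
    (hq : q.Prime) (hq2 : q ≠ 2) (hqr : r ≠ q) (hA : IsPGroup q A)
    (hRA : R ≤ normalizer (A : Set G)) (hcomm : ⁅A, R⁆ = A)
    (h1 : ∀ x ∈ A, ∀ y ∈ A, ∀ z ∈ A, ρ ⁅⁅x, y⁆, z⁆ = 1)
    (h2 : ∀ x ∈ A, ∀ y ∈ A, ρ ⁅x ^ q, y⁆ = 1)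
    (hrk : (r : k) ≠ 0) (hqk : (q : k) ≠ 0) (hC : fix ρ A = ⊥)
    (heven : Even (finrank k Y)) (hdim : finrank k Y ≤ finrank k (fix ρ R) + 2 * m) : False := by
  classical
  let E := AlgebraicClosure k
  let K : Subgroup G := A ⊔ R
  let W := TensorProduct k E Y
  have hqf : Fact q.Prime := ⟨hq⟩
  have hAK : A ≤ K := le_sup_left
  have hRK : R ≤ K := le_sup_right
  have hcast : ∀ n : ℕ, (n : k) ≠ 0 → (n : E) ≠ 0 := by
    intro n hn h0
    apply hn
    have : algebraMap k E (n : k) = 0 := by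
      rw [map_natCast]
      exact h0
    exact (map_eq_zero _).mp this
  let π : Representation E K W :=
    { toFun := fun g => (ρ g).baseChange E
      map_one' := by
        rw [Subgroup.coe_one, map_one]
        exact LinearMap.baseChange_id
      map_mul' := by
        intro a b
        rw [Subgroup.coe_mul, map_mul]
        exact LinearMap.baseChange_comp _ _ }
  have hπ : ∀ g, π g = (ρ (g : G)).baseChange E := fun g => rfl
  have hπ1 : ∀ g : K, ρ (g : G) = 1 → π g = 1 := by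
    intro g hg
    rw [hπ, hg]
    exact LinearMap.baseChange_id
  have hfW : finrank E W = finrank k Y := Module.finrank_baseChange
  have hntW : Nontrivial W := by
    have h2 : 0 < finrank k Y := finrank_pos
    exact Module.nontrivial_of_finrank_pos (R := E) (by rw [hfW]; exact h2)
  have hAn : (A.subgroupOf K).Normal := by
    rw [Subgroup.normal_subgroupOf_iff_le_normalizer le_sup_left]
    exact sup_le Subgroup.le_normalizer hRA
  have hAR : A.subgroupOf K ⊔ R.subgroupOf K = ⊤ := by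
    rw [← Subgroup.subgroupOf_sup hAK hRK, Subgroup.subgroupOf_self]
  refine closed π (A.subgroupOf K) (R.subgroupOf K) hAR hr hrm ?_ hq hq2 hqr
    (hA.comap_of_injective _ K.subtype_injective) ?_ ?_ ?_ (hcast r hrk) (hcast q hqk) ?_ (by rw [hfW]; exact heven) ?_
  · rw [Nat.card_congr (Subgroup.subgroupOfEquivOfLe hRK).toEquiv, hR]
  · apply Subgroup.map_injective K.subtype_injective
    rw [Subgroup.map_commutator, Subgroup.subgroupOf_map_subtype, Subgroup.subgroupOf_map_subtype,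
      inf_of_le_left hAK, inf_of_le_left hRK, hcomm]
  · intro x hx y hy z hz
    exact hπ1 _ (h1 x hx y hy z hz)
  · intro x hx y hy
    exact hπ1 _ (h2 x hx y hy)
  · -- the fixed points of `A`
    have : Fintype A := Fintype.ofFinite A
    obtain ⟨n, hn⟩ := hA.exists_card_eq
    have hAE : (Nat.card A : E) ≠ 0 := by
      rw [hn, Nat.cast_pow]; exact pow_ne_zero _ (hcast q hqk)
    rw [eq_bot_iff]
    intro w hw
    rw [Submodule.mem_bot]
    have h3 : ∑ h : A, ρ (h : G) = 0 := by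
      apply LinearMap.ext
      intro v
      rw [LinearMap.zero_apply, ← Submodule.mem_bot k, ← hC]
      intro g hg
      rw [LinearMap.sum_apply, map_sum]
      refine Fintype.sum_bijective (fun y => ⟨g, hg⟩ * y) (Group.mulLeft_bijective _) _ _ fun y => ?_
      rw [← mul_apply']
      rfl
    have h4 : ∑ h : A, π ⟨h, hAK h.2⟩ w = 0 := by
      have h5 : ∑ h : A, π ⟨h, hAK h.2⟩ = (∑ h : A, ρ (h : G)).baseChange E := by
        simp only [hπ]
        exact (map_sum (LinearMap.baseChangeHom k E Y Y) _ _).symm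
      rw [← LinearMap.sum_apply, h5, h3, LinearMap.baseChange_zero, LinearMap.zero_apply]
    have h5 : ∑ h : A, π ⟨h, hAK h.2⟩ w = (Nat.card A : E) • w := by
      rw [Nat.card_eq_fintype_card, Nat.cast_smul_eq_nsmul, ← Finset.card_univ, ← Finset.sum_const]
      exact Finset.sum_congr rfl fun h _ => hw _ h.2
    rw [h4] at h5
    exact (smul_eq_zero.mp h5.symm).resolve_left hAE
  · -- the fixed points of `R`
    rw [hfW]
    refine hdim.trans (Nat.add_le_add_right ?_ _)
    have h3 : finrank E (TensorProduct k E (fix ρ R)) = finrank k (fix ρ R) := Module.finrank_baseChange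
    rw [← h3]
    let L : TensorProduct k E (fix ρ R) →ₗ[E] W := (fix ρ R).subtype.baseChange E
    have hL : Function.Injective L :=
      Module.Flat.lTensor_preserves_injective_linearMap (M := E) (fix ρ R).subtype (Submodule.subtype_injective _)
    have hLf : ∀ t, L t ∈ fix π (R.subgroupOf K) := by
      intro t a ha
      have h4 : (ρ (a : G)) ∘ₗ (fix ρ R).subtype = (fix ρ R).subtype := by
        apply LinearMap.ext
        intro v
        exact v.2 _ ha
      have h5 : (π a) ∘ₗ L = L := by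
        show (ρ (a : G)).baseChange E ∘ₗ (fix ρ R).subtype.baseChange E = (fix ρ R).subtype.baseChange E
        rw [← LinearMap.baseChange_comp, h4]
      exact LinearMap.congr_fun h5 t
    exact LinearMap.finrank_le_finrank_of_injective (f := L.codRestrict _ hLf)
      (fun a b hab => hL (congrArg Subtype.val hab))

end Cfsg.Agent.H813.TurullHa
end

-- part: H575/HA
section
/-!
# The exceptional case
-/

set_option autoImplicit false
set_option linter.unusedSectionVars false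

namespace Cfsg.Agent.H575.HA

open Module Subgroup Cfsg.Agent.H575.Dim Cfsg.Agent.H575.Weights Cfsg.Agent.H575.Sect
  Cfsg.Agent.H575.Tower Cfsg.Agent.H575.Fix Cfsg.Agent.H575.Lev Cfsg.Agent.H575.ExtraIrr
  Cfsg.Agent.H575.Mult
open scoped commutatorElement

section Arith

theorem arith2 {d r s k o : ℕ} (hr : r.Prime) (hs : s.Prime) (hd : 2 ≤ d) (hk : d ^ 2 = s ^ k)
    (h1 : o * r = d ^ 2 + (r - 1)) (hle : d ≤ r - 1) :
    s = 2 ∧ ∃ m : ℕ, r = 2 ^ m + 1 ∧ d = 2 ^ m := by
  obtain ⟨t, rfl⟩ : ∃ t, r = t + 1 := ⟨r - 1, by have := hr.pos; omega⟩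
  rw [Nat.add_sub_cancel] at h1 hle
  have h6 : (t + 1) ∣ (d - 1) * (d + 1) := by
    have h7 : (d - 1) * (d + 1) + (t + 1) = o * (t + 1) := by
      rw [h1]
      obtain ⟨e, rfl⟩ : ∃ e, d = e + 1 := ⟨d - 1, by omega⟩
      rw [Nat.add_sub_cancel]
      ring
    have h8 : (t + 1) ∣ (d - 1) * (d + 1) + (t + 1) := by rw [h7]; exact dvd_mul_left _ _
    exact (Nat.dvd_add_left (dvd_refl _)).mp h8
  have h7 : d = t := by
    rcases (Nat.Prime.dvd_mul hr).mp h6 with h | h
    · have := Nat.le_of_dvd (by omega) h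
      omega
    · have := Nat.le_of_dvd (by omega) h
      omega
  subst h7
  obtain ⟨m, -, hm⟩ : ∃ m ≤ k, d = s ^ m := (Nat.dvd_prime_pow hs).mp
    ((dvd_pow_self d (by norm_num)).trans hk.dvd)
  rcases hs.eq_two_or_odd' with rfl | hodd
  · exact ⟨rfl, m, by rw [hm], hm⟩
  · exfalso
    have h8 : Odd d := by rw [hm]; exact hodd.pow
    have h9 : Even (d + 1) := h8.add_one
    have h10 := (Nat.Prime.even_iff hr).mp h9
    omega

end Arith

theorem map_commutatorElement' {G M : Type*} [Group G] [Monoid M] (f : G →* M) {x y : G}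
    (hx : f x = 1) (hy : f y = 1) : f ⁅x, y⁆ = 1 := by
  have hx' : f x⁻¹ = 1 := by
    have := map_mul f x x⁻¹
    rw [mul_inv_cancel, map_one, hx, one_mul] at this
    exact this.symm
  have hy' : f y⁻¹ = 1 := by
    have := map_mul f y y⁻¹
    rw [mul_inv_cancel, map_one, hy, one_mul] at this
    exact this.symm
  rw [commutatorElement_def, map_mul, map_mul, map_mul, hx, hy, hx', hy']
  simp

section RDfacts

variable {E : Type*} [Field E] [IsAlgClosed E] {G V : Type*} [Group G] [Finite G]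
  [AddCommGroup V] [Module E V] [FiniteDimensional E V] {ρ : Representation E G V}
  {F R : Subgroup G} {r s : ℕ}

theorem two_le (h : RD ρ F R r s) : 2 ≤ finrank E V := by
  have hntV := h.hirr.1
  have hpos : 0 < finrank E V := finrank_pos
  by_contra hlt
  have hd1 : finrank E V = 1 := by omega
  have hcard := h.card_eq
  rw [hd1, one_pow] at hcard
  have hall : ∀ f : F, f ∈ center F := by
    intro f
    have h4 : Subsingleton (F ⧸ center F) := (Nat.card_eq_one_iff_unique.mp hcard).1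
    exact (QuotientGroup.eq_one_iff f).mp (Subsingleton.elim _ _)
  have hle : ⁅F, R⁆ ≤ ⊥ := by
    rw [Subgroup.commutator_le]
    intro f hf a ha
    have h5 := congrArg Subtype.val (h.alpha_center ⟨a, ha⟩ (hall ⟨f, hf⟩))
    rw [alpha_coe] at h5
    have h6 : a * f * a⁻¹ = f := h5
    rw [Subgroup.mem_bot, commutatorElement_def]
    have h7 : f * a * f⁻¹ * a⁻¹ = f * (a * f * a⁻¹)⁻¹ := by group
    rw [h7, h6, mul_inv_cancel]
  rw [h.hcomm, le_bot_iff] at hle
  have h8 := h.hZ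
  have h9 : Nat.card (center F) = 1 := by
    have h10 := Subgroup.card_le_card_group (center F)
    have h11 : Nat.card F = 1 := by rw [hle]; exact Subgroup.card_bot
    rw [h11] at h10
    exact le_antisymm h10 Nat.card_pos
  rw [h9] at h8
  exact h.hs.one_lt.ne h8

theorem exists_pow (h : RD ρ F R r s) : ∃ k, finrank E V ^ 2 = s ^ k := by
  have hsp : Fact s.Prime := ⟨h.hs⟩
  rw [← h.card_eq]
  obtain ⟨n, hn⟩ := h.hF.exists_card_eq
  have h4 : Nat.card (F ⧸ center F) ∣ s ^ n := by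
    rw [← hn]
    exact Subgroup.card_quotient_dvd_card _
  obtain ⟨k, -, hk⟩ := (Nat.dvd_prime_pow h.hs).mp h4
  exact ⟨k, hk⟩

/-- no fixed points: the exceptional parameters -/
theorem rd_exceptional (h : RD ρ F R r s) (hfix : fix ρ R = ⊥) :
    s = 2 ∧ ∃ m : ℕ, r = 2 ^ m + 1 ∧ finrank E V = 2 ^ m := by
  have h1 := (mult h).1
  rw [hfix, finrank_bot, mul_zero, zero_add] at h1
  obtain ⟨k, hk⟩ := exists_pow h
  have h2 := h.card_orbits
  rw [h.card_eq] at h2
  exact arith2 h.hr h.hs (two_le h) hk h2 h1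

end RDfacts

section Beta

variable {E : Type*} [Field E] {G : Type*} [Group G] [Finite G]

theorem mu_pow {Z : Subgroup G} {μ : G → E} (h1 : μ 1 = 1)
    (h2 : ∀ a ∈ Z, ∀ b ∈ Z, μ (a * b) = μ a * μ b) {z : G} (hz : z ∈ Z) (n : ℕ) :
    μ (z ^ n) = μ z ^ n := by
  induction n with
  | zero => rw [pow_zero, pow_zero, h1]
  | succ n ih => rw [pow_succ, h2 _ (Z.pow_mem hz n) _ hz, ih, pow_succ]

theorem mu_comm_one {P Z : Subgroup G} (hPP : ∀ x ∈ P, ∀ y ∈ P, ⁅x, y⁆ ∈ Z)
    {μ : G → E} (h1 : μ 1 = 1)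
    (h2 : ∀ a ∈ Z, ∀ b ∈ Z, μ (a * b) = μ a * μ b) {x y : G} (hx : x ∈ P) (hy : y ∈ P)
    (h : μ ⁅x, y⁆ = 1) : μ ⁅y, x⁆ = 1 := by
  have h3 := h2 _ (hPP x hx y hy) _ (hPP y hy x hx)
  rw [← commutatorElement_inv x y, mul_inv_cancel, h1, h, one_mul] at h3
  rw [← commutatorElement_inv x y]
  exact h3.symm

theorem ndg_beta {P Z : Subgroup G} (hPP : ∀ x ∈ P, ∀ y ∈ P, ⁅x, y⁆ ∈ Z)
    (hZ : ∀ z ∈ Z, ∀ x ∈ P, z * x = x * z) {s : ℕ} (hPs : ∀ x ∈ P, x ^ s ∈ Z)
    {μ : G → E} (h1 : μ 1 = 1)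
    (h2 : ∀ a ∈ Z, ∀ b ∈ Z, μ (a * b) = μ a * μ b) {C S : Subgroup G} (hCP : C ≤ P)
    (hS : S ≤ normalizer (C : Set G)) (hSμ : ∀ g ∈ S, ∀ z ∈ Z, μ (g * z * g⁻¹) = μ z)
    (hcop : (Nat.card S).Coprime s) {d : G} (hd : d ∈ ⁅C, S⁆)
    (hdd : ∀ d' ∈ ⁅C, S⁆, μ ⁅d, d'⁆ = 1) : ∀ c ∈ C, μ ⁅d, c⁆ = 1 := by
  refine ndg (β := fun x y => μ ⁅x, y⁆) (n := s) hS ?_ ?_ ?_ ?_ ?_ hcop hd hdd
  · intro x hx x' hx' y hy
    show μ ⁅x * x', y⁆ = μ ⁅x, y⁆ * μ ⁅x', y⁆
    rw [comm_mul_left hPP hZ (hCP hx) (hCP hx') (hCP hy), h2 _ (hPP _ (hCP hx) _ (hCP hy)) _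
      (hPP _ (hCP hx') _ (hCP hy))]
  · intro x hx y hy y' hy'
    show μ ⁅x, y * y'⁆ = μ ⁅x, y⁆ * μ ⁅x, y'⁆
    rw [comm_mul_right hPP hZ (hCP hx) (hCP hy) (hCP hy'), h2 _ (hPP _ (hCP hx) _ (hCP hy)) _
      (hPP _ (hCP hx) _ (hCP hy'))]
  · intro y _
    show μ ⁅1, y⁆ = 1
    rw [commutatorElement_one_left, h1]
  · intro g hg x hx y hy
    show μ ⁅g * x * g⁻¹, g * y * g⁻¹⁆ = μ ⁅x, y⁆
    have h3 : ⁅g * x * g⁻¹, g * y * g⁻¹⁆ = g * ⁅x, y⁆ * g⁻¹ := by
      simp only [commutatorElement_def]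
      group
    rw [h3, hSμ g hg _ (hPP _ (hCP hx) _ (hCP hy))]
  · intro x hx y hy
    show μ ⁅x, y⁆ ^ s = 1
    rw [← mu_pow h1 h2 (hPP _ (hCP hx) _ (hCP hy)), comm_pow hPP hZ (hCP hx) (hCP hy),
      commutatorElement_eq_one_iff_mul_comm.mpr (hZ _ (hPs x (hCP hx)) y (hCP hy)), h1]

end Beta

section HA

variable {E : Type*} [Field E] [IsAlgClosed E] {G V : Type*} [Group G] [Finite G]
  [AddCommGroup V] [Module E V] [FiniteDimensional E V] {P Z A R : Subgroup G} {r s q : ℕ}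

theorem cop_of_ne {p q : ℕ} (hp : p.Prime) (hq : q.Prime) (hpq : p ≠ q) {A : Subgroup G}
    (hA : IsPGroup q A) : ¬ p ∣ Nat.card A := by
  have : Fact q.Prime := ⟨hq⟩
  obtain ⟨k, hk⟩ := hA.exists_card_eq
  rw [hk]
  intro h
  exact hpq ((Nat.prime_dvd_prime_iff_eq hp hq).mp (hp.dvd_of_dvd_pow h))

theorem cop_card {p q : ℕ} (hp : p.Prime) (hq : q.Prime) (hpq : p ≠ q) {A P : Subgroup G}
    (hA : IsPGroup q A) (hP : IsPGroup p P) : (Nat.card A).Coprime (Nat.card P) := by
  have : Fact q.Prime := ⟨hq⟩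
  have : Fact p.Prime := ⟨hp⟩
  obtain ⟨k, hk⟩ := hA.exists_card_eq
  obtain ⟨l, hl⟩ := hP.exists_card_eq
  rw [hk, hl]
  exact Nat.Coprime.pow _ _ ((Nat.coprime_primes hq hp).mpr hpq.symm)

theorem isPGroup_R (h : LD P Z A R r s q) : IsPGroup r R := by
  have : Fact r.Prime := ⟨h.hr⟩
  exact IsPGroup.of_card (n := 1) (by rw [h.hR, pow_one])

theorem index_subgroupOf_sup {B R : Subgroup G} (hRB : R ≤ normalizer (B : Set G))
    (hcop : (Nat.card R).Coprime (Nat.card B)) :
    (B.subgroupOf (B ⊔ R)).index = Nat.card R ∧ Nat.card (R.subgroupOf (B ⊔ R)) = Nat.card R ∧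
      (B.subgroupOf (B ⊔ R)).Normal ∧ B.subgroupOf (B ⊔ R) ⊔ R.subgroupOf (B ⊔ R) = ⊤ := by
  have hn : (B.subgroupOf (B ⊔ R)).Normal := by
    rw [Subgroup.normal_subgroupOf_iff_le_normalizer le_sup_left]
    exact sup_le Subgroup.le_normalizer hRB
  have hFR : B.subgroupOf (B ⊔ R) ⊔ R.subgroupOf (B ⊔ R) = ⊤ := by
    rw [← Subgroup.subgroupOf_sup le_sup_left le_sup_right, Subgroup.subgroupOf_self]
  have hcB : Nat.card (B.subgroupOf (B ⊔ R)) = Nat.card B :=
    Nat.card_congr (Subgroup.subgroupOfEquivOfLe le_sup_left).toEquiv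
  have hcR : Nat.card (R.subgroupOf (B ⊔ R)) = Nat.card R :=
    Nat.card_congr (Subgroup.subgroupOfEquivOfLe le_sup_right).toEquiv
  have hcomp : Subgroup.IsComplement' (B.subgroupOf (B ⊔ R)) (R.subgroupOf (B ⊔ R)) := by
    refine Subgroup.isComplement'_of_disjoint_and_mul_eq_univ
      (Subgroup.disjoint_of_coprime_natCard (by rw [hcB, hcR]; exact hcop.symm)) ?_
    rw [← Subgroup.normal_mul, hFR, Subgroup.coe_top]
  exact ⟨by rw [hcomp.symm.index_eq_card, hcR], hcR, hn, hFR⟩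

theorem card_ne_zero_of_pgroup {s : ℕ} (hs : s.Prime) {B : Subgroup G} (hB : IsPGroup s B)
    (hsE : (s : E) ≠ 0) : (Nat.card B : E) ≠ 0 := by
  have : Fact s.Prime := ⟨hs⟩
  obtain ⟨k, hk⟩ := hB.exists_card_eq
  rw [hk, Nat.cast_pow]
  exact pow_ne_zero _ hsE

theorem card_sup_ne_zero {r s : ℕ} (hs : s.Prime) {B R : Subgroup G} (hB : IsPGroup s B)
    (hR : Nat.card R = r) (hsE : (s : E) ≠ 0) (hrE : (r : E) ≠ 0)
    (hRB : R ≤ normalizer (B : Set G)) (hcop : (Nat.card R).Coprime (Nat.card B)) :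
    (Nat.card ↥(B ⊔ R) : E) ≠ 0 := by
  obtain ⟨h1, h2, h3, h4⟩ := index_subgroupOf_sup hRB hcop
  rw [← (B.subgroupOf (B ⊔ R)).card_mul_index, h1, hR, Nat.cast_mul]
  refine mul_ne_zero ?_ hrE
  rw [Nat.card_congr (Subgroup.subgroupOfEquivOfLe (le_sup_left : B ≤ B ⊔ R)).toEquiv]
  exact card_ne_zero_of_pgroup hs hB hsE

theorem commutator_subgroupOf {A B K : Subgroup G} (hA : A ≤ K) (hB : B ≤ K) :
    ⁅A.subgroupOf K, B.subgroupOf K⁆ = (⁅A, B⁆).subgroupOf K := by
  apply Subgroup.map_injective K.subtype_injective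
  have hle : ⁅A, B⁆ ≤ K := (commutator_mono hA hB).trans (by
    rw [commutator_le]
    intro x hx y hy
    rw [commutatorElement_def]
    exact K.mul_mem (K.mul_mem (K.mul_mem hx hy) (K.inv_mem hx)) (K.inv_mem hy))
  rw [Subgroup.map_commutator, Subgroup.subgroupOf_map_subtype, Subgroup.subgroupOf_map_subtype,
    Subgroup.subgroupOf_map_subtype, inf_of_le_left hA, inf_of_le_left hB, inf_of_le_left hle]

theorem subgroupOf_le_normalizer' {A B H : Subgroup G}
    (hAB : A ≤ normalizer (B : Set G)) :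
    A.subgroupOf H ≤ normalizer (B.subgroupOf H : Set H) := by
  refine le_norm fun a ha b hb => ?_
  exact Sect.conj_mem hAB ha hb

/-- the parameters of the exceptional case -/
theorem exc_bound {P Z R : Subgroup G} {r s : ℕ} (hr : r.Prime) (hs : s.Prime) (hrs : r ≠ s)
    (hR : Nat.card R = r) (hP : IsPGroup s P) (hPP : ∀ x ∈ P, ∀ y ∈ P, ⁅x, y⁆ ∈ Z)
    (hPs : ∀ x ∈ P, x ^ s ∈ Z) (hZ : ∀ z ∈ Z, ∀ x ∈ P, z * x = x * z)
    (π : Representation E G V) [Nontrivial V]
    (hsE : (s : E) ≠ 0) (hrE : (r : E) ≠ 0) (μ : G → E) (hμ : ∀ z ∈ Z, ∀ v, π z v = μ z • v)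
    {B : Subgroup G} (hBP : B ≤ P) (hRB : R ≤ normalizer (B : Set G)) (hBR : ⁅B, R⁆ = B)
    (hBB : ∃ b ∈ B, ∃ b' ∈ B, μ ⁅b, b'⁆ ≠ 1) (hcon : ∀ v : V, (∀ a ∈ R, π a v = v) → v = 0)
    (N : Subgroup G) (hN : ∀ x ∈ B, (∀ y ∈ B, μ ⁅y, x⁆ = 1) → x ∈ N) :
    s = 2 ∧ ∃ m : ℕ, r = 2 ^ m + 1 ∧ N.relIndex B ≤ (2 ^ m) ^ 2 := by
  have hsp : Fact s.Prime := ⟨hs⟩
  have hrp : Fact r.Prime := ⟨hr⟩
  have hBs : IsPGroup s B := hP.to_le hBP
  have hRs : IsPGroup r R := IsPGroup.of_card (n := 1) (by rw [hR, pow_one])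
  have hcop : (Nat.card R).Coprime (Nat.card B) := cop_card hs hr hrs.symm hRs hBs
  obtain ⟨hidx, hcR, hFn, hFR⟩ := index_subgroupOf_sup hRB hcop
  have hKE := card_sup_ne_zero (E := E) hs hBs hR hsE hrE hRB hcop
  set K : Subgroup G := B ⊔ R with hK
  obtain ⟨U, hU, hirr⟩ := ExtraFix.exists_irr (π.comp K.subtype)
  set ρ := sub (π.comp K.subtype) (MonoidHom.id K) U hU with hρ
  have hρc : ∀ (g : K) (u : U), ((ρ g u : U) : V) = π g u := fun g u => rfl
  set F : Subgroup K := B.subgroupOf K with hF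
  set R' : Subgroup K := R.subgroupOf K with hR'
  have hBK : B ≤ K := le_sup_left
  have hRK : R ≤ K := le_sup_right
  have hnofix : ∀ u : U, (∀ a ∈ R', ρ a u = u) → u = 0 := by
    intro u hu
    apply Subtype.ext
    refine hcon u fun a ha => ?_
    exact congrArg Subtype.val (hu ⟨a, hRK ha⟩ ha)
  have hFirr : Irr (ρ.comp F.subtype) := by
    by_contra hred
    obtain ⟨v, hv, hfix⟩ := ExtraMod.exists_fixed_of_not_irr hKE ρ hirr F R'
      (by rw [hidx, hR]; exact hr) (by rw [hidx, hcR]) hFR hred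
    exact hv (hnofix v hfix)
  have hnt := hirr.1
  have hRD : RD (imgRep ρ) (F.map (toImg ρ)) (R'.map (toImg ρ)) r s := by
    refine rd_img hr hs hrs (by rw [hcR, hR]) (hBs.comap_of_injective _ K.subtype_injective)
      (subgroupOf_le_normalizer' hRB) ?_ ?_ ?_ hrE hsE hFirr ?_
    · rw [hF, hR', commutator_subgroupOf hBK hRK, hBR]
    · intro x hx y hy z hz
      have h1 : ⁅⁅x, y⁆, z⁆ = 1 := by
        apply Subtype.ext
        exact commutatorElement_eq_one_iff_mul_comm.mpr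
          (hZ _ (hPP _ (hBP hx) _ (hBP hy)) _ (hBP hz))
      rw [h1, map_one]
    · intro x hx y hy
      have h1 : ⁅x ^ s, y⁆ = 1 := by
        apply Subtype.ext
        exact commutatorElement_eq_one_iff_mul_comm.mpr (hZ _ (hPs _ (hBP hx)) _ (hBP hy))
      rw [h1, map_one]
    · by_contra hc
      push Not at hc
      obtain ⟨b, hb, b', hb', hbb⟩ := hBB
      apply hbb
      obtain ⟨u, hu⟩ := exists_ne (0 : U)
      have hu' : (u : V) ≠ 0 := fun h => hu (Subtype.ext h)
      have h1 : ρ ⁅(⟨b, hBK hb⟩ : K), (⟨b', hBK hb'⟩ : K)⁆ = 1 := by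
        rw [map_commutatorElement' ρ (hc ⟨b, hBK hb⟩ hb) (hc ⟨b', hBK hb'⟩ hb')]
      have h2 : π ⁅b, b'⁆ (u : V) = u := by
        have := congrArg Subtype.val (LinearMap.congr_fun h1 u)
        exact this
      rw [hμ _ (hPP _ (hBP hb) _ (hBP hb'))] at h2
      have h3 : (μ ⁅b, b'⁆ - 1) • (u : V) = 0 := by rw [sub_smul, one_smul, h2, sub_self]
      exact sub_eq_zero.mp ((smul_eq_zero.mp h3).resolve_right hu')
  have hfixbot : fix (imgRep ρ) (R'.map (toImg ρ)) = ⊥ := by
    rw [eq_bot_iff]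
    intro u hu
    rw [Submodule.mem_bot]
    exact hnofix u fun a ha => hu (toImg ρ a) ⟨a, ha, rfl⟩
  obtain ⟨hs2, m, hm, hdim⟩ := rd_exceptional hRD hfixbot
  refine ⟨hs2, m, hm, ?_⟩
  rw [← hdim]
  have h1 := ExtraSq.relIndex_le_sq ρ F (N.subgroupOf K) (fun x y => μ ⁅(x : G), (y : G)⁆) (by
    intro x hx y hy u
    apply Subtype.ext
    show π ((⁅x, y⁆ : K) : G) (u : V) = μ ⁅(x : G), (y : G)⁆ • (u : V)
    exact hμ _ (hPP _ (hBP hx) _ (hBP hy)) u) (by
    intro x hx hxy
    exact hN x hx fun y hy => hxy ⟨y, hBK hy⟩ hy)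
  rwa [hF, Subgroup.relIndex_subgroupOf hBK] at h1

/-- the group `A` acting on `[P, A]` modulo the radical -/
theorem y_part (h : LD P Z A R r s q) (hs2 : s = 2) {m : ℕ} (hm : r = 2 ^ m + 1)
    {N : Subgroup G} (hZN : Z ≤ N) (hNP : N ≤ P) (hAN : A ≤ normalizer (N : Set G))
    (hRN : R ≤ normalizer (N : Set G)) (hPN : P ≤ normalizer (N : Set G))
    (hidx : N.relIndex ⁅P, R⁆ ≤ (2 ^ m) ^ 2) {d : ℕ} (hsq : N.relIndex ⁅P, A⁆ = d ^ 2)
    (hne : ¬ ⁅P, A⁆ ≤ N) : False := by
  classical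
  have hsp : Fact s.Prime := ⟨h.hs⟩
  have hrp : Fact r.Prime := ⟨h.hr⟩
  have hqp : Fact q.Prime := ⟨h.hq⟩
  have h2p : Fact (Nat.Prime 2) := ⟨Nat.prime_two⟩
  have hRs : IsPGroup r R := isPGroup_R h
  have hcopA : (Nat.card A).Coprime (Nat.card P) := cop_card h.hs h.hq h.hqs.symm h.hA h.hP
  set L := ⁅P, A⁆ with hL
  have hLP : L ≤ P := Lib.CoprimeCommutator.commutator_le_left h.hAP
  have hAL : A ≤ normalizer (L : Set G) :=
    Lib.CoprimeCommutator.right_le_normalizer_commutator P A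
  have hLA : ⁅L, A⁆ = L := Lib.CoprimeCommutator.commutator_commutator_eq A P h.hAP hcopA
  have hRL : R ≤ normalizer (L : Set G) := le_normalizer_commutator h.hRP h.hRA
  have hNn : (N.subgroupOf L).Normal := Subgroup.normal_subgroupOf_of_le_normalizer (hLP.trans hPN)
  let Y := L ⧸ N.subgroupOf L
  let instY : CommGroup Y := { (inferInstance : Group Y) with
    mul_comm := by
      intro x y
      induction x using QuotientGroup.induction_on with | H x => ?_
      induction y using QuotientGroup.induction_on with | H y => ?_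
      change ((x * y : L) : L ⧸ N.subgroupOf L) = ((y * x : L) : L ⧸ N.subgroupOf L)
      rw [QuotientGroup.eq]
      show ((x * y)⁻¹ * (y * x) : L) ∈ N.subgroupOf L
      rw [Subgroup.mem_subgroupOf]
      have h1 : (((x * y)⁻¹ * (y * x) : L) : G) = ⁅(y : G)⁻¹, (x : G)⁻¹⁆ := by
        simp only [commutatorElement_def, Subgroup.coe_mul, Subgroup.coe_inv]
        group
      rw [h1]
      exact hZN (h.hPP _ (P.inv_mem (hLP y.2)) _ (P.inv_mem (hLP x.2))) }
  have hexp : ∀ y : Y, y ^ 2 = 1 := by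
    intro y
    induction y using QuotientGroup.induction_on with | H x => ?_
    rw [← QuotientGroup.mk_pow, QuotientGroup.eq_one_iff, Subgroup.mem_subgroupOf,
      Subgroup.coe_pow, ← hs2]
    exact hZN (h.hPs _ (hLP x.2))
  have instM : Module (ZMod 2) (Additive Y) := AddCommGroup.zmodModule (n := 2) (by
    intro x
    exact congrArg Additive.ofMul (hexp x.toMul))
  have hfin : Finite Y := inferInstance
  have hfd : FiniteDimensional (ZMod 2) (Additive Y) := inferInstance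
  set K : Subgroup G := A ⊔ R with hK
  have hKL : K ≤ normalizer (L : Set G) := sup_le hAL hRL
  have hKN : K ≤ normalizer (N : Set G) := sup_le hAN hRN
  let ρ : Representation (ZMod 2) K (Additive Y) :=
    OddOrderLocal.FrobAct.toRep 2 (secAct K L N hKL hKN)
  have hρ : ∀ (g : K) (x : L), ρ g (Additive.ofMul (QuotientGroup.mk x : Y)) =
      Additive.ofMul (QuotientGroup.mk (⟨g * x * (g : G)⁻¹, Sect.conj_mem hKL g.2 x.2⟩ : L) : Y) :=
    fun g x => rfl
  have hmk : ∀ y : Additive Y, ∃ x : L, y = Additive.ofMul (QuotientGroup.mk x : Y) := by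
    intro y
    obtain ⟨x, hx⟩ := QuotientGroup.mk_surjective y.toMul
    exact ⟨x, (congrArg Additive.ofMul hx).symm⟩
  have hmk0 : ∀ x : L, Additive.ofMul (QuotientGroup.mk x : Y) = 0 ↔ (x : G) ∈ N := by
    intro x
    have h1 : Additive.ofMul (QuotientGroup.mk x : Y) = 0 ↔ (QuotientGroup.mk x : Y) = 1 := Iff.rfl
    rw [h1, QuotientGroup.eq_one_iff, Subgroup.mem_subgroupOf]
  have hnt : Nontrivial (Additive Y) := by
    obtain ⟨x, hx, hxN⟩ := SetLike.not_le_iff_exists.mp hne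
    exact ⟨⟨Additive.ofMul (QuotientGroup.mk (⟨x, hx⟩ : L) : Y), 0, fun h0 => hxN ((hmk0 _).mp h0)⟩⟩
  have hAK : A ≤ K := le_sup_left
  have hRK : R ≤ K := le_sup_right
  have hq2 : q ≠ 2 := by rw [← hs2]; exact h.hqs
  have hr2 : r ≠ 2 := by rw [← hs2]; exact h.hrs
  have hcast : ∀ n : ℕ, n.Prime → n ≠ 2 → (n : ZMod 2) ≠ 0 := by
    intro n hn hn2 h0
    rw [ZMod.natCast_eq_zero_iff] at h0
    exact hn2 ((Nat.prime_dvd_prime_iff_eq Nat.prime_two hn).mp h0).symm
  have hcardY : Nat.card Y = 2 ^ finrank (ZMod 2) (Additive Y) := by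
    have := Module.natCard_eq_pow_finrank (K := ZMod 2) (V := Additive Y)
    rw [Nat.card_zmod] at this
    exact this
  have hcardY' : Nat.card Y = N.relIndex L := rfl
  have heven : Even (finrank (ZMod 2) (Additive Y)) := by
    have h1 : 2 ^ finrank (ZMod 2) (Additive Y) = d ^ 2 := by rw [← hcardY, hcardY', hsq]
    obtain ⟨k, -, hk⟩ := (Nat.dvd_prime_pow Nat.prime_two).mp
      ((dvd_pow_self d (by norm_num)).trans h1.symm.dvd)
    rw [hk, ← pow_mul] at h1
    have h2 := Nat.pow_right_injective le_rfl h1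
    exact ⟨k, by omega⟩
  have hconj : ∀ (g : K) (x : L), ρ g (Additive.ofMul (QuotientGroup.mk x : Y)) =
      Additive.ofMul (QuotientGroup.mk x : Y) ↔ (x : G)⁻¹ * (g * x * (g : G)⁻¹) ∈ N := by
    intro g x
    rw [hρ]
    constructor
    · intro h0
      have h1 := QuotientGroup.eq.mp (Additive.ofMul.injective h0).symm
      exact h1
    · intro h0
      refine congrArg Additive.ofMul (QuotientGroup.eq.mpr ?_).symm
      exact h0
  have hcent : L ⊓ centralizer (A : Set G) ≤ Z := by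
    have hcopAL : (Nat.card A).Coprime (Nat.card L) :=
      Nat.Coprime.coprime_dvd_right (Subgroup.card_dvd_of_le hLP) hcopA
    have h1 : ⁅L, L⁆ ≤ Z := by
      rw [commutator_le]
      exact fun x hx y hy => h.hPP x (hLP hx) y (hLP hy)
    exact cent_le_gen hcopAL h1 hAL hLA
  have hqN : ¬ q ∣ Nat.card ↥(N ⊓ L) := fun h0 =>
    cop_of_ne h.hq h.hs h.hqs h.hP (h0.trans (Subgroup.card_dvd_of_le (inf_le_left.trans hNP)))
  have hC : fix ρ (A.subgroupOf K) = ⊥ := by
    rw [eq_bot_iff]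
    intro y hy
    obtain ⟨x, rfl⟩ := hmk y
    rw [Submodule.mem_bot, hmk0]
    have h1 : ∀ a ∈ A, (x : G)⁻¹ * (a * x * a⁻¹) ∈ N ⊓ L := by
      intro a ha
      refine ⟨(hconj ⟨a, hAK ha⟩ x).mp (hy ⟨a, hAK ha⟩ ha), ?_⟩
      exact L.mul_mem (L.inv_mem x.2) (Sect.conj_mem hAL ha x.2)
    obtain ⟨c, hc, hxc⟩ := exists_cent_coset h.hq h.hA (le_normalizer_inf hAN hAL) hqN h1
    have h2 : c ∈ L := by
      have : c = x * ((x : G)⁻¹ * c) := by group
      rw [this]
      exact L.mul_mem x.2 hxc.2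
    have h3 : c ∈ N := hZN (hcent ⟨h2, hc⟩)
    have h4 : (x : G) = c * ((x : G)⁻¹ * c)⁻¹ := by group
    rw [h4]
    exact N.mul_mem h3 (N.inv_mem hxc.1)
  -- the fixed points of `R`
  have hntR : Nontrivial R := Finite.one_lt_card_iff_nontrivial.mp (by rw [h.hR]; exact h.hr.one_lt)
  obtain ⟨a0, ha0⟩ := exists_ne (1 : R)
  have hgen : ∀ a ∈ R, ∃ n : ℕ, (a0 : G) ^ n = a := by
    intro a ha
    have hp : Fact (Nat.card R).Prime := ⟨h.hR ▸ h.hr⟩
    have h8 : (⟨a, ha⟩ : R) ∈ Subgroup.zpowers a0 := mem_zpowers_of_prime_card rfl ha0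
    rw [← mem_powers_iff_mem_zpowers] at h8
    obtain ⟨n, hn⟩ := h8
    exact ⟨n, by have := congrArg Subtype.val hn; rwa [Subgroup.coe_pow] at this⟩
  let T : Additive Y →ₗ[ZMod 2] Additive Y := LinearMap.id - ρ ⟨a0, hRK a0.2⟩
  have hT : ∀ v, T v = v - ρ ⟨a0, hRK a0.2⟩ v := fun v => rfl
  have hker : LinearMap.ker T = fix ρ (R.subgroupOf K) := by
    ext v
    rw [LinearMap.mem_ker, hT, sub_eq_zero, mem_fix]
    constructor
    · intro hv a ha
      obtain ⟨n, hn⟩ := hgen a ha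
      have h1 : a = (⟨a0, hRK a0.2⟩ : K) ^ n := Subtype.ext hn.symm
      rw [h1]
      clear h1 hn
      induction n with
      | zero => rw [pow_zero, map_one]; rfl
      | succ n ih => rw [pow_succ, mul_apply', ← hv, ih]
    · intro hv
      exact (hv ⟨a0, hRK a0.2⟩ a0.2).symm
  have hrn := LinearMap.finrank_range_add_finrank_ker T
  rw [hker] at hrn
  have hrange : finrank (ZMod 2) (LinearMap.range T) ≤ 2 * m := by
    have h1 : Nat.card (LinearMap.range T) = 2 ^ finrank (ZMod 2) (LinearMap.range T) := by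
      have := Module.natCard_eq_pow_finrank (K := ZMod 2) (V := LinearMap.range T)
      rw [Nat.card_zmod] at this
      exact this
    have h2 : Nat.card (LinearMap.range T) ≤ N.relIndex ⁅P, R⁆ := by
      -- the image consists of the classes of elements of `[P, R]`
      have h3 : ∀ v : LinearMap.range T, ∃ b : (⁅P, R⁆ : Subgroup G), ∃ hb : (b : G) ∈ L,
          (v : Additive Y) = Additive.ofMul (QuotientGroup.mk (⟨b, hb⟩ : L) : Y) := by
        rintro ⟨_, w, rfl⟩
        obtain ⟨x, rfl⟩ := hmk w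
        refine ⟨⟨⁅(x : G), (a0 : G)⁆, commutator_mem_commutator (hLP x.2) a0.2⟩, ?_, ?_⟩
        · have h4 : ⁅(x : G), (a0 : G)⁆ = x * ((a0 : G) * (x : G)⁻¹ * (a0 : G)⁻¹) := by
            rw [commutatorElement_def]
            group
          show ⁅(x : G), (a0 : G)⁆ ∈ L
          rw [h4]
          exact L.mul_mem x.2 (Sect.conj_mem hRL a0.2 (L.inv_mem x.2))
        · show T (Additive.ofMul (QuotientGroup.mk x : Y)) = _
          rw [hT, hρ]
          have h5 : ∀ u w : L, Additive.ofMul (QuotientGroup.mk u : Y) -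
              Additive.ofMul (QuotientGroup.mk w : Y) =
              Additive.ofMul (QuotientGroup.mk (u * w⁻¹) : Y) := by
            intro u w
            rw [QuotientGroup.mk_mul, QuotientGroup.mk_inv, ofMul_mul, ofMul_inv, sub_eq_add_neg]
          refine (h5 _ _).trans ?_
          congr 2
          apply Subtype.ext
          show (x : G) * ((a0 : G) * (x : G) * (a0 : G)⁻¹)⁻¹ = ⁅(x : G), (a0 : G)⁆
          rw [commutatorElement_def]
          group
      choose b hbL hb using h3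
      let f : LinearMap.range T → (⁅P, R⁆ : Subgroup G) ⧸ N.subgroupOf ⁅P, R⁆ :=
        fun v => QuotientGroup.mk (b v)
      have hf : Function.Injective f := by
        intro v w hvw
        have h4 := QuotientGroup.eq.mp hvw
        apply Subtype.ext
        rw [hb v, hb w]
        refine congrArg Additive.ofMul (QuotientGroup.eq.mpr ?_)
        exact h4
      have h5 := Nat.card_le_card_of_injective f hf
      exact h5
    have h4 : 2 ^ finrank (ZMod 2) (LinearMap.range T) ≤ 2 ^ (2 * m) := by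
      rw [← h1]
      refine h2.trans (hidx.trans ?_)
      rw [← pow_mul, mul_comm]
    exact (Nat.pow_le_pow_iff_right (by norm_num)).mp h4
  refine H813.TurullHa.ha_core ρ (A.subgroupOf K) (R.subgroupOf K) (r := r) (q := q) (m := m) h.hr hm ?_ h.hq
    hq2 h.hrq (h.hA.comap_of_injective _ K.subtype_injective) (subgroupOf_le_normalizer' h.hRA)
    ?_ ?_ ?_ (hcast r h.hr hr2) (hcast q h.hq hq2) hC heven (by omega)
  · rw [Nat.card_congr (Subgroup.subgroupOfEquivOfLe hRK).toEquiv, h.hR]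
  · rw [commutator_subgroupOf hAK hRK, h.hcomm]
  · intro x hx y hy z hz
    apply LinearMap.ext
    intro v
    obtain ⟨w, rfl⟩ := hmk v
    rw [Module.End.one_apply, hconj]
    have h1 := h.hA3 x hx y hy z hz w (hLP w.2)
    have h2 : (w : G)⁻¹ * (((⁅⁅x, y⁆, z⁆ : K) : G) * w * ((⁅⁅x, y⁆, z⁆ : K) : G)⁻¹) = 1 := by
      have h3 : ((⁅⁅x, y⁆, z⁆ : K) : G) = ⁅⁅(x : G), (y : G)⁆, (z : G)⁆ := rfl
      rw [h3, h1]
      group
    rw [h2]
    exact N.one_mem
  · intro x hx y hy
    apply LinearMap.ext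
    intro v
    obtain ⟨w, rfl⟩ := hmk v
    rw [Module.End.one_apply, hconj]
    have h1 := h.hAq x hx y hy w (hLP w.2)
    have h2 : (w : G)⁻¹ * (((⁅x ^ q, y⁆ : K) : G) * w * ((⁅x ^ q, y⁆ : K) : G)⁻¹) = 1 := by
      have h3 : ((⁅x ^ q, y⁆ : K) : G) = ⁅(x : G) ^ q, (y : G)⁆ := rfl
      rw [h3, h1]
      group
    rw [h2]
    exact N.one_mem

/-- **The exceptional case does not occur**, when the central subgroup acts by scalars. -/
theorem ha_scalar (h : LD P Z A R r s q) (π : Representation E G V) [Nontrivial V]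
    (hsE : (s : E) ≠ 0) (hrE : (r : E) ≠ 0) (μ : G → E) (hμ : ∀ z ∈ Z, ∀ v, π z v = μ z • v)
    (hne : ∃ x ∈ ⁅P, A⁆, ∃ y ∈ P, μ ⁅x, y⁆ ≠ 1) : ∃ v : V, v ≠ 0 ∧ ∀ a ∈ R, π a v = v := by
  have hsp : Fact s.Prime := ⟨h.hs⟩
  have hrp : Fact r.Prime := ⟨h.hr⟩
  have hqp : Fact q.Prime := ⟨h.hq⟩
  by_contra hcon
  push Not at hcon
  have hRs : IsPGroup r R := isPGroup_R h
  obtain ⟨v0, hv0⟩ := exists_ne (0 : V)
  have key : ∀ c d : E, c • v0 = d • v0 → c = d := by
    intro c d hcd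
    have h1 : (c - d) • v0 = 0 := by rw [sub_smul, hcd, sub_self]
    exact sub_eq_zero.mp ((smul_eq_zero.mp h1).resolve_right hv0)
  have h1 : μ 1 = 1 := by
    apply key
    rw [← hμ 1 Z.one_mem, map_one, one_smul]
    rfl
  have h2 : ∀ a ∈ Z, ∀ b ∈ Z, μ (a * b) = μ a * μ b := by
    intro a ha b hb
    apply key
    rw [← hμ _ (Z.mul_mem ha hb), mul_apply', hμ b hb, map_smul, hμ a ha, smul_smul, mul_comm]
  have hinv : ∀ g : G, ∀ z ∈ Z, g * z * g⁻¹ ∈ Z → μ (g * z * g⁻¹) = μ z := by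
    intro g z hz hgz
    apply key
    rw [← hμ _ hgz, mul_apply', mul_apply', hμ z hz, map_smul, apply_inv]
  have hAμ : ∀ g ∈ A, ∀ z ∈ Z, μ (g * z * g⁻¹) = μ z := by
    intro g hg z hz
    rw [← h.hZA z hz g hg, mul_inv_cancel_right]
  have hPμ : ∀ g ∈ P, ∀ z ∈ Z, μ (g * z * g⁻¹) = μ z := by
    intro g hg z hz
    rw [← h.hZ z hz g hg, mul_inv_cancel_right]
  have hRμ : ∀ g ∈ R, ∀ z ∈ Z, μ (g * z * g⁻¹) = μ z := fun g hg z hz =>
    hinv g z hz (Sect.conj_mem h.hRZ hg hz)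
  have hcopR : (Nat.card R).Coprime (Nat.card P) := cop_card h.hs h.hr h.hrs.symm hRs h.hP
  have hcopRs : (Nat.card R).Coprime s := by
    rw [h.hR]; exact (Nat.coprime_primes h.hr h.hs).mpr h.hrs
  have hcopA : (Nat.card A).Coprime (Nat.card P) := cop_card h.hs h.hq h.hqs.symm h.hA h.hP
  have hcopAs : (Nat.card A).Coprime s := by
    obtain ⟨k, hk⟩ := h.hA.exists_card_eq
    rw [hk]
    exact Nat.Coprime.pow_left _ ((Nat.coprime_primes h.hq h.hs).mpr h.hqs)
  set N := rad h.hPP h.hZ μ h1 h2 with hN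
  have hNP : N ≤ P := fun x hx => hx.1
  have hZN : Z ≤ N := by
    intro z hz
    refine ⟨h.hZP hz, fun y hy => ?_⟩
    rw [commutatorElement_eq_one_iff_mul_comm.mpr (h.hZ z hz y hy), h1]
  have hAN : A ≤ normalizer (N : Set G) := le_normalizer_rad h.hAP hAμ
  have hRN : R ≤ normalizer (N : Set G) := le_normalizer_rad h.hRP hRμ
  have hPN : P ≤ normalizer (N : Set G) := le_normalizer_rad le_normalizer hPμ
  set B := ⁅P, R⁆ with hB
  have hBP : B ≤ P := Lib.CoprimeCommutator.commutator_le_left h.hRP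
  have hRB : R ≤ normalizer (B : Set G) :=
    Lib.CoprimeCommutator.right_le_normalizer_commutator P R
  have hBR : ⁅B, R⁆ = B := Lib.CoprimeCommutator.commutator_commutator_eq R P h.hRP hcopR
  set L := ⁅P, A⁆ with hL
  have hLP : L ≤ P := Lib.CoprimeCommutator.commutator_le_left h.hAP
  have hAL : A ≤ normalizer (L : Set G) :=
    Lib.CoprimeCommutator.right_le_normalizer_commutator P A
  have hLA : ⁅L, A⁆ = L := Lib.CoprimeCommutator.commutator_commutator_eq A P h.hAP hcopA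
  have hRL : R ≤ normalizer (L : Set G) := le_normalizer_commutator h.hRP h.hRA
  -- the form is not zero on `B`
  have hBne : ¬ B ≤ N := by
    intro hBN
    obtain ⟨x, hx, y, hy, hxy⟩ := hne
    apply hxy
    have h3 : R ≤ cmod P N := fun a ha => ⟨hRN ha, fun y hy => by
      have h4 : ⁅a, y⁆ = ⁅y, a⁆⁻¹ := (commutatorElement_inv y a).symm
      rw [h4]
      exact N.inv_mem (hBN (commutator_mem_commutator hy ha))⟩
    have h4 : A ≤ cmod P N := by
      rw [← h.hcomm]
      exact commutator_le_cmod h3 h.hAP hAN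
    have h5 : L ≤ N := by
      rw [hL, commutator_le]
      intro u hu a ha
      have h6 : ⁅u, a⁆ = ⁅a, u⁆⁻¹ := (commutatorElement_inv a u).symm
      rw [h6]
      exact N.inv_mem ((h4 ha).2 u hu)
    exact (h5 hx).2 y hy
  have hBB : ∃ b ∈ B, ∃ b' ∈ B, μ ⁅b, b'⁆ ≠ 1 := by
    by_contra hc
    push Not at hc
    apply hBne
    intro b hb
    refine ⟨hBP hb, ?_⟩
    exact ndg_beta h.hPP h.hZ h.hPs h1 h2 le_rfl h.hRP hRμ hcopRs hb (hc b hb)
  have hN' : ∀ x ∈ B, (∀ y ∈ B, μ ⁅y, x⁆ = 1) → x ∈ N := by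
    intro x hx hxy
    refine ⟨hBP hx, ?_⟩
    refine ndg_beta h.hPP h.hZ h.hPs h1 h2 le_rfl h.hRP hRμ hcopRs hx fun y hy => ?_
    exact mu_comm_one h.hPP h1 h2 (hBP hy) (hBP hx) (hxy y hy)
  obtain ⟨hs2, m, hm, hidx⟩ := exc_bound h.hr h.hs h.hrs h.hR h.hP h.hPP h.hPs h.hZ π hsE hrE μ hμ
    hBP hRB hBR hBB (fun v hv => by
      by_contra hv0
      obtain ⟨a, ha, hne⟩ := hcon v hv0
      exact hne (hv a ha)) N hN'
  -- the square
  have hsq : ∃ d, N.relIndex L = d ^ 2 := by
    obtain ⟨U, hU, hirr⟩ := ExtraFix.exists_irr (π.comp L.subtype)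
    refine ⟨finrank E U, ?_⟩
    refine ExtraSq.relIndex_eq_sq (sub (π.comp L.subtype) (MonoidHom.id L) U hU) hirr
      (N.subgroupOf L) (fun x y => μ ⁅(x : G), (y : G)⁆) ?_ ?_ ?_
    · intro x y u
      apply Subtype.ext
      exact hμ _ (h.hPP _ (hLP x.2) _ (hLP y.2)) u
    · intro x hx
      rw [Subgroup.mem_subgroupOf]
      refine ⟨hLP x.2, ?_⟩
      refine ndg_beta h.hPP h.hZ h.hPs h1 h2 le_rfl h.hAP hAμ hcopAs x.2 fun y hy => ?_
      exact mu_comm_one h.hPP h1 h2 (hLP hy) (hLP x.2) (hx ⟨y, hy⟩)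
    · intro x hx y
      exact mu_comm_one h.hPP h1 h2 (hLP x.2) (hLP y.2) (hx.2 y (hLP y.2))
  obtain ⟨d, hsq⟩ := hsq
  refine y_part h hs2 hm hZN hNP hAN hRN hPN hidx hsq fun hLN => ?_
  obtain ⟨x, hx, y, hy, hxy⟩ := hne
  exact hxy ((hLN hx).2 y hy)

theorem LD_subgroupOf (h : LD P Z A R r s q) {H : Subgroup G} (hPH : P ≤ H) (hAH : A ≤ H)
    (hRH : R ≤ H) :
    LD (P.subgroupOf H) (Z.subgroupOf H) (A.subgroupOf H) (R.subgroupOf H) r s q where
  hr := h.hr
  hs := h.hs
  hq := h.hq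
  hrs := h.hrs
  hrq := h.hrq
  hqs := h.hqs
  hR := by rw [Nat.card_congr (Subgroup.subgroupOfEquivOfLe hRH).toEquiv, h.hR]
  hP := h.hP.comap_of_injective _ H.subtype_injective
  hZP := Subgroup.comap_mono h.hZP
  hPP := fun x hx y hy => h.hPP x hx y hy
  hPs := fun x hx => h.hPs x hx
  hZ := fun z hz x hx => Subtype.ext (h.hZ z hz x hx)
  hA := h.hA.comap_of_injective _ H.subtype_injective
  hAP := subgroupOf_le_normalizer' h.hAP
  hZA := fun z hz x hx => Subtype.ext (h.hZA z hz x hx)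
  hRP := subgroupOf_le_normalizer' h.hRP
  hRZ := subgroupOf_le_normalizer' h.hRZ
  hRA := subgroupOf_le_normalizer' h.hRA
  hcomm := by rw [commutator_subgroupOf hAH hRH, h.hcomm]
  hA3 := fun a ha b hb c hc x hx => Subtype.ext (h.hA3 a ha b hb c hc x hx)
  hAq := fun a ha b hb x hx => Subtype.ext (h.hAq a ha b hb x hx)

theorem pres_wt_of_comm (π : Representation E G V) {Z H : Subgroup G} {μ : G → E}
    (hZ : ∀ z ∈ Z, ∀ x ∈ H, z * x = x * z) : Pres π H (wt π Z ⊤ μ) := by
  intro x hx w hw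
  exact apply_mem_wt_of_comm (fun _ _ => Submodule.mem_top) (fun a ha v _ => by
    rw [← mul_apply', ← mul_apply', hZ a ha x hx]) hw

theorem pres_wt_of_inv (π : Representation E G V) {Z H : Subgroup G} {μ : G → E}
    (hH : H ≤ normalizer (Z : Set G)) (hμ : ∀ g ∈ H, ∀ z ∈ Z, μ (g * z * g⁻¹) = μ z) :
    Pres π H (wt π Z ⊤ μ) := by
  intro x hx w hw
  have h1 := apply_mem_wt (hH hx) (fun _ _ => Submodule.mem_top) hw
  have h2 : Same Z (cj x μ) μ := by
    intro a ha
    have h3 := hμ x⁻¹ (H.inv_mem hx) a ha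
    rwa [inv_inv] at h3
  rwa [wt_congr π ⊤ h2] at h1

/-- **The exceptional case does not occur.** -/
theorem ha (h : LD P Z A R r s q) (π : Representation E G V)
    (hsE : (s : E) ≠ 0) (hrE : (r : E) ≠ 0) (μ : G → E)
    (hμR : ∀ g ∈ R, ∀ z ∈ Z, μ (g * z * g⁻¹) = μ z) (hV : wt π Z ⊤ μ ≠ ⊥)
    (hne : ∃ x ∈ ⁅P, A⁆, ∃ y ∈ P, μ ⁅x, y⁆ ≠ 1) :
    ∃ v ∈ wt π Z ⊤ μ, v ≠ 0 ∧ ∀ a ∈ R, π a v = v := by
  set W := wt π Z ⊤ μ with hW
  let H : Subgroup G := (P ⊔ A) ⊔ R
  have hHW : Pres π H W := by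
    refine Pres.sup (Pres.sup (pres_wt_of_comm π h.hZ) (pres_wt_of_comm π h.hZA) h.hAP)
      (pres_wt_of_inv π h.hRZ hμR) (le_normalizer_sup' h.hRP h.hRA)
  have hPH : P ≤ H := le_sup_left.trans le_sup_left
  have hAH : A ≤ H := le_sup_right.trans le_sup_left
  have hRH : R ≤ H := le_sup_right
  have hnt : Nontrivial W := Submodule.nontrivial_iff_ne_bot.mpr hV
  obtain ⟨v, hv, hfix⟩ := ha_scalar (LD_subgroupOf h hPH hAH hRH)
    (sub π H.subtype W (fun g w hw => hHW g g.2 w hw)) hsE hrE (fun x => μ (x : G))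
    (by
      intro z hz w
      apply Subtype.ext
      exact w.2.2 z hz)
    (by
      obtain ⟨x, hx, y, hy, hxy⟩ := hne
      have hxH : x ∈ H := hPH (Lib.CoprimeCommutator.commutator_le_left h.hAP hx)
      refine ⟨⟨x, hxH⟩, ?_, ⟨y, hPH hy⟩, hy, hxy⟩
      rw [commutator_subgroupOf hPH hAH]
      exact hx)
  refine ⟨v, v.2, fun h0 => hv (Subtype.ext h0), fun a ha => ?_⟩
  exact congrArg Subtype.val (hfix ⟨a, hRH ha⟩ ha)

end HA

end Cfsg.Agent.H575.HA
end

-- part: H575/KLCore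
section
/-!
# Weights of an abelian group and its automorphisms
-/

set_option autoImplicit false
set_option linter.unusedSectionVars false

namespace Cfsg.Agent.H575.KL

open Module Subgroup Cfsg.Agent.H575.Dim Cfsg.Agent.H575.Weights Cfsg.Agent.H575.Sect
  Cfsg.Agent.H575.Fix Cfsg.Agent.H575.Lev Cfsg.Agent.H575.ModM
  Cfsg.Agent.H575.Mult Cfsg.Agent.H575.HA
open scoped commutatorElement

variable {E : Type*} [Field E] {G V : Type*} [Group G] [AddCommGroup V] [Module E V]

/-- the commutator space -/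
def br (π : Representation E G V) (B : Subgroup G) : Submodule E V :=
  Submodule.span E {w | ∃ b ∈ B, ∃ u, w = π b u - u}

/-- triviality on the fixed points of `R` in `[V, B]` -/
def Inv (π : Representation E G V) (B R : Subgroup G) (x : G) : Prop :=
  ∀ v ∈ br π B, (∀ a ∈ R, π a v = v) → π x v = v

theorem pres_br {π : Representation E G V} {B H : Subgroup G}
    (hH : H ≤ normalizer (B : Set G)) : Pres π H (br π B) := by
  intro g hg w hw
  have h1 : (br π B).map (π g) ≤ br π B := by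
    rw [br, Submodule.map_span, Submodule.span_le]
    rintro _ ⟨_, ⟨b, hb, u, rfl⟩, rfl⟩
    refine Submodule.subset_span ⟨g * b * g⁻¹, Sect.conj_mem hH hg hb, π g u, ?_⟩
    rw [map_sub, mul_apply', mul_apply', inv_apply]
  exact h1 ⟨w, hw, rfl⟩

theorem mem_br_of_scal {π : Representation E G V} {B : Subgroup G} {b : G} (hb : b ∈ B) {v : V}
    {c : E} (hv : π b v = c • v) (hc : c ≠ 1) : v ∈ br π B := by
  have h1 : v = (c - 1)⁻¹ • (π b v - v) := by
    rw [hv]
    have h2 : c • v - v = (c - 1) • v := by rw [sub_smul, one_smul]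
    rw [h2, smul_smul, inv_mul_cancel₀ (sub_ne_zero.mpr hc), one_smul]
  rw [h1]
  exact Submodule.smul_mem _ _ (Submodule.subset_span ⟨b, hb, v, rfl⟩)

/-- functions multiplicative on `K` and invariant under `S` are trivial on `[K, S]` -/
theorem kills {K S : Subgroup G} (hS : S ≤ normalizer (K : Set G)) (f : G → E)
    (f1 : f 1 = 1) (fm : ∀ x ∈ K, ∀ y ∈ K, f (x * y) = f x * f y)
    (finv : ∀ g ∈ S, ∀ x ∈ K, f (g * x * g⁻¹) = f x) : ∀ x ∈ ⁅K, S⁆, f x = 1 := by
  let φ : K →* E :=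
    { toFun := fun x => f x
      map_one' := f1
      map_mul' := fun x y => fm x x.2 y y.2 }
  have hker : ⁅K, S⁆ ≤ (MonoidHom.ker φ).map K.subtype := by
    rw [commutator_le]
    intro x hx g hg
    have h0 : g * x⁻¹ * g⁻¹ ∈ K := Sect.conj_mem hS hg (K.inv_mem hx)
    refine ⟨⟨x, hx⟩ * ⟨g * x⁻¹ * g⁻¹, h0⟩, ?_, ?_⟩
    · show f (x * (g * x⁻¹ * g⁻¹)) = 1
      rw [fm x hx _ h0, finv g hg _ (K.inv_mem hx), ← fm x hx _ (K.inv_mem hx), mul_inv_cancel, f1]
    · show x * (g * x⁻¹ * g⁻¹) = ⁅x, g⁆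
      rw [commutatorElement_def]
      group
  intro x hx
  obtain ⟨y, hy, rfl⟩ := hker hx
  exact hy

/-- a weight which is not invariant lives in the commutator space -/
theorem wt_le_br {π : Representation E G V} {A R B : Subgroup G} {W : Submodule E V} {l : G → E}
    (hRA : R ≤ normalizer (A : Set G)) (hB : ⁅A, R⁆ ≤ B)
    (hl : ¬ ∀ a ∈ R, Same A (cj a l) l) : wt π A W l ≤ br π B := by
  intro v hv
  by_cases hbot : wt π A W l = ⊥
  · rw [hbot, Submodule.mem_bot] at hv
    rw [hv]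
    exact Submodule.zero_mem _
  obtain ⟨h1, h2, h3, h4⟩ := wt_facts hbot
  push Not at hl
  obtain ⟨a, ha, hne⟩ := hl
  have hne' : ∃ x ∈ A, l (a⁻¹ * x * a) ≠ l x := by
    by_contra hc
    push Not at hc
    exact hne hc
  obtain ⟨x, hx, hxne⟩ := hne'
  have hx' : a⁻¹ * x * a ∈ A := by
    have := Sect.conj_mem hRA (R.inv_mem ha) hx
    rwa [inv_inv] at this
  have hb : x⁻¹ * (a⁻¹ * x * a) ∈ B := by
    have h5 : x⁻¹ * (a⁻¹ * x * a) = ⁅x⁻¹, a⁻¹⁆ := by
      rw [commutatorElement_def]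
      group
    rw [h5]
    exact hB (commutator_mem_commutator (A.inv_mem hx) (R.inv_mem ha))
  refine mem_br_of_scal hb (hv.2 _ (A.mul_mem (A.inv_mem hx) hx')) ?_
  rw [h2 _ (A.inv_mem hx) _ hx', h4 x hx]
  intro h5
  apply hxne
  rw [inv_mul_eq_one₀ (h3 x hx)] at h5
  exact h5.symm

variable [Finite G] {P Z A R : Subgroup G} {r s q : ℕ}

/-- `C_A(R)` is central in `A` modulo the centralizer of `P` -/
theorem cent_comm (h : LD P Z A R r s q) {c : G} (hc : c ∈ A ⊓ centralizer (R : Set G)) {a : G}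
    (ha : a ∈ A) {x : G} (hx : x ∈ P) : ⁅c, a⁆ * x = x * ⁅c, a⁆ := by
  have hAC : A ≤ normalizer ((centralizer (P : Set G) : Subgroup G) : Set G) :=
    le_normalizer_centralizer h.hAP
  let S : Subgroup G :=
    { carrier := {c | c ∈ A ∧ ∀ a ∈ A, ⁅c, a⁆ ∈ centralizer (P : Set G)}
      one_mem' := ⟨A.one_mem, fun a _ => by rw [commutatorElement_one_left]; exact one_mem _⟩
      mul_mem' := by
        rintro u w ⟨hu, hu'⟩ ⟨hw, hw'⟩
        refine ⟨A.mul_mem hu hw, fun a ha => ?_⟩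
        have h1 : ⁅u * w, a⁆ = u * ⁅w, a⁆ * u⁻¹ * ⁅u, a⁆ := by
          simp only [commutatorElement_def]
          group
        rw [h1]
        exact mul_mem (Sect.conj_mem hAC hu (hw' a ha)) (hu' a ha)
      inv_mem' := by
        rintro u ⟨hu, hu'⟩
        refine ⟨A.inv_mem hu, fun a ha => ?_⟩
        have h1 : ⁅u⁻¹, a⁆ = u⁻¹ * ⁅u, a⁆⁻¹ * u⁻¹⁻¹ := by
          simp only [commutatorElement_def]
          group
        rw [h1]
        exact Sect.conj_mem hAC (A.inv_mem hu) (inv_mem (hu' a ha)) }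
  have hAA : ⁅A, A⁆ ≤ S := by
    rw [commutator_le]
    intro u hu w hw
    refine ⟨?_, fun a ha => ?_⟩
    · rw [commutatorElement_def]
      exact A.mul_mem (A.mul_mem (A.mul_mem hu hw) (A.inv_mem hu)) (A.inv_mem hw)
    · rw [mem_centralizer_iff]
      intro y hy
      exact (h.hA3 u hu w hw a ha y hy).symm
  have hcop : (Nat.card R).Coprime (Nat.card A) := cop_card h.hq h.hr h.hrq.symm (isPGroup_R h) h.hA
  have h1 := cent_le_gen hcop hAA h.hRA h.hcomm hc
  exact (mem_centralizer_iff.mp (h1.2 a ha) x hx).symm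

open Classical in
/-- **The key lemma on abelian groups.** -/
theorem kl_core (h : LD P Z A R r s q) (π : Representation E G V) {W : Submodule E V}
    {N D : Subgroup G} (hNP : N ≤ P) (hDN : D ≤ N)
    (hAN : A ≤ normalizer (N : Set G)) (hRN : R ≤ normalizer (N : Set G))
    (hAW : Pres π A W) (hRW : Pres π R W)
    (hDR : ∀ d ∈ D, ∀ a ∈ R, a * d = d * a) [Fintype R]
    (G3 : ∀ l : G → E, wt π N W l ≠ ⊥ → (¬ ∀ a ∈ R, Same N (cj a l) l) → ∀ d ∈ D, l d = 1)
    (G2 : ∀ l : G → E, wt π N W l ≠ ⊥ → (∀ a ∈ A, ∀ x ∈ N, l (a * x * a⁻¹) = l x) →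
      ∀ d ∈ D, l d = 1)
    (G1 : ∀ l : G → E, wt π N W l ≠ ⊥ → (¬ ∀ a ∈ R, Same N (cj a l) l) → ∀ a ∈ A, ∀ d ∈ D,
      ∏ j : R, l ((j : G) * (a * d * a⁻¹) * (j : G)⁻¹) = 1)
    (l : G → E) (hl : wt π N W l ≠ ⊥) : ∀ d ∈ D, l d = 1 := by
  have hrp : Fact r.Prime := ⟨h.hr⟩
  by_cases hlR : ∀ a ∈ R, Same N (cj a l) l
  swap
  · exact G3 l hl hlR
  set T : Subgroup G := A ⊓ stab N l with hT
  set C : Subgroup G := A ⊓ centralizer (R : Set G) with hC
  have hRst : R ≤ stab N l := fun a ha => ⟨hRN ha, hlR a ha⟩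
  have hTA : T ≤ A := inf_le_left
  have hRT : R ≤ normalizer (T : Set G) :=
    le_norm fun g hg x hx => ⟨Sect.conj_mem h.hRA hg hx.1,
      (stab N l).mul_mem ((stab N l).mul_mem (hRst hg) hx.2) ((stab N l).inv_mem (hRst hg))⟩
  have hcent_st : ∀ g ∈ A, (∀ x ∈ P, g * x = x * g) → g ∈ stab N l := by
    intro g hg hgx
    refine ⟨hAN hg, fun x hx => ?_⟩
    show l (g⁻¹ * x * g) = l x
    congr 1
    rw [mul_assoc, ← hgx x (hNP hx), inv_mul_cancel_left]
  have hCT : C ≤ normalizer (T : Set G) := by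
    refine le_norm fun c hc t ht => ?_
    have h1 : c * t * c⁻¹ = ⁅c, t⁆ * t := by
      rw [commutatorElement_def]
      group
    rw [h1]
    have h2 : ⁅c, t⁆ ∈ A := by
      rw [commutatorElement_def]
      exact A.mul_mem (A.mul_mem (A.mul_mem hc.1 ht.1) (A.inv_mem hc.1)) (A.inv_mem ht.1)
    exact ⟨A.mul_mem h2 ht.1, mul_mem (hcent_st _ h2 fun x hx => cent_comm h hc ht.1 hx) ht.2⟩
  set T1 : Subgroup G := T ⊔ C with hT1
  have hT1A : T1 ≤ A := sup_le inf_le_left inf_le_left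
  have hRC : R ≤ normalizer (C : Set G) :=
    le_normalizer_inf h.hRA (le_normalizer_centralizer le_normalizer)
  have hRT1 : R ≤ normalizer (T1 : Set G) := le_normalizer_sup' hRT hRC
  have hrT : ¬ r ∣ Nat.card T := cop_of_ne h.hr h.hq h.hrq (h.hA.to_le hTA)
  have hrT1 : ¬ r ∣ Nat.card T1 := cop_of_ne h.hr h.hq h.hrq (h.hA.to_le hT1A)
  have hRr : IsPGroup r R := isPGroup_R h
  -- conjugates of the weight occur
  have hcjne : ∀ a ∈ A, wt π N W (cj a l) ≠ ⊥ := by
    intro a ha hbot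
    obtain ⟨v, hv, hv0⟩ := Submodule.exists_mem_ne_zero_of_ne_bot hl
    have h1 := apply_mem_wt (hAN ha) (hAW a ha) hv
    rw [hbot, Submodule.mem_bot] at h1
    apply hv0
    rw [← inv_apply π a v, h1, map_zero]
  -- invariant conjugates
  have hX : ∀ a ∈ A, (∀ j ∈ R, Same N (cj j (cj a l)) (cj a l)) → a ∈ T1 := by
    intro a ha hinv
    have h1 : ∀ j ∈ R, a⁻¹ * (j * a * j⁻¹) ∈ T := by
      intro j hj
      have hjA : j * a * j⁻¹ ∈ A := Sect.conj_mem h.hRA hj ha
      refine ⟨A.mul_mem (A.inv_mem ha) hjA, mul_mem (inv_mem (hAN ha)) (hAN hjA), ?_⟩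
      rw [cj_mul]
      -- `cj (j a j⁻¹) l ~ cj a l`
      have h2 : Same N (cj (j * a * j⁻¹) l) (cj a l) := by
        have h3 : Same N (cj (j * a * j⁻¹) (cj j l)) (cj (j * a * j⁻¹) l) :=
          (hlR j hj).cj (hAN hjA)
        have h4 : cj (j * a * j⁻¹) (cj j l) = cj j (cj a l) := by
          rw [← cj_mul, ← cj_mul]
          congr 1
          group
        rw [h4] at h3
        exact h3.symm.trans (hinv j hj)
      have h5 := h2.cj (inv_mem (hAN ha))
      rwa [← cj_mul a⁻¹ a, inv_mul_cancel, cj_one] at h5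
    obtain ⟨c, hc, hac⟩ := exists_cent_coset h.hr hRr hRT hrT h1
    have hcA : c ∈ A := by
      have h2 : c = a * (a⁻¹ * c) := by group
      rw [h2]
      exact A.mul_mem ha (hTA hac)
    have h2 : a = c * (a⁻¹ * c)⁻¹ := by group
    rw [h2]
    exact T1.mul_mem ((le_sup_right : C ≤ T1) ⟨hcA, hc⟩) (T1.inv_mem ((le_sup_left : T ≤ T1) hac))
  by_cases hAT1 : A ≤ T1
  · -- the weight is `A`-invariant
    have hAT : ⁅A, R⁆ ≤ T := by
      rw [commutator_le]
      intro a ha j hj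
      obtain ⟨t, ht, c, hc, rfl⟩ := (SignalizersComponents.CoprimeBasic.mem_sup_iff hCT a).mp
        (hAT1 ha)
      have h1 : ⁅t * c, j⁆ = t * (j * t⁻¹ * j⁻¹) := by
        have h2 : c * j * c⁻¹ = j := by
          rw [← mem_centralizer_iff.mp hc.2 j hj, mul_inv_cancel_right]
        calc ⁅t * c, j⁆ = t * (c * j * c⁻¹) * t⁻¹ * j⁻¹ := by
              rw [commutatorElement_def]
              group
          _ = t * (j * t⁻¹ * j⁻¹) := by rw [h2]; group
      rw [h1]
      exact T.mul_mem ht (Sect.conj_mem hRT hj (T.inv_mem ht))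
    rw [h.hcomm] at hAT
    refine G2 l hl fun a ha x hx => ?_
    have h1 := (hAT (A.inv_mem ha)).2.2 x hx
    have h2 : l (a⁻¹⁻¹ * x * a⁻¹) = l x := h1
    rwa [inv_inv] at h2
  · obtain ⟨a, ha, haT1⟩ := SetLike.not_le_iff_exists.mp hAT1
    intro d hd
    have h1 := G1 (cj a l) (hcjne a ha) (fun hinv => haT1 (hX a ha hinv)) a ha d hd
    have h2 : ∀ j ∈ (Finset.univ : Finset R), j ≠ 1 →
        cj a l ((j : G) * (a * d * a⁻¹) * (j : G)⁻¹) = 1 := by
      intro j _ hj1
      have hjA : (j : G) * a * (j : G)⁻¹ ∈ A := Sect.conj_mem h.hRA j.2 ha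
      set g : G := ((j : G) * a * (j : G)⁻¹)⁻¹ * a with hg
      have hgA : g ∈ A := A.mul_mem (A.inv_mem hjA) ha
      have h3 : cj a l ((j : G) * (a * d * a⁻¹) * (j : G)⁻¹) = cj g l d := by
        show l (a⁻¹ * ((j : G) * (a * d * a⁻¹) * (j : G)⁻¹) * a) = l (g⁻¹ * d * g)
        congr 1
        have h4 : (j : G)⁻¹ * d * (j : G) = d := by
          rw [mul_assoc, ← hDR d hd j j.2, inv_mul_cancel_left]
        rw [hg]
        calc a⁻¹ * ((j : G) * (a * d * a⁻¹) * (j : G)⁻¹) * a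
            = a⁻¹ * (j : G) * a * ((j : G)⁻¹ * d * (j : G)) * a⁻¹ * (j : G)⁻¹ * a
              := by rw [h4]; group
          _ = _ := by group
      rw [h3]
      refine G3 (cj g l) (hcjne g hgA) (fun hinv => ?_) d hd
      have h4 := hX g hgA hinv
      -- the coset `a T1` is fixed by `j`
      let S : Subgroup R :=
        { carrier := {i | a⁻¹ * ((i : G) * a * (i : G)⁻¹) ∈ T1}
          one_mem' := by
            show a⁻¹ * (((1 : R) : G) * a * ((1 : R) : G)⁻¹) ∈ T1
            rw [Subgroup.coe_one, inv_one, mul_one, one_mul, inv_mul_cancel]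
            exact T1.one_mem
          mul_mem' := by
            intro u w hu hw
            show a⁻¹ * (((u * w : R) : G) * a * ((u * w : R) : G)⁻¹) ∈ T1
            have h5 : a⁻¹ * (((u * w : R) : G) * a * ((u * w : R) : G)⁻¹) =
                (a⁻¹ * ((u : G) * a * (u : G)⁻¹)) *
                  ((u : G) * (a⁻¹ * ((w : G) * a * (w : G)⁻¹)) * (u : G)⁻¹) := by
              rw [Subgroup.coe_mul]
              group
            rw [h5]
            exact T1.mul_mem hu (Sect.conj_mem hRT1 u.2 hw)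
          inv_mem' := by
            intro u hu
            show a⁻¹ * (((u⁻¹ : R) : G) * a * ((u⁻¹ : R) : G)⁻¹) ∈ T1
            have h5 : a⁻¹ * (((u⁻¹ : R) : G) * a * ((u⁻¹ : R) : G)⁻¹) =
                ((u⁻¹ : R) : G) * (a⁻¹ * ((u : G) * a * (u : G)⁻¹))⁻¹ * ((u⁻¹ : R) : G)⁻¹ := by
              rw [Subgroup.coe_inv]
              group
            rw [h5]
            exact Sect.conj_mem hRT1 (u⁻¹).2 (T1.inv_mem hu) }
      have hjS : j ∈ S := by
        show a⁻¹ * ((j : G) * a * (j : G)⁻¹) ∈ T1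
        have h5 : a⁻¹ * ((j : G) * a * (j : G)⁻¹) = g⁻¹ := by rw [hg]; group
        rw [h5]
        exact T1.inv_mem h4
      have hS : S = ⊤ := by
        have hp : Fact (Nat.card R).Prime := ⟨h.hR ▸ h.hr⟩
        rcases S.eq_bot_or_eq_top_of_prime_card with h5 | h5
        · rw [h5, Subgroup.mem_bot] at hjS
          exact absurd hjS hj1
        · exact h5
      have h6 : ∀ i ∈ R, a⁻¹ * (i * a * i⁻¹) ∈ T1 := by
        intro i hi
        have h7 : (⟨i, hi⟩ : R) ∈ S := by rw [hS]; exact Subgroup.mem_top _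
        exact h7
      obtain ⟨c, hc, hac⟩ := exists_cent_coset h.hr hRr hRT1 hrT1 h6
      have hcA : c ∈ A := by
        have h2 : c = a * (a⁻¹ * c) := by group
        rw [h2]
        exact A.mul_mem ha (hT1A hac)
      apply haT1
      have h2 : a = c * (a⁻¹ * c)⁻¹ := by group
      rw [h2]
      exact T1.mul_mem ((le_sup_right : C ≤ T1) ⟨hcA, hc⟩) (T1.inv_mem hac)
    rw [Finset.prod_eq_single (1 : R) h2 (fun h0 => absurd (Finset.mem_univ _) h0)] at h1
    have h3 : cj a l (((1 : R) : G) * (a * d * a⁻¹) * ((1 : R) : G)⁻¹) = l d := by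
      show l (a⁻¹ * (((1 : R) : G) * (a * d * a⁻¹) * ((1 : R) : G)⁻¹) * a) = l d
      congr 1
      rw [Subgroup.coe_one]
      group
    rwa [h3] at h1

end Cfsg.Agent.H575.KL
end
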