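import Cfsg.Agent.H575.GLev
import Cfsg.Agent.SignalizersComponents.PerfectGoingUp
import Cfsg.Agent.H575.ExtraFix_mg
set_option linter.all false

-- part: H575/MinTower
section
/-!
# Minimal towers
-/

set_option autoImplicit false
set_option linter.unusedSectionVars false
set_option linter.unusedVariables false

namespace Cfsg.Agent.H575.MinTower

open Subgroup Cfsg.Agent.H575.Sect Cfsg.Agent.H575.Tower Cfsg.Agent.H575.HA
  Cfsg.Agent.H575.ExtraIrr
open scoped commutatorElement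

universe u

variable {Γ : Type u} [Group Γ]

theorem ker_le (P : ℕ → Subgroup Γ) (i : ℕ) : ker P i ≤ P i := by
  cases i with
  | zero => exact bot_le
  | succ i => exact inf_le_left

theorem cmod_norm {H P K : Subgroup Γ} (hP : H ≤ normalizer (P : Set Γ))
    (hK : H ≤ normalizer (K : Set Γ)) : H ≤ normalizer ((cmod P K : Subgroup Γ) : Set Γ) :=
  le_norm fun _ hg _ hx => cmod_conj (hP hg) (hK hg) hx

theorem norm_ker {P : ℕ → Subgroup Γ} {H : Subgroup Γ} {i : ℕ}
    (hH : ∀ j ≤ i, H ≤ normalizer (P j : Set Γ)) : H ≤ normalizer (ker P i : Set Γ) := by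
  induction i with
  | zero =>
    refine le_norm fun g _ y hy => ?_
    have h1 : y = 1 := hy
    rw [h1, mul_one, mul_inv_cancel]
    exact Subgroup.one_mem _
  | succ i ih =>
    exact le_normalizer_inf (hH _ le_rfl)
      (cmod_norm (hH i (Nat.le_succ i)) (ih fun j hj => hH j (hj.trans (Nat.le_succ i))))

/-- the Frattini subgroup -/
theorem exists_phi [Finite Γ] {P : Subgroup Γ} {p : ℕ} (hp : p.Prime) (hP : IsPGroup p P)
    (hne : P ≠ ⊥) :
    ∃ F : Subgroup Γ, F ≤ P ∧ F ≠ P ∧ (∀ x ∈ P, ∀ y ∈ P, ⁅x, y⁆ ∈ F) ∧ (∀ x ∈ P, x ^ p ∈ F) ∧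
      ∀ H : Subgroup Γ, H ≤ normalizer (P : Set Γ) → H ≤ normalizer (F : Set Γ) := by
  have hpf : Fact p.Prime := ⟨hp⟩
  have hmax : ∀ M : Subgroup P, IsCoatom M → (∀ x : P, x ^ p ∈ M) ∧ ∀ x y : P, ⁅x, y⁆ ∈ M := by
    intro M hM
    have hnil := hP.isNilpotent
    have hn : M.Normal :=
      ((Group.isNilpotent_of_finite_tfae (G := P)).out 0 2 rfl rfl).mp hnil M hM
    have hQ : IsPGroup p (P ⧸ M) := hP.to_quotient M
    have hnt : Nontrivial (P ⧸ M) := by
      rw [QuotientGroup.nontrivial_iff]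
      exact hM.1
    have hc := hQ.center_nontrivial
    -- every nontrivial element generates
    have hgen : ∀ x : P ⧸ M, x ≠ 1 → x ∈ center (P ⧸ M) → zpowers x = ⊤ := by
      intro x hx hxc
      have hxn : (zpowers x).Normal := by
        refine ⟨fun y hy g => ?_⟩
        obtain ⟨n, rfl⟩ := hy
        have h1 : g * x ^ n * g⁻¹ = x ^ n := by
          have h2 := Subgroup.mem_center_iff.mp (Subgroup.zpow_mem _ hxc n) g
          rw [h2, mul_inv_cancel_right]
        show g * x ^ n * g⁻¹ ∈ zpowers x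
        rw [h1]
        exact Subgroup.zpow_mem _ (mem_zpowers x) n
      have hle : M ≤ (zpowers x).comap (QuotientGroup.mk' M) := by
        intro y hy
        rw [Subgroup.mem_comap, QuotientGroup.mk'_apply, (QuotientGroup.eq_one_iff y).mpr hy]
        exact one_mem _
      have htop : (zpowers x).comap (QuotientGroup.mk' M) = ⊤ := by
        rcases hle.lt_or_eq with h | h
        · exact hM.2 _ h
        · exfalso
          obtain ⟨y, rfl⟩ := QuotientGroup.mk'_surjective M x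
          have hy : y ∈ M := by
            rw [h, Subgroup.mem_comap]
            exact Subgroup.mem_zpowers _
          exact hx ((QuotientGroup.eq_one_iff y).mpr hy)
      rw [eq_top_iff]
      intro z _
      obtain ⟨y, rfl⟩ := QuotientGroup.mk'_surjective M z
      have : y ∈ (zpowers x).comap (QuotientGroup.mk' M) := by rw [htop]; trivial
      exact this
    obtain ⟨⟨c, hcc⟩, hc1⟩ := exists_ne (1 : center (P ⧸ M))
    have hc1' : c ≠ 1 := fun h => hc1 (Subtype.ext h)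
    have htopc := hgen c hc1' hcc
    have hcomm : ∀ a b : P ⧸ M, a * b = b * a := by
      intro a b
      have ha : a ∈ zpowers c := by rw [htopc]; trivial
      obtain ⟨n, rfl⟩ := ha
      exact (Subgroup.mem_center_iff.mp (Subgroup.zpow_mem _ hcc n) b).symm
    refine ⟨fun x => ?_, fun x y => ?_⟩
    · have h1 : ((x ^ p : P) : P ⧸ M) = 1 := by
        by_contra hne1
        have h2 : (x : P ⧸ M) ≠ 1 := by
          intro h3
          apply hne1
          rw [QuotientGroup.mk_pow, h3, one_pow]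
        have h3 : ((x ^ p : P) : P ⧸ M) ∈ center (P ⧸ M) := by
          rw [Subgroup.mem_center_iff]
          intro g
          exact hcomm _ _
        have h4 := hgen _ hne1 h3
        have h5 : (x : P ⧸ M) ∈ zpowers ((x ^ p : P) : P ⧸ M) := by rw [h4]; trivial
        obtain ⟨k, hk⟩ := hQ (x : P ⧸ M)
        obtain ⟨n, hn⟩ := h5
        -- `x = x ^ (p n)` forces `x = 1`
        have h6 : orderOf ((x : P ⧸ M) ^ p) = orderOf (x : P ⧸ M) := by
          apply Nat.dvd_antisymm (orderOf_pow_dvd p)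
          have h7 : ((x : P ⧸ M) ^ p) ^ n = (x : P ⧸ M) := by
            rw [← QuotientGroup.mk_pow]
            exact hn
          rw [orderOf_dvd_iff_pow_eq_one]
          have h10 : ((x : P ⧸ M) ^ p) ^ (orderOf ((x : P ⧸ M) ^ p)) = 1 := pow_orderOf_eq_one _
          generalize orderOf ((x : P ⧸ M) ^ p) = o at h10 ⊢
          calc (x : P ⧸ M) ^ o = (((x : P ⧸ M) ^ p) ^ n) ^ o := by rw [h7]
            _ = (((x : P ⧸ M) ^ p) ^ o) ^ n := by
              rw [← zpow_natCast, ← zpow_mul, mul_comm, zpow_mul, zpow_natCast]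
            _ = 1 := by rw [h10, one_zpow]
        have h8 : p ∣ orderOf (x : P ⧸ M) := by
          obtain ⟨j, hj⟩ := (Nat.dvd_prime_pow hp).mp (orderOf_dvd_of_pow_eq_one hk)
          rcases hj with ⟨-, hj⟩
          rw [hj]
          refine dvd_pow_self p ?_
          rintro rfl
          apply h2
          rw [← orderOf_eq_one_iff, hj, pow_zero]
        rw [orderOf_pow' _ hp.ne_zero, Nat.gcd_eq_right h8] at h6
        have h9 : 0 < orderOf (x : P ⧸ M) := orderOf_pos _
        exact absurd h6 (Nat.div_lt_self h9 hp.one_lt).ne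
      exact (QuotientGroup.eq_one_iff _).mp h1
    · rw [← QuotientGroup.eq_one_iff]
      show ⁅(x : P ⧸ M), (y : P ⧸ M)⁆ = 1
      rw [commutatorElement_eq_one_iff_mul_comm]
      exact hcomm _ _
  refine ⟨(frattini P).map P.subtype, map_subtype_le _, ?_, ?_, ?_, ?_⟩
  · intro h1
    have h2 : (⊥ : Subgroup P) ≠ ⊤ := by
      intro h3
      apply hne
      rw [eq_bot_iff]
      intro x hx
      have h4 : (⟨x, hx⟩ : P) ∈ (⊥ : Subgroup P) := by rw [h3]; trivial
      rw [Subgroup.mem_bot] at h4 ⊢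
      exact congrArg Subtype.val h4
    obtain ⟨M, hM, -⟩ := (eq_top_or_exists_le_coatom (⊥ : Subgroup P)).resolve_left h2
    apply hM.1
    rw [eq_top_iff]
    intro x _
    have h3 : (x : Γ) ∈ (frattini P).map P.subtype := by rw [h1]; exact x.2
    obtain ⟨y, hy, hyx⟩ := h3
    have h4 : y = x := Subtype.ext hyx
    rw [← h4]
    exact frattini_le_coatom hM hy
  · intro x hx y hy
    refine ⟨⁅(⟨x, hx⟩ : P), (⟨y, hy⟩ : P)⁆, ?_, rfl⟩
    show _ ∈ frattini P
    unfold frattini Order.radical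
    rw [Subgroup.mem_iInf]
    intro M
    rw [Subgroup.mem_iInf]
    intro hM
    exact (hmax M hM).2 _ _
  · intro x hx
    refine ⟨(⟨x, hx⟩ : P) ^ p, ?_, rfl⟩
    show _ ∈ frattini P
    unfold frattini Order.radical
    rw [Subgroup.mem_iInf]
    intro M
    rw [Subgroup.mem_iInf]
    intro hM
    exact (hmax M hM).1 _
  · intro H hH
    refine le_norm ?_
    rintro g hg _ ⟨x, hx, rfl⟩
    refine ⟨alpha hH ⟨g, hg⟩ x, ?_, alpha_coe hH ⟨g, hg⟩ x⟩
    have hchar : (frattini P).Characteristic := inferInstance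
    have h1 := hchar.fixed (alpha hH ⟨g, hg⟩)
    rw [← h1] at hx
    exact hx

end Cfsg.Agent.H575.MinTower
end

-- part: H575/TThree
section
/-!
# The structure of a minimal tower
-/

set_option autoImplicit false
set_option linter.unusedSectionVars false
set_option linter.unusedVariables false

namespace Cfsg.Agent.H575.TThree

open Subgroup Cfsg.Agent.H575.Sect Cfsg.Agent.H575.Tower Cfsg.Agent.H575.HA
  Cfsg.Agent.H575.ExtraIrr Cfsg.Agent.H575.MinTower
open scoped commutatorElement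

universe u

variable {Γ : Type u} [Group Γ]

/-- a minimal tower -/
structure MT (R : Subgroup Γ) (P : ℕ → Subgroup Γ) (p : ℕ → ℕ) (N : ℕ) : Prop extends
    IsTower R P p N where
  hmin : ∀ P' : ℕ → Subgroup Γ, IsTower R P' p N → (∀ i < N, P' i ≤ P i) →
    ∀ i < N, P' i = P i
  hR : (Nat.card R).Prime
  hRp : ∀ i < N, Nat.card R ≠ p i

/-- the largest proper invariant subgroup of `P i` -/
def zz (P : ℕ → Subgroup Γ) (N i : ℕ) : Subgroup Γ :=
  open Classical in if i + 1 < N then P i ⊓ cmod (P (i + 1)) (ker P i) else ker P i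

theorem zz_of_lt {P : ℕ → Subgroup Γ} {N i : ℕ} (h : i + 1 < N) :
    zz P N i = P i ⊓ cmod (P (i + 1)) (ker P i) := if_pos h

theorem zz_of_not {P : ℕ → Subgroup Γ} {N i : ℕ} (h : ¬ i + 1 < N) : zz P N i = ker P i :=
  if_neg h

variable {R : Subgroup Γ} {P : ℕ → Subgroup Γ} {p : ℕ → ℕ} {N : ℕ}

theorem ker_congr {P' : ℕ → Subgroup Γ} {k : ℕ} (h : ∀ j ≤ k, P' j = P j) :
    ker P' k = ker P k := by
  induction k with
  | zero => rfl
  | succ k ih =>
    show P' (k + 1) ⊓ cmod (P' k) (ker P' k) = P (k + 1) ⊓ cmod (P k) (ker P k)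
    rw [h _ le_rfl, h k (Nat.le_succ k), ih fun j hj => h j (hj.trans (Nat.le_succ k))]

theorem IsTower.norm_ker (h : IsTower R P p N) {i j : ℕ} (hij : i ≤ j) (hj : j < N) :
    P j ≤ normalizer (ker P i : Set Γ) :=
  MinTower.norm_ker fun k hk => h.norm k j (hk.trans hij) hj

theorem IsTower.inv_ker (h : IsTower R P p N) {i : ℕ} (hi : i < N) :
    R ≤ normalizer (ker P i : Set Γ) :=
  MinTower.norm_ker fun k hk => h.inv k (lt_of_le_of_lt hk hi)

theorem IsTower.ker_le_zz (h : IsTower R P p N) {i : ℕ} (hi : i < N) :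
    ker P i ≤ zz P N i := by
  by_cases h1 : i + 1 < N
  · rw [zz_of_lt h1]
    refine le_inf (ker_le P i) fun x hx => ⟨IsTower.norm_ker h le_rfl hi (ker_le P i hx), ?_⟩
    intro y hy
    have h2 := Sect.conj_mem (IsTower.norm_ker h (Nat.le_succ i) h1) hy
      (Subgroup.inv_mem _ hx)
    have h3 : ⁅x, y⁆ = x * (y * x⁻¹ * y⁻¹) := by rw [commutatorElement_def]; group
    rw [h3]
    exact Subgroup.mul_mem _ hx h2
  · rw [zz_of_not h1]

theorem zz_le (i : ℕ) : zz P N i ≤ P i := by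
  by_cases h1 : i + 1 < N
  · rw [zz_of_lt h1]
    exact inf_le_left
  · rw [zz_of_not h1]
    exact ker_le P i

variable [Finite Γ]

theorem IsTower.coprime (h : IsTower R P p N) {i : ℕ} (hi : i + 1 < N) :
    (Nat.card (P (i + 1))).Coprime (Nat.card (P i)) :=
  cop_card (h.prime i (by omega)) (h.prime (i + 1) hi) (h.ne i hi) (h.pgroup (i + 1) hi)
    (h.pgroup i (by omega))

/-- if `[P i, P (i + 1)] ≤ K` and `[K, P (i+1)] ≤ ker P i` -/
theorem IsTower.contra (h : IsTower R P p N) {i : ℕ} (hi : i + 1 < N) {K : Subgroup Γ}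
    (h1 : ⁅P i, P (i + 1)⁆ ≤ K) (h2 : K ≤ zz P N i) : False := by
  rw [zz_of_lt hi] at h2
  have h3 : ⁅⁅P i, P (i + 1)⁆, P (i + 1)⁆ ≤ ker P i := by
    rw [commutator_le]
    intro x hx y hy
    exact (h2 (h1 hx)).2.2 y hy
  rw [Lib.CoprimeCommutator.commutator_commutator_eq _ _ (h.norm i (i + 1) (Nat.le_succ i) hi)
    (IsTower.coprime h hi)] at h3
  refine h.nontriv (i + 1) hi fun y hy => ⟨hy, IsTower.norm_ker h (Nat.le_succ i) hi hy, ?_⟩
  intro x hx
  have h4 : ⁅y, x⁆ = ⁅x, y⁆⁻¹ := (commutatorElement_inv x y).symm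
  rw [h4]
  exact Subgroup.inv_mem _ (h3 (commutator_mem_commutator hx hy))

theorem MT.core (h : MT R P p N) : ∀ n i, i < N → N ≤ i + n → ∀ Q ≤ P i,
    R ≤ normalizer (Q : Set Γ) → (∀ j, i < j → j < N → P j ≤ normalizer (Q : Set Γ)) →
    Q ≠ P i → Q ≤ zz P N i := by
  intro n
  induction n with
  | zero => intro i hi hN; omega
  | succ n ih =>
    intro i hi hN Q hQP hRQ hPQ hne
    by_contra hQ
    apply hne
    have hT := h.toIsTower
    let P' : ℕ → Subgroup Γ := Function.update P i Q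
    have hPi : P' i = Q := Function.update_self i Q P
    have hPj : ∀ j, j ≠ i → P' j = P j := fun j hj => Function.update_of_ne hj Q P
    have hle : ∀ j, P' j ≤ P j := by
      intro j
      by_cases hj : j = i
      · rw [hj, hPi]
        exact hQP
      · rw [hPj j hj]
    have hnorm : ∀ a b, a ≤ b → b < N → P' b ≤ normalizer (P' a : Set Γ) := by
      intro a b hab hb
      by_cases ha : a = i
      · subst ha
        rw [hPi]
        by_cases hb' : b = a
        · rw [hb', hPi]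
          exact Subgroup.le_normalizer
        · rw [hPj b hb']
          exact hPQ b (lt_of_le_of_ne hab (Ne.symm hb')) hb
      · rw [hPj a ha]
        exact (hle b).trans (hT.norm a b hab hb)
    have hinv : ∀ a < N, R ≤ normalizer (P' a : Set Γ) := by
      intro a ha
      by_cases ha' : a = i
      · rw [ha', hPi]
        exact hRQ
      · rw [hPj a ha']
        exact hT.inv a ha
    have hker : ker P' i = Q ⊓ ker P i := by
      cases i with
      | zero =>
        show (⊥ : Subgroup Γ) = Q ⊓ ⊥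
        rw [inf_bot_eq]
      | succ i =>
        show P' (i + 1) ⊓ cmod (P' i) (ker P' i) = Q ⊓ (P (i + 1) ⊓ cmod (P i) (ker P i))
        rw [hPi, hPj i (by omega), ker_congr (P' := P') (P := P) (fun j hj => hPj j (by omega)),
          ← inf_assoc, inf_of_le_left hQP]
    -- above `i`
    have habove : ∀ d, i + 1 + d < N → ¬ P (i + 1 + d) ≤ ker P' (i + 1 + d) := by
      intro d
      induction d with
      | zero =>
        intro hd hcon
        apply hQ
        rw [zz_of_lt hd]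
        refine le_inf hQP fun x hx => ⟨IsTower.norm_ker hT le_rfl hi (hQP hx), fun y hy => ?_⟩
        have h1 : y ∈ P' (i + 1) ⊓ cmod (P' i) (ker P' i) := hcon hy
        rw [hPi, hker] at h1
        have h2 := (h1.2.2 x hx).2
        rw [← commutatorElement_inv]
        exact Subgroup.inv_mem _ h2
      | succ d ihd =>
        intro hd hcon
        have hd' : i + 1 + d < N := by omega
        have h1 := ihd hd'
        have h2 : ker P' (i + 1 + d) ≤ P (i + 1 + d) := by
          have := ker_le P' (i + 1 + d)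
          rwa [hPj (i + 1 + d) (by omega)] at this
        have h3 := ih (i + 1 + d) hd' (by omega) (ker P' (i + 1 + d)) h2
          (MinTower.norm_ker fun k hk => hinv k (by omega))
          (fun j hj hjN => MinTower.norm_ker fun k hk => by
            have h4 := hnorm k j (by omega) hjN
            rwa [hPj j (by omega)] at h4)
          (fun h4 => h1 (by rw [h4]))
        refine IsTower.contra hT (i := i + 1 + d) (by omega) (K := ker P' (i + 1 + d)) ?_ h3
        rw [commutator_le]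
        intro x hx y hy
        have h5 : y ∈ P' (i + 1 + d + 1) ⊓ cmod (P' (i + 1 + d)) (ker P' (i + 1 + d)) := hcon hy
        rw [hPj (i + 1 + d) (by omega)] at h5
        have h6 := h5.2.2 x hx
        rw [← commutatorElement_inv]
        exact Subgroup.inv_mem _ h6
    have htower : IsTower R P' p N :=
      { prime := hT.prime
        pgroup := fun j hj => (hT.pgroup j hj).to_le (hle j)
        ne := hT.ne
        norm := hnorm
        inv := hinv
        nontriv := by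
          intro k hk hcon
          rcases lt_trichotomy k i with hki | hki | hki
          · rw [hPj k (by omega), ker_congr (P' := P') (P := P) (fun j hj => hPj j (by omega))]
              at hcon
            exact hT.nontriv k hk hcon
          · subst hki
            rw [hPi, hker] at hcon
            exact hQ ((hcon.trans inf_le_right).trans (IsTower.ker_le_zz hT hk))
          · obtain ⟨d, rfl⟩ : ∃ d, k = i + 1 + d := ⟨k - (i + 1), by omega⟩
            rw [hPj (i + 1 + d) (by omega)] at hcon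
            exact habove d hk hcon }
    have h1 := h.hmin P' htower (fun j _ => hle j) i hi
    rw [hPi] at h1
    exact h1

theorem MT.le_zz (h : MT R P p N) {i : ℕ} (hi : i < N) {Q : Subgroup Γ} (hQ : Q ≤ P i)
    (hRQ : R ≤ normalizer (Q : Set Γ))
    (hPQ : ∀ j, i < j → j < N → P j ≤ normalizer (Q : Set Γ)) (hne : Q ≠ P i) :
    Q ≤ zz P N i := h.core N i hi (by omega) Q hQ hRQ hPQ hne

end Cfsg.Agent.H575.TThree
end

-- part: H575/TFacts
section
/-!
# Consequences of minimality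
-/

set_option autoImplicit false
set_option linter.unusedSectionVars false
set_option linter.unusedVariables false

namespace Cfsg.Agent.H575.TThree

open Subgroup Cfsg.Agent.H575.Sect Cfsg.Agent.H575.Tower Cfsg.Agent.H575.HA
  Cfsg.Agent.H575.ExtraIrr Cfsg.Agent.H575.MinTower Cfsg.Agent.H575.Mult
open scoped commutatorElement

universe u

variable {Γ : Type u} [Group Γ] [Finite Γ]
variable {R : Subgroup Γ} {P : ℕ → Subgroup Γ} {p : ℕ → ℕ} {N : ℕ}

theorem comm_swap {K : Subgroup Γ} {x y : Γ} (h : ⁅x, y⁆ ∈ K) : ⁅y, x⁆ ∈ K := by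
  rw [← commutatorElement_inv]
  exact Subgroup.inv_mem _ h

theorem MT.comm_eq (h : MT R P p N) {i : ℕ} (hi : i + 1 < N) : ⁅P i, P (i + 1)⁆ = P i := by
  by_contra hne
  have hT := h.toIsTower
  have h1 := h.le_zz (i := i) (by omega) (Q := ⁅P i, P (i + 1)⁆)
    (Lib.CoprimeCommutator.commutator_le_left (hT.norm i (i + 1) (by omega) hi))
    (le_normalizer_commutator (hT.inv i (by omega)) (hT.inv (i + 1) hi))
    (fun j hj hjN => le_normalizer_commutator (hT.norm i j (by omega) hjN)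
      (hT.norm (i + 1) j (by omega) hjN)) hne
  exact IsTower.contra hT hi le_rfl h1

theorem MT.not_le_zz (h : MT R P p N) {i : ℕ} (hi : i < N) : ¬ P i ≤ zz P N i := by
  intro h1
  have hT := h.toIsTower
  by_cases h2 : i + 1 < N
  · exact IsTower.contra hT h2 (Lib.CoprimeCommutator.commutator_le_left
      (hT.norm i (i + 1) (by omega) h2)) h1
  · rw [zz_of_not h2] at h1
    exact hT.nontriv i hi h1

theorem MT.ne_bot (h : MT R P p N) {i : ℕ} (hi : i < N) : P i ≠ ⊥ := by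
  intro h1
  refine h.nontriv i hi ?_
  rw [h1]
  exact bot_le

theorem MT.phi (h : MT R P p N) {i : ℕ} (hi : i < N) :
    (∀ x ∈ P i, ∀ y ∈ P i, ⁅x, y⁆ ∈ zz P N i) ∧ ∀ x ∈ P i, x ^ p i ∈ zz P N i := by
  have hT := h.toIsTower
  obtain ⟨F, hFP, hFne, hF1, hF2, hF3⟩ := exists_phi (hT.prime i hi) (hT.pgroup i hi)
    (h.ne_bot hi)
  have h1 := h.le_zz hi hFP (hF3 R (hT.inv i hi))
    (fun j hj hjN => hF3 (P j) (hT.norm i j (by omega) hjN)) hFne
  exact ⟨fun x hx y hy => h1 (hF1 x hx y hy), fun x hx => h1 (hF2 x hx)⟩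

theorem MT.norm_zz (h : MT R P p N) {i j : ℕ} (hij : i ≤ j) (hj : j < N) :
    P j ≤ normalizer (zz P N i : Set Γ) := by
  have hT := h.toIsTower
  rcases Nat.lt_or_eq_of_le hij with h1 | h1
  · have h2 : i + 1 < N := by omega
    rw [zz_of_lt h2]
    exact le_normalizer_inf (hT.norm i j hij hj)
      (cmod_norm (hT.norm (i + 1) j h1 hj) (IsTower.norm_ker hT hij hj))
  · subst h1
    refine le_norm fun x hx z hz => ?_
    have h2 := (h.phi hj).1 x hx z (zz_le i hz)
    have h3 : x * z * x⁻¹ = ⁅x, z⁆ * z := by rw [commutatorElement_def, inv_mul_cancel_right]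
    rw [h3]
    exact Subgroup.mul_mem _ h2 hz

theorem MT.inv_zz (h : MT R P p N) {i : ℕ} (hi : i < N) :
    R ≤ normalizer (zz P N i : Set Γ) := by
  have hT := h.toIsTower
  by_cases h2 : i + 1 < N
  · rw [zz_of_lt h2]
    exact le_normalizer_inf (hT.inv i hi) (cmod_norm (hT.inv (i + 1) h2) (IsTower.inv_ker hT hi))
  · rw [zz_of_not h2]
    exact IsTower.inv_ker hT hi

theorem MT.zz_comm_succ (h : MT R P p N) {i : ℕ} (hi : i + 1 < N) {z a : Γ}
    (hz : z ∈ zz P N i) (ha : a ∈ P (i + 1)) : ⁅z, a⁆ ∈ ker P i := by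
  rw [zz_of_lt hi] at hz
  exact hz.2.2 a ha

theorem MT.ker_comm (h : MT R P p N) {i j : ℕ} (hij : i ≤ j) (hj : j < N) {z a : Γ}
    (hz : z ∈ ker P i) (ha : a ∈ P j) : ⁅z, a⁆ ∈ ker P i := by
  have h1 := Sect.conj_mem (IsTower.norm_ker h.toIsTower hij hj) ha (Subgroup.inv_mem _ hz)
  have h3 : ⁅z, a⁆ = z * (a * z⁻¹ * a⁻¹) := by rw [commutatorElement_def]; group
  rw [h3]
  exact Subgroup.mul_mem _ hz h1

theorem MT.zz_comm (h : MT R P p N) {i : ℕ} (hi : i < N) {z x : Γ}
    (hz : z ∈ zz P N i) (hx : x ∈ P i) : ⁅z, x⁆ ∈ ker P i := by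
  have hT := h.toIsTower
  by_cases h2 : i + 1 < N
  · have hZK : zz P N i ≤ normalizer (ker P i : Set Γ) :=
      (zz_le i).trans (IsTower.norm_ker hT le_rfl hi)
    have h3 := SignalizersComponents.PerfectGoingUp.three_subgroups_mod
      (A := P i) (B := P (i + 1)) (C := zz P N i) (K := ker P i)
      (IsTower.norm_ker hT le_rfl hi) (IsTower.norm_ker hT (Nat.le_succ i) h2) hZK (by
        rw [commutator_le]
        intro u hu v hv
        have h4 : ⁅P (i + 1), zz P N i⁆ ≤ ker P i := by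
          rw [commutator_comm, commutator_le]
          exact fun z hz a ha => h.zz_comm_succ h2 hz ha
        exact h.ker_comm le_rfl hi (h4 hu) hv) (by
        rw [commutator_le]
        intro u hu v hv
        have h4 : ⁅zz P N i, P i⁆ ≤ zz P N i :=
          Lib.CoprimeCommutator.commutator_le_left (h.norm_zz le_rfl hi)
        exact h.zz_comm_succ h2 (h4 hu) hv)
    rw [h.comm_eq h2] at h3
    exact comm_swap (h3 (commutator_mem_commutator hx hz))
  · rw [zz_of_not h2] at hz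
    exact h.ker_comm le_rfl hi hz hx

/-- the nonabelian case -/
theorem MT.cen_le (h : MT R P p N) {i : ℕ} (hi : i < N)
    (hna : ∃ x ∈ P i, ∃ y ∈ P i, ⁅x, y⁆ ∉ ker P i) {x : Γ} (hx : x ∈ P i)
    (hxc : ∀ y ∈ P i, ⁅x, y⁆ ∈ ker P i) : x ∈ zz P N i := by
  have hT := h.toIsTower
  have h1 := h.le_zz hi (Q := P i ⊓ cmod (P i) (ker P i)) inf_le_left
    (le_normalizer_inf (hT.inv i hi) (cmod_norm (hT.inv i hi) (IsTower.inv_ker hT hi)))
    (fun j hj hjN => le_normalizer_inf (hT.norm i j (by omega) hjN)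
      (cmod_norm (hT.norm i j (by omega) hjN) (IsTower.norm_ker hT (by omega) hjN))) (by
      intro heq
      obtain ⟨a, ha, b, hb, hab⟩ := hna
      rw [← heq] at ha
      exact hab (ha.2.2 b hb))
  exact h1 ⟨hx, IsTower.norm_ker hT le_rfl hi hx, hxc⟩

/-- the abelian case -/
theorem MT.zz_eq (h : MT R P p N) {i : ℕ} (hi : i < N)
    (hab : ∀ x ∈ P i, ∀ y ∈ P i, ⁅x, y⁆ ∈ ker P i) : zz P N i ≤ ker P i := by
  have hT := h.toIsTower
  by_cases h2 : i + 1 < N
  · intro x hx
    have hxP : x ∈ P i := zz_le i hx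
    have hcg := cent_le_gen (R := P (i + 1)) (F := P i) (N := ker P i) (IsTower.coprime hT h2)
      (by rw [commutator_le]; exact hab) (hT.norm i (i + 1) (Nat.le_succ i) h2) (h.comm_eq h2)
    obtain ⟨c, hc, hcK⟩ := exists_cent_coset (hT.prime (i + 1) h2) (hT.pgroup (i + 1) h2)
      (IsTower.norm_ker hT (Nat.le_succ i) h2)
      (cop_of_ne (hT.prime (i + 1) h2) (hT.prime i hi) (hT.ne i h2).symm
        ((hT.pgroup i hi).to_le (ker_le P i))) (k := x) (by
      intro a ha
      have h3 := h.zz_comm_succ h2 (Subgroup.inv_mem _ hx) ha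
      have h4 : x⁻¹ * (a * x * a⁻¹) = ⁅x⁻¹, a⁆ := by rw [commutatorElement_def, inv_inv]; group
      rw [h4]
      exact h3)
    have hcP : c ∈ P i := by
      have := (P i).mul_mem hxP (ker_le P i hcK)
      rwa [mul_inv_cancel_left] at this
    have h5 : c ∈ ker P i := hcg ⟨hcP, hc⟩
    have h6 := Subgroup.mul_mem _ h5 (Subgroup.inv_mem _ hcK)
    rwa [mul_inv_rev, inv_inv, mul_inv_cancel_left] at h6
  · rw [zz_of_not h2]

/-- faithfulness modulo `zz` -/
theorem MT.mem_ker_of (h : MT R P p N) {i : ℕ} (hi : i + 1 < N) {x : Γ} (hx : x ∈ P (i + 1))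
    (hxz : ∀ y ∈ P i, ⁅x, y⁆ ∈ zz P N i) : x ∈ ker P (i + 1) := by
  have hT := h.toIsTower
  have hn := h.norm_zz (i := i) (Nat.le_succ i) hi
  let A : Subgroup Γ := P (i + 1) ⊓ cmod (P i) (zz P N i)
  have hxA : x ∈ A := ⟨hx, hn hx, hxz⟩
  have hAP : A ≤ normalizer (P i : Set Γ) :=
    inf_le_left.trans (hT.norm i (i + 1) (Nat.le_succ i) hi)
  have h1 : ⁅P i, A⁆ ≤ zz P N i := by
    rw [commutator_le]
    intro u hu v hv
    exact comm_swap (hv.2.2 u hu)
  have h2 : ⁅⁅P i, A⁆, A⁆ ≤ ker P i := by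
    rw [commutator_le]
    intro u hu v hv
    exact h.zz_comm_succ hi (h1 hu) hv.1
  rw [Lib.CoprimeCommutator.commutator_commutator_eq _ _ hAP
    ((IsTower.coprime hT hi).coprime_dvd_left (Subgroup.card_dvd_of_le inf_le_left))] at h2
  exact ⟨hx, IsTower.norm_ker hT (Nat.le_succ i) hi hx, fun y hy =>
    comm_swap (h2 (commutator_mem_commutator hy hxA))⟩

section Kappa

variable {κ : ℕ}

/-- above `κ` everything is centralized by `R` -/
theorem MT.cent_above (h : MT R P p N)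
    (hκ : ∀ j, κ < j → j < N → ⁅P j, R⁆ ≤ ker P j) :
    ∀ n j, κ < j → j < N → N ≤ j + n → P j ≤ centralizer (R : Set Γ) := by
  have hT := h.toIsTower
  intro n
  induction n with
  | zero => intro j _ _ _; omega
  | succ n ih =>
    intro j hj hjN hn
    by_contra hne
    have hRc : R ≤ normalizer ((centralizer (R : Set Γ) : Subgroup Γ) : Set Γ) :=
      le_normalizer_centralizer Subgroup.le_normalizer
    have h1 := h.le_zz hjN (Q := P j ⊓ centralizer (R : Set Γ)) inf_le_left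
      (le_normalizer_inf (hT.inv j hjN) hRc)
      (fun k hk hkN => le_normalizer_inf (hT.norm j k (by omega) hkN)
        ((ih k (by omega) hkN (by omega)).trans Subgroup.le_normalizer)) (by
        intro heq
        exact hne (inf_eq_left.mp heq))
    apply h.not_le_zz hjN
    intro x hx
    obtain ⟨c, hc, hcR, hcx⟩ := exists_cent_mul h.hR
      (GLev.isPGroup_of_card h.hR rfl) (hT.inv j hjN)
      (cop_of_ne h.hR (hT.prime j hjN) (h.hRp j hjN) (hT.pgroup j hjN)) hx
    have h2 : c⁻¹ * x ∈ zz P N j := IsTower.ker_le_zz hT hjN (hκ j hj hjN hcx)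
    have h3 := Subgroup.mul_mem _ (h1 ⟨hc, hcR⟩) h2
    rwa [mul_inv_cancel_left] at h3

theorem MT.comm_R (h : MT R P p N) (hκN : κ < N)
    (hκ1 : ¬ ⁅P κ, R⁆ ≤ ker P κ)
    (hc : ∀ j, κ < j → j < N → P j ≤ centralizer (R : Set Γ)) : ⁅P κ, R⁆ = P κ := by
  have hT := h.toIsTower
  by_contra hne
  have h1 := h.le_zz hκN (Q := ⁅P κ, R⁆)
    (Lib.CoprimeCommutator.commutator_le_left (hT.inv κ hκN))
    (Lib.CoprimeCommutator.right_le_normalizer_commutator _ _)
    (fun k hk hkN => le_normalizer_commutator (hT.norm κ k (by omega) hkN) (by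
      refine (hc k hk hkN).trans ?_
      exact Subgroup.centralizer_le_normalizer (R : Set Γ))) hne
  apply hκ1
  by_cases h2 : κ + 1 < N
  · have hRK := IsTower.inv_ker hT hκN
    have h3 := SignalizersComponents.PerfectGoingUp.three_subgroups_mod
      (A := P κ) (B := P (κ + 1)) (C := R) (K := ker P κ)
      (IsTower.norm_ker hT le_rfl hκN) (IsTower.norm_ker hT (Nat.le_succ κ) h2) hRK (by
        rw [commutator_le]
        intro u hu v hv
        have h4 : ⁅P (κ + 1), R⁆ ≤ ⊥ := by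
          rw [commutator_le]
          intro x hx y hy
          rw [Subgroup.mem_bot, commutatorElement_eq_one_iff_mul_comm]
          exact (Subgroup.mem_centralizer_iff.mp (hc (κ + 1) (by omega) h2 hx) y hy).symm
        have h5 : u = 1 := h4 hu
        rw [h5, commutatorElement_one_left]
        exact Subgroup.one_mem _) (by
        rw [commutator_le]
        intro u hu v hv
        rw [commutator_comm] at hu
        exact h.zz_comm_succ h2 (h1 hu) hv)
    rwa [h.comm_eq h2] at h3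
  · rwa [zz_of_not h2] at h1

theorem MT.cop_R (h : MT R P p N) {i : ℕ} (hi : i < N) :
    (Nat.card R).Coprime (Nat.card (P i)) :=
  cop_card (h.prime i hi) h.hR (h.hRp i hi).symm (GLev.isPGroup_of_card h.hR rfl) (h.pgroup i hi)

theorem MT.cent_kappa (h : MT R P p N) (hκN : κ < N) (hcomm : ⁅P κ, R⁆ = P κ) :
    P κ ⊓ centralizer (R : Set Γ) ≤ zz P N κ := by
  refine cent_le_gen (h.cop_R hκN) ?_ (h.inv κ hκN) hcomm
  rw [commutator_le]
  exact (h.phi hκN).1

theorem MT.R_nontriv (h : MT R P p N) (hκN : κ < N) (hcomm : ⁅P κ, R⁆ = P κ) :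
    ∀ n i, i ≤ κ → κ ≤ i + n → ¬ ⁅P i, R⁆ ≤ zz P N i := by
  have hT := h.toIsTower
  intro n
  induction n with
  | zero =>
    intro i hi hn
    have : i = κ := by omega
    rw [this, hcomm]
    exact h.not_le_zz hκN
  | succ n ih =>
    intro i hi hn
    rcases Nat.lt_or_eq_of_le hi with hlt | heq
    · intro hcon
      have h2 : i + 1 < N := by omega
      apply ih (i + 1) (by omega) (by omega)
      have hRZ := h.inv_zz (i := i) (by omega)
      have hP1 := h.norm_zz (i := i) (j := i + 1) (by omega) h2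
      have hP0 := h.norm_zz (i := i) (j := i) le_rfl (by omega)
      have h3 := SignalizersComponents.PerfectGoingUp.three_subgroups_mod
        (A := R) (B := P (i + 1)) (C := P i) (K := zz P N i) hRZ hP1 hP0 (by
          rw [commutator_comm (P (i + 1)) (P i), h.comm_eq h2]
          exact hcon) (by
          rw [commutator_le]
          intro u hu v hv
          exact IsTower.ker_le_zz hT (by omega) (h.zz_comm_succ h2 (hcon hu) hv))
      rw [commutator_comm R] at h3
      intro x hx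
      refine IsTower.ker_le_zz hT h2 (h.mem_ker_of h2 ?_ fun y hy =>
        h3 (commutator_mem_commutator hx hy))
      exact Lib.CoprimeCommutator.commutator_le_left (hT.inv (i + 1) h2) hx
    · rw [heq, hcomm]
      exact h.not_le_zz hκN

end Kappa

end Cfsg.Agent.H575.TThree
end

-- part: H575/CChain
section
/-!
# The chain in the fixed point group
-/

set_option autoImplicit false
set_option linter.unusedSectionVars false
set_option linter.unusedVariables false

namespace Cfsg.Agent.H575.TThree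

open Subgroup Cfsg.Agent.H575.Sect Cfsg.Agent.H575.Tower Cfsg.Agent.H575.HA
  Cfsg.Agent.H575.ExtraIrr Cfsg.Agent.H575.MinTower Cfsg.Agent.H575.Mult
open scoped commutatorElement

universe u

variable {Γ : Type u} [Group Γ]

/-- a descending chain with nilpotent factors -/
structure CC (C : Subgroup Γ) (c : ℕ → Subgroup Γ) (n : ℕ) : Prop where
  zero : c 0 = C
  bot : ∀ j, n ≤ j → c j = ⊥
  anti : ∀ j, c (j + 1) ≤ c j
  norm : ∀ j, C ≤ normalizer (c j : Set Γ)
  nil : ∀ j, ∃ k, (c j).lowerCentralSeries k ≤ c (j + 1)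

theorem CC.le {C : Subgroup Γ} {c : ℕ → Subgroup Γ} {n : ℕ} (h : CC C c n) (j : ℕ) : c j ≤ C := by
  induction j with
  | zero => exact h.zero.le
  | succ j ih => exact (h.anti j).trans ih

theorem exists_cc {C : Subgroup Γ} {n : ℕ} (h : Chain.FChain n C) : ∃ c, CC C c n := by
  obtain ⟨F, h0, h1, h2, h3, h4⟩ := h
  refine ⟨fun j => (F ⟨n - j, by omega⟩).map C.subtype, ?_, ?_, ?_, ?_, ?_⟩
  · show (F ⟨n - 0, _⟩).map C.subtype = C
    have h5 : (⟨n - 0, by omega⟩ : Fin (n + 1)) = Fin.last n := Fin.ext (by simp)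
    rw [h5, h1, ← MonoidHom.range_eq_map, Subgroup.range_subtype]
  · intro j hj
    show (F ⟨n - j, _⟩).map C.subtype = ⊥
    have h5 : (⟨n - j, by omega⟩ : Fin (n + 1)) = 0 := Fin.ext (by simp; omega)
    rw [h5, h0, Subgroup.map_bot]
  · intro j
    refine Subgroup.map_mono (h2 ?_)
    show n - (j + 1) ≤ n - j
    omega
  · intro j
    refine le_norm ?_
    rintro g hg _ ⟨x, hx, rfl⟩
    exact ⟨⟨g, hg⟩ * x * ⟨g, hg⟩⁻¹, (h3 _).conj_mem x hx ⟨g, hg⟩, rfl⟩
  · intro j
    by_cases hj : j < n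
    · obtain ⟨k, hk⟩ := h4 ⟨n - (j + 1), by omega⟩
      refine ⟨k, ?_⟩
      have h5 : (⟨n - j, by omega⟩ : Fin (n + 1)) =
          (⟨n - (j + 1), by omega⟩ : Fin n).succ := Fin.ext (by
        show n - j = n - (j + 1) + 1
        omega)
      show ((F ⟨n - j, _⟩).map C.subtype).lowerCentralSeries k ≤ _
      rw [h5, ← Subgroup.map_lowerCentralSeries]
      exact Subgroup.map_mono hk
    · refine ⟨0, ?_⟩
      refine Subgroup.map_mono (h2 ?_)
      show n - j ≤ n - (j + 1)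
      omega

variable [Finite Γ]

/-- coprime commutators go down in the chain -/
theorem CC.step {C : Subgroup Γ} {c : ℕ → Subgroup Γ} {n : ℕ} (h : CC C c n) {D Y : Subgroup Γ}
    {p q : ℕ} (hp : p.Prime) (hq : q.Prime) (hpq : p ≠ q) (hD : IsPGroup p D) (hDC : D ≤ C)
    (hY : IsPGroup q Y) {j : ℕ} (hYc : Y ≤ c j) (hYD : Y ≤ normalizer (D : Set Γ)) :
    ⁅D, Y⁆ ≤ c (j + 1) := by
  have h1 : ⁅⁅D, Y⁆, Y⁆ = ⁅D, Y⁆ :=
    Lib.CoprimeCommutator.commutator_commutator_eq Y D hYD (cop_card hp hq hpq hY hD)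
  have h2 : ∀ k, ⁅D, Y⁆ ≤ (c j).lowerCentralSeries k := by
    intro k
    induction k with
    | zero =>
      show ⁅D, Y⁆ ≤ c j
      rw [commutator_comm]
      exact (commutator_mono hYc le_rfl).trans
        (Lib.CoprimeCommutator.commutator_le_left (hDC.trans (h.norm j)))
    | succ k ih =>
      rw [Subgroup.lowerCentralSeries_succ, ← h1]
      exact commutator_mono ih hYc
  obtain ⟨k, hk⟩ := h.nil j
  exact (h2 k).trans hk

variable {R : Subgroup Γ} {P : ℕ → Subgroup Γ} {p : ℕ → ℕ} {N : ℕ}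

/-- above `m` everything is centralized by `R` -/
theorem MT.cent_above' (h : MT R P p N) {m : ℕ}
    (hm : ∀ j, m ≤ j → j < N → ⁅P j, R⁆ ≤ ker P j) :
    ∀ n j, m ≤ j → j < N → N ≤ j + n → P j ≤ centralizer (R : Set Γ) := by
  have hT := h.toIsTower
  intro n
  induction n with
  | zero => intro j _ _ _; omega
  | succ n ih =>
    intro j hj hjN hn
    by_contra hne
    have hRc : R ≤ normalizer ((centralizer (R : Set Γ) : Subgroup Γ) : Set Γ) :=
      le_normalizer_centralizer Subgroup.le_normalizer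
    have h1 := h.le_zz hjN (Q := P j ⊓ centralizer (R : Set Γ)) inf_le_left
      (le_normalizer_inf (hT.inv j hjN) hRc)
      (fun k hk hkN => le_normalizer_inf (hT.norm j k (by omega) hkN)
        ((ih k (by omega) hkN (by omega)).trans Subgroup.le_normalizer)) (by
        intro heq
        exact hne (inf_eq_left.mp heq))
    apply h.not_le_zz hjN
    intro x hx
    obtain ⟨c, hc, hcR, hcx⟩ := exists_cent_mul h.hR
      (GLev.isPGroup_of_card h.hR rfl) (hT.inv j hjN)
      (cop_of_ne h.hR (hT.prime j hjN) (h.hRp j hjN) (hT.pgroup j hjN)) hx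
    have h2 : c⁻¹ * x ∈ zz P N j := IsTower.ker_le_zz hT hjN (hm j hj hjN hcx)
    have h3 := Subgroup.mul_mem _ (h1 ⟨hc, hcR⟩) h2
    rwa [mul_inv_cancel_left] at h3

theorem MT.le_chain (h : MT R P p N) {X : Subgroup Γ} (hX : ∀ i < N, P i ≤ X)
    {c : ℕ → Subgroup Γ} {n : ℕ} (hc : CC (X ⊓ centralizer (R : Set Γ)) c n) {m : ℕ}
    (hm : ∀ j, m ≤ j → j < N → P j ≤ centralizer (R : Set Γ)) :
    ∀ d j, m ≤ j → j < N → j + d + 1 = N → P j ≤ c d := by
  intro d
  induction d with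
  | zero =>
    intro j hj hjN _
    rw [hc.zero]
    exact le_inf (hX j hjN) (hm j hj hjN)
  | succ d ih =>
    intro j hj hjN hd
    have h1 := ih (j + 1) (by omega) (by omega) (by omega)
    rw [← h.comm_eq (i := j) (by omega)]
    exact hc.step (h.prime j hjN) (h.prime (j + 1) (by omega)) (h.ne j (by omega))
      (h.pgroup j hjN) (le_inf (hX j hjN) (hm j hj hjN)) (h.pgroup (j + 1) (by omega)) h1
      (h.norm j (j + 1) (by omega) (by omega))

/-- the index `κ` -/
theorem MT.exists_kappa (h : MT R P p N) {X : Subgroup Γ} (hX : ∀ i < N, P i ≤ X)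
    {c : ℕ → Subgroup Γ} {n : ℕ} (hc : CC (X ⊓ centralizer (R : Set Γ)) c n) (hN : N = n + 3) :
    ∃ κ, 2 ≤ κ ∧ κ < N ∧ ⁅P κ, R⁆ = P κ ∧
      (∀ j, κ < j → j < N → P j ≤ centralizer (R : Set Γ)) := by
  classical
  -- not everything above `2` is centralized
  have h1 : ∃ k, 2 ≤ k ∧ k < N ∧ ¬ ⁅P k, R⁆ ≤ ker P k := by
    by_contra hcon
    push Not at hcon
    have h2 := h.cent_above' (m := 2) hcon
    have h3 := h.le_chain hX hc (m := 2) (fun j hj hjN => h2 N j hj hjN (by omega)) n 2 le_rfl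
      (by omega) (by omega)
    rw [hc.bot n le_rfl, le_bot_iff] at h3
    exact h.ne_bot (by omega) h3
  obtain ⟨k, hk2, hkN, hk⟩ := h1
  let κ := Nat.findGreatest (fun k => k < N ∧ ¬ ⁅P k, R⁆ ≤ ker P k) N
  have h4 : κ < N ∧ ¬ ⁅P κ, R⁆ ≤ ker P κ :=
    Nat.findGreatest_spec (P := fun k => k < N ∧ ¬ ⁅P k, R⁆ ≤ ker P k) hkN.le ⟨hkN, hk⟩
  have h5 : k ≤ κ := Nat.le_findGreatest hkN.le ⟨hkN, hk⟩
  have h6 : ∀ j, κ < j → j < N → ⁅P j, R⁆ ≤ ker P j := by
    intro j hj hjN
    by_contra hne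
    have h7 : j ≤ κ := Nat.le_findGreatest hjN.le ⟨hjN, hne⟩
    omega
  have h7 : ∀ j, κ < j → j < N → P j ≤ centralizer (R : Set Γ) := fun j hj hjN =>
    h.cent_above' (m := κ + 1) (fun j hj => h6 j hj) N j hj hjN (by omega)
  exact ⟨κ, hk2.trans h5, h4.1, h.comm_R h4.1 h4.2 h7, h7⟩

end Cfsg.Agent.H575.TThree
end

-- part: H575/Avg
section
/-!
# Averaging over a normal subgroup of coprime order
-/

set_option autoImplicit false
set_option linter.unusedSectionVars false
set_option linter.unusedVariables false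

namespace Cfsg.Agent.H575.Avg

open Subgroup Cfsg.Agent.H575.Sect Cfsg.Agent.H575.Tower Cfsg.Agent.H575.BC
  Cfsg.Agent.H575.Model Cfsg.Agent.H575.GLev
open scoped commutatorElement

universe u

/-- `[C_M(B), A]` -/
def brc {M : Type*} [CommGroup M] (A B : Subgroup (MulAut M)) : Subgroup M :=
  Subgroup.closure {w | ∃ a ∈ A, ∃ u : M, (∀ c ∈ B, c u = u) ∧ w = a u * u⁻¹}

theorem avg_split {M : Type*} [CommGroup M] [Finite M] {p : ℕ} [hp : Fact p.Prime]
    (hM : ∀ m : M, m ^ p = 1) {A B R : Subgroup (MulAut M)} (hB : ¬ p ∣ Nat.card B)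
    {x : MulAut M} (hxB : x ∈ normalizer (B : Set (MulAut M)))
    (hAB : A ≤ normalizer (B : Set (MulAut M))) (hRB : R ≤ normalizer (B : Set (MulAut M)))
    {m : M} (hm : m ∈ brm A) (hmR : ∀ a ∈ R, a m = m) (hxm : x m ≠ m)
    (hcase : ∀ w ∈ brm B, (∀ a ∈ R, a w = w) → x w = w) :
    ∃ m' ∈ brc A B, (∀ a ∈ R, a m' = m') ∧ x m' ≠ m' := by
  classical
  have : Fintype B := Fintype.ofFinite B
  let N : M →* M :=
    { toFun := fun m => ∏ c : B, (c : MulAut M) m
      map_one' := Finset.prod_eq_one fun c _ => map_one _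
      map_mul' := fun a b => by
        rw [← Finset.prod_mul_distrib]
        exact Finset.prod_congr rfl fun c _ => map_mul _ _ _ }
  have hN : ∀ m, N m = ∏ c : B, (c : MulAut M) m := fun m => rfl
  have hNfix : ∀ m, ∀ c ∈ B, c (N m) = N m := by
    intro m c hc
    rw [hN, map_prod]
    refine Fintype.prod_bijective (fun y => ⟨c, hc⟩ * y) (Group.mulLeft_bijective _) _ _
      fun y => rfl
  have hNcomm : ∀ g ∈ normalizer (B : Set (MulAut M)), ∀ m, g (N m) = N (g m) := by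
    intro g hg m
    rw [hN, hN, map_prod]
    have hconj : ∀ c : B, g * c * g⁻¹ ∈ B := fun c =>
      (Subgroup.mem_normalizer_iff.mp hg c).mp c.2
    refine Fintype.prod_bijective (fun c : B => (⟨g * c * g⁻¹, hconj c⟩ : B)) ?_ _ _ fun c => ?_
    · refine (Finite.injective_iff_bijective).mp fun a b hab => ?_
      have h1 : g * a * g⁻¹ = g * b * g⁻¹ := congrArg Subtype.val hab
      exact Subtype.ext (mul_left_cancel (mul_right_cancel h1))
    · show g ((c : MulAut M) m) = (g * c * g⁻¹) (g m)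
      rw [MulAut.mul_apply, MulAut.mul_apply, MulAut.inv_apply_self]
  -- the decomposition of `m ^ k`
  let w : M := ∏ c : B, (m * ((c : MulAut M) m)⁻¹)
  have hw : w ∈ brm B := by
    refine Subgroup.prod_mem _ fun c _ => ?_
    have h1 : m * ((c : MulAut M) m)⁻¹ = ((c : MulAut M) m * m⁻¹)⁻¹ := by
      rw [mul_inv_rev, inv_inv]
    rw [h1]
    exact Subgroup.inv_mem _ (Subgroup.subset_closure ⟨c, c.2, m, rfl⟩)
  have hdec : m ^ Fintype.card B = N m * w := by
    rw [hN, ← Finset.prod_mul_distrib, ← Finset.card_univ, ← Finset.prod_const]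
    refine Finset.prod_congr rfl fun c _ => ?_
    rw [mul_left_comm, mul_inv_cancel, mul_one]
  have hNR : ∀ a ∈ R, a (N m) = N m := by
    intro a ha
    rw [hNcomm a (hRB ha), hmR a ha]
  have hwR : ∀ a ∈ R, a w = w := by
    intro a ha
    have h1 : w = (N m)⁻¹ * m ^ Fintype.card B := by rw [hdec, inv_mul_cancel_left]
    rw [h1, map_mul, map_inv, hNR a ha, map_pow, hmR a ha]
  refine ⟨N m, ?_, hNR, ?_⟩
  · have hle : brm A ≤ (brc A B).comap N := by
      rw [brm, closure_le]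
      rintro _ ⟨b, hb, u, rfl⟩
      rw [SetLike.mem_coe, Subgroup.mem_comap, map_mul, map_inv, ← hNcomm b (hAB hb)]
      exact Subgroup.subset_closure ⟨b, hb, N u, hNfix u, rfl⟩
    exact hle hm
  · intro h1
    apply hxm
    have h2 : x (m ^ Fintype.card B) = m ^ Fintype.card B := by
      rw [hdec, map_mul, h1, hcase w hw hwR]
    rw [map_pow] at h2
    have hcop : (Fintype.card B).Coprime p := by
      rw [← Nat.card_eq_fintype_card]
      exact ((Nat.Prime.coprime_iff_not_dvd hp.out).mpr hB).symm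
    have h3 : (x m * m⁻¹) ^ Fintype.card B = 1 := by
      rw [mul_pow, h2, inv_pow, mul_inv_cancel]
    have h4 : (x m * m⁻¹) = 1 := by
      have h5 := hM (x m * m⁻¹)
      have h6 : orderOf (x m * m⁻¹) ∣ 1 := by
        rw [← hcop]
        exact Nat.dvd_gcd (orderOf_dvd_of_pow_eq_one h3) (orderOf_dvd_of_pow_eq_one h5)
      exact orderOf_eq_one_iff.mp (Nat.dvd_one.mp h6)
    exact mul_inv_eq_one.mp h4

variable {Γ : Type u} [Group Γ]
variable {L ZL : Subgroup Γ} {p : ℕ} {M : Type u} [CommGroup M] {f : L →* M}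
  {θ : nn L ZL →* MulAut M}

theorem brm_of (h : Mod L ZL p f θ) {B : Subgroup Γ} (hB : B ≤ nn L ZL) {g : Γ}
    (hg : g ∈ ⁅L, B⁆) (hgL : g ∈ L) : f ⟨g, hgL⟩ ∈ brm (im θ B) := by
  have hle : ⁅L, B⁆ ≤ ((brm (im θ B)).comap f).map L.subtype := by
    rw [commutator_le]
    intro l hl b hb
    have hb' : b * l⁻¹ * b⁻¹ ∈ L := mem_norm_L (hB hb) (L.inv_mem hl)
    refine ⟨⟨l, hl⟩ * ⟨b * l⁻¹ * b⁻¹, hb'⟩, ?_, ?_⟩
    · rw [SetLike.mem_coe, Subgroup.mem_comap, map_mul,
        ← h.eq ⟨b, hB hb⟩ ⟨l⁻¹, L.inv_mem hl⟩ ⟨b * l⁻¹ * b⁻¹, hb'⟩ rfl, _root_.mul_comm]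
      refine Subgroup.subset_closure ⟨θ ⟨b, hB hb⟩, mem_im_of (g := ⟨b, hB hb⟩) hb,
        f ⟨l⁻¹, L.inv_mem hl⟩, ?_⟩
      congr 1
      have h1 : (⟨l⁻¹, L.inv_mem hl⟩ : L) = (⟨l, hl⟩ : L)⁻¹ := rfl
      rw [h1, map_inv, inv_inv]
    · show l * (b * l⁻¹ * b⁻¹) = ⁅l, b⁆
      rw [commutatorElement_def]
      group
  obtain ⟨y, hy, hyg⟩ := hle hg
  have h1 : y = ⟨g, hgL⟩ := Subtype.ext hyg
  rw [← h1]
  exact hy

theorem im_sup_eq (h : Mod L ZL p f θ) {A K : Subgroup Γ} (hA : A ≤ nn L ZL)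
    (hK : K ≤ nn L ZL) (hKL : ∀ x ∈ K, ∀ l ∈ L, ⁅x, l⁆ ∈ ZL) : im θ (A ⊔ K) = im θ A := by
  rw [im, im, Subgroup.subgroupOf_sup hA hK, Subgroup.map_sup, sup_eq_left]
  rintro _ ⟨x, hx, rfl⟩
  have h1 : θ x = 1 := h.eq_one_iff.mpr (hKL x hx)
  rw [h1]
  exact Subgroup.one_mem _

/-- elements of `[C_M(B), A]` come from `[L*, A]` -/
theorem brc_lift (h : Mod L ZL p f θ) {A B Ls : Subgroup Γ} (hBS : B ≤ nn L ZL)
    (hLs : ∀ l ∈ L, (∀ b ∈ B, ⁅b, l⁆ ∈ ZL) → l ∈ Ls) {m : M}
    (hm : m ∈ brc (im θ A) (im θ B)) : ∃ l : L, (l : Γ) ∈ ⁅Ls, A⁆ ∧ f l = m := by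
  have hle : brc (im θ A) (im θ B) ≤ ((⁅Ls, A⁆ : Subgroup Γ).subgroupOf L).map f := by
    rw [brc, closure_le]
    rintro _ ⟨_, ⟨b, hb, rfl⟩, u, hu, rfl⟩
    obtain ⟨l, rfl⟩ := h.surj u
    have h1 := h.eq b l ⟨b * l * (b : Γ)⁻¹, mem_norm_L b.2 l.2⟩ rfl
    rw [h1]
    have hl : (l : Γ) ∈ Ls := by
      refine hLs l l.2 fun c hc => ?_
      have h2 := hu _ (mem_im_of (g := ⟨c, hBS hc⟩) hc)
      rwa [h.fix_iff] at h2
    refine ⟨⟨b * l * (b : Γ)⁻¹, mem_norm_L b.2 l.2⟩ * l⁻¹, ?_, by rw [map_mul, map_inv]⟩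
    show (b : Γ) * l * (b : Γ)⁻¹ * (l : Γ)⁻¹ ∈ ⁅Ls, A⁆
    rw [← commutatorElement_def, commutator_comm]
    exact commutator_mem_commutator hb hl
  obtain ⟨l, hl, rfl⟩ := hle hm
  exact ⟨l, hl, rfl⟩

end Cfsg.Agent.H575.Avg
end

-- part: H575/StepT
section
/-!
# One step down the tower
-/

set_option autoImplicit false
set_option linter.unusedSectionVars false
set_option linter.unusedVariables false

namespace Cfsg.Agent.H575.TThree

open Subgroup Cfsg.Agent.H575.Sect Cfsg.Agent.H575.Tower Cfsg.Agent.H575.HA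
  Cfsg.Agent.H575.ExtraIrr Cfsg.Agent.H575.MinTower Cfsg.Agent.H575.Mult
  Cfsg.Agent.H575.GLev Cfsg.Agent.H575.Model Cfsg.Agent.H575.BC
open scoped commutatorElement

universe u

variable {Γ : Type u} [Group Γ] [Finite Γ]
variable {R : Subgroup Γ} {P : ℕ → Subgroup Γ} {p : ℕ → ℕ} {N : ℕ}

theorem MT.le_nn (h : MT R P p N) {i j : ℕ} (hij : i ≤ j) (hj : j < N) :
    P j ≤ nn (P i) (zz P N i) := le_inf (h.norm i j hij hj) (h.norm_zz hij hj)

theorem MT.R_le_nn (h : MT R P p N) {i : ℕ} (hi : i < N) :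
    R ≤ nn (P i) (zz P N i) := le_inf (h.inv i hi) (h.inv_zz hi)

theorem MT.exists_R (h : MT R P p N) {i : ℕ} (hR : ¬ ⁅P i, R⁆ ≤ zz P N i) :
    ∃ a ∈ R, ∃ l ∈ P i, ⁅a, l⁆ ∉ zz P N i := by
  by_contra hcon
  push Not at hcon
  apply hR
  rw [commutator_le]
  intro x hx a ha
  exact comm_swap (hcon a ha x hx)

theorem MT.gd (h : MT R P p N) {i : ℕ} (hi : i + 2 < N) (hRi : ¬ ⁅P i, R⁆ ≤ zz P N i)
    {A Px : Subgroup Γ} (hA : A ≤ P (i + 2)) (hRA : R ≤ normalizer (A : Set Γ))
    (hAR : ⁅A, R⁆ = A) (hPx : Px ≤ P (i + 1)) (hZ : zz P N (i + 1) ≤ Px)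
    (hAP : A ≤ normalizer (Px : Set Γ)) (hRP : R ≤ normalizer (Px : Set Γ)) :
    GD (P i) (zz P N i) Px (zz P N (i + 1)) (ker P (i + 1)) A R (Nat.card R)
      (p (i + 1)) (p (i + 2)) (p i) where
  hr := h.hR
  hs := h.prime (i + 1) (by omega)
  hq := h.prime (i + 2) hi
  hp := h.prime i (by omega)
  hrs := h.hRp (i + 1) (by omega)
  hrq := h.hRp (i + 2) hi
  hqs := (h.ne (i + 1) hi).symm
  hrp := h.hRp i (by omega)
  hsp := (h.ne i (by omega)).symm
  hR := rfl
  hL := h.pgroup i (by omega)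
  hZL := zz_le i
  hLL := (h.phi (i := i) (by omega)).1
  hLp := (h.phi (i := i) (by omega)).2
  hPS := hPx.trans (h.le_nn (Nat.le_succ i) (by omega))
  hAS := hA.trans (h.le_nn (by omega) hi)
  hRS := h.R_le_nn (by omega)
  hRL := h.exists_R hRi
  hP := (h.pgroup (i + 1) (by omega)).to_le hPx
  hKP := (IsTower.ker_le_zz h.toIsTower (i := i + 1) (by omega)).trans hZ
  hK := fun x hx => by
    constructor
    · intro hxl
      exact h.mem_ker_of (by omega) (hPx hx) hxl
    · intro hxK l hl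
      have h1 : x ∈ P (i + 1) ⊓ cmod (P i) (ker P i) := hxK
      exact IsTower.ker_le_zz h.toIsTower (i := i) (by omega) (h1.2.2 l hl)
  hZP := hZ
  hPP := fun x hx y hy => (h.phi (i := i + 1) (by omega)).1 x (hPx hx) y (hPx hy)
  hPs := fun x hx => (h.phi (i := i + 1) (by omega)).2 x (hPx hx)
  hZ := fun z hz x hx => h.zz_comm (by omega) hz (hPx hx)
  hA := (h.pgroup (i + 2) hi).to_le hA
  hAP := hAP
  hZA := fun z hz a ha => h.zz_comm_succ (i := i + 1) hi hz (hA ha)
  hRP := hRP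
  hRZ := h.inv_zz (by omega)
  hRA := hRA
  hcomm := hAR
  hA3 := fun a ha b hb c hc x hx => by
    have h1 : ⁅⁅a, b⁆, c⁆ ∈ ker P (i + 2) :=
      h.zz_comm hi ((h.phi hi).1 a (hA ha) b (hA hb)) (hA hc)
    have h2 : ⁅⁅a, b⁆, c⁆ ∈ P (i + 2) ⊓ cmod (P (i + 1)) (ker P (i + 1)) := h1
    exact h2.2.2 x (hPx hx)
  hAq := fun a ha b hb x hx => by
    have h1 : ⁅a ^ p (i + 2), b⁆ ∈ ker P (i + 2) :=
      h.zz_comm hi ((h.phi hi).2 a (hA ha)) (hA hb)
    have h2 : ⁅a ^ p (i + 2), b⁆ ∈ P (i + 2) ⊓ cmod (P (i + 1)) (ker P (i + 1)) := h1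
    exact h2.2.2 x (hPx hx)

theorem MT.ker_act (h : MT R P p N) {i : ℕ} {x y : Γ} (hx : x ∈ ker P (i + 1))
    (hy : y ∈ P i) : ⁅x, y⁆ ∈ ker P i := by
  have h2 : x ∈ P (i + 1) ⊓ cmod (P i) (ker P i) := hx
  exact h2.2.2 y hy

theorem Vis.mono {L ZL B B' R : Subgroup Γ} {x : Γ} (hB : B ≤ B') (h : Vis L ZL B R x) :
    Vis L ZL B' R x := by
  obtain ⟨g, hg, hgR, hgx⟩ := h
  exact ⟨g, commutator_mono le_rfl hB hg, hgR, hgx⟩

/-- `x` is a visible element of level `i + 1` -/
def VV (R : Subgroup Γ) (P : ℕ → Subgroup Γ) (N i : ℕ) (x : Γ) : Prop :=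
  x ∈ P (i + 1) ∧ x ∈ centralizer (R : Set Γ) ∧ Vis (P i) (zz P N i) ⁅P (i + 1), R⁆ R x

theorem MT.step (h : MT R P p N) {X : Subgroup Γ} (hX : ∀ i < N, P i ≤ X)
    {c : ℕ → Subgroup Γ} {n : ℕ} (hc : CC (X ⊓ centralizer (R : Set Γ)) c n)
    {i : ℕ} (hi : i + 2 < N) (hRi : ¬ ⁅P i, R⁆ ≤ zz P N i) {j : ℕ} {x : Γ}
    (hx : VV R P N (i + 1) x) (hxc : x ∈ c j) : ∃ x', VV R P N i x' ∧ x' ∈ c (j + 1) := by
  obtain ⟨hxP, hxR, hvis⟩ := hx
  have hT := h.toIsTower
  have hR := h.hR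
  have hRp : IsPGroup (Nat.card R) R := isPGroup_of_card h.hR rfl
  -- the group generated by `x`
  set Y : Subgroup Γ := zpowers x with hY
  have hYP2 : Y ≤ P (i + 2) := zpowers_le.mpr hxP
  have hYR' : Y ≤ centralizer (R : Set Γ) := zpowers_le.mpr hxR
  have hYR : ∀ y ∈ Y, ∀ a ∈ R, y * a = a * y := fun y hy a ha =>
    (Subgroup.mem_centralizer_iff.mp (hYR' hy) a ha).symm
  have hYq : IsPGroup (p (i + 2)) Y := (h.pgroup (i + 2) hi).to_le hYP2
  have hYc : Y ≤ c j := zpowers_le.mpr hxc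
  have hYP1 : Y ≤ normalizer (P (i + 1) : Set Γ) := hYP2.trans (h.norm (i + 1) (i + 2) (by omega) hi)
  -- commutators with `Y` go down
  have hdown : ∀ D : Subgroup Γ, D ≤ P (i + 1) ⊓ centralizer (R : Set Γ) →
      ⁅D, Y⁆ ≤ c (j + 1) ∧ ⁅D, Y⁆ ≤ P (i + 1) ⊓ centralizer (R : Set Γ) := by
    intro D hD
    have hYD : Y ≤ normalizer ((P (i + 1) ⊓ centralizer (R : Set Γ) : Subgroup Γ) : Set Γ) :=
      le_normalizer_inf hYP1 (hYR'.trans Subgroup.le_normalizer)
    have h1 := hc.step (h.prime (i + 1) (by omega)) (h.prime (i + 2) hi) (h.ne (i + 1) hi)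
      ((h.pgroup (i + 1) (by omega)).to_le inf_le_left)
      (D := P (i + 1) ⊓ centralizer (R : Set Γ))
      (le_inf (inf_le_left.trans (hX (i + 1) (by omega))) inf_le_right) hYq hYc hYD
    exact ⟨(commutator_mono hD le_rfl).trans h1, (commutator_mono hD le_rfl).trans
      (Lib.CoprimeCommutator.commutator_le_left hYD)⟩
  -- `A₀`
  set A0 : Subgroup Γ := ⁅zz P N (i + 2), R⁆ with hA0
  have hRz : R ≤ normalizer (zz P N (i + 2) : Set Γ) := h.inv_zz hi
  have hA0z : A0 ≤ zz P N (i + 2) := Lib.CoprimeCommutator.commutator_le_left hRz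
  have hA0P : A0 ≤ P (i + 2) := hA0z.trans (zz_le _)
  have hRA0 : R ≤ normalizer (A0 : Set Γ) :=
    Lib.CoprimeCommutator.right_le_normalizer_commutator _ _
  have hA0R : ⁅A0, R⁆ = A0 := Lib.CoprimeCommutator.commutator_commutator_eq _ _ hRz
    ((h.cop_R hi).coprime_dvd_right (Subgroup.card_dvd_of_le (zz_le _)))
  have hwitness : ∀ (g : Γ), ⁅x, g⁆ ∉ zz P N (i + 1) → ⁅g, x⁆ ∉ ker P (i + 1) := by
    intro g hg h1
    exact hg (comm_swap (IsTower.ker_le_zz hT (by omega) h1))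
  by_cases hcase : ∃ g ∈ ⁅P (i + 1), A0⁆, g ∈ centralizer (R : Set Γ) ∧ ⁅x, g⁆ ∉ zz P N (i + 1)
  · obtain ⟨g, hg, hgR, hgx⟩ := hcase
    have hgd := h.gd hi hRi hA0P hRA0 hA0R le_rfl (zz_le _)
      (hA0P.trans (h.norm (i + 1) (i + 2) (by omega) hi)) (h.inv (i + 1) (by omega))
    obtain ⟨d, hd, hdv⟩ := klG hgd hYq (hYP2.trans (h.le_nn (by omega) hi)) hYR hYP1
      (fun z hz y hy => h.zz_comm_succ (i := i + 1) hi hz (hYP2 hy))
      (fun a ha y hy u hu => h.ker_act (h.zz_comm hi (hA0z ha) (hYP2 hy)) hu)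
      ⟨⁅g, x⁆, commutator_mem_commutator ⟨hg, hgR⟩ (mem_zpowers x), hwitness g hgx⟩
    have hle : ⁅P (i + 1), A0⁆ ≤ P (i + 1) := Lib.CoprimeCommutator.commutator_le_left
      (hA0P.trans (h.norm (i + 1) (i + 2) (by omega) hi))
    obtain ⟨h1, h2⟩ := hdown (⁅P (i + 1), A0⁆ ⊓ centralizer (R : Set Γ))
      (inf_le_inf_right _ hle)
    exact ⟨d, ⟨(h2 hd).1, (h2 hd).2, hdv⟩, h1 hd⟩
  · push Not at hcase
    set A : Subgroup Γ := ⁅P (i + 2), R⁆ with hA
    have hAP : A ≤ P (i + 2) := Lib.CoprimeCommutator.commutator_le_left (h.inv (i + 2) hi)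
    have hRA : R ≤ normalizer (A : Set Γ) :=
      Lib.CoprimeCommutator.right_le_normalizer_commutator _ _
    have hAR : ⁅A, R⁆ = A := Lib.CoprimeCommutator.commutator_commutator_eq _ _
      (h.inv (i + 2) hi) (h.cop_R hi)
    -- `A₁`
    set A1 : Subgroup Γ := A0 ⊔ ker P (i + 2) with hA1
    have hKP : ker P (i + 2) ≤ P (i + 2) := ker_le P (i + 2)
    have hA1P : A1 ≤ P (i + 2) := sup_le hA0P hKP
    have hRA1 : R ≤ normalizer (A1 : Set Γ) :=
      le_normalizer_sup' hRA0 (IsTower.inv_ker hT hi)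
    have hPA1 : P (i + 2) ≤ normalizer (A1 : Set Γ) := by
      intro g hg
      rw [← SetLike.mem_coe] at hg
      have hK : g ∈ normalizer (ker P (i + 2) : Set Γ) := IsTower.norm_ker hT le_rfl hi hg
      have key : ∀ g ∈ P (i + 2), ∀ y ∈ A1, g * y * g⁻¹ ∈ A1 := by
        intro g hg y hy
        have hle : A1 ≤ zz P N (i + 2) := sup_le hA0z (IsTower.ker_le_zz hT hi)
        have h3 : g * y * g⁻¹ = ⁅y, g⁆⁻¹ * y := by
          rw [commutatorElement_def]; group
        rw [h3]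
        exact A1.mul_mem (A1.inv_mem ((le_sup_right : ker P (i + 2) ≤ A1)
          (h.zz_comm hi (hle hy) hg))) hy
      exact le_norm key hg
    -- `P_*`
    set Ps : Subgroup Γ := P (i + 1) ⊓ cmod A1 (zz P N (i + 1)) with hPs
    have hPsP : Ps ≤ P (i + 1) := inf_le_left
    have hP2s : P (i + 2) ≤ normalizer (Ps : Set Γ) :=
      le_normalizer_inf (h.norm (i + 1) (i + 2) (by omega) hi)
        (cmod_norm hPA1 (h.norm_zz (by omega) hi))
    have hRs : R ≤ normalizer (Ps : Set Γ) :=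
      le_normalizer_inf (h.inv (i + 1) (by omega))
        (cmod_norm hRA1 (h.inv_zz (by omega)))
    have hzs : zz P N (i + 1) ≤ Ps := by
      intro z hz
      refine ⟨zz_le _ hz, h.norm_zz le_rfl (by omega) (zz_le _ hz), fun a ha => ?_⟩
      exact IsTower.ker_le_zz hT (by omega) (h.zz_comm_succ (i := i + 1) hi hz (hA1P ha))
    -- claim 1
    have hcl1 : ⁅A, Y⁆ ≤ A1 := by
      refine SignalizersComponents.PerfectGoingUp.three_subgroups_mod
        (A := P (i + 2)) (B := R) (C := Y) (K := A1) hPA1 hRA1 (hYP2.trans hPA1) ?_ ?_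
      · have h4 : ⁅R, Y⁆ = ⊥ := by
          rw [← le_bot_iff, commutator_le]
          intro a ha y hy
          rw [Subgroup.mem_bot, commutatorElement_eq_one_iff_mul_comm]
          exact (hYR y hy a ha).symm
        rw [h4, commutator_bot_left]
        exact bot_le
      · have h4 : ⁅Y, P (i + 2)⁆ ≤ zz P N (i + 2) := by
          rw [commutator_le]
          intro y hy a ha
          exact (h.phi hi).1 y (hYP2 hy) a ha
        exact (commutator_mono h4 le_rfl).trans le_sup_left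
    -- claim 2
    have hcl2 : ⁅Ps, A1⁆ ≤ ker P (i + 1) := by
      have h4 : ⁅Ps, A1⁆ ≤ zz P N (i + 1) := by
        rw [commutator_le]
        intro u hu a ha
        exact hu.2.2 a ha
      have h5 : ⁅⁅Ps, A1⁆, A1⁆ ≤ ker P (i + 1) := by
        rw [commutator_le]
        intro u hu a ha
        exact h.zz_comm_succ (i := i + 1) hi (h4 hu) (hA1P ha)
      rwa [Lib.CoprimeCommutator.commutator_commutator_eq _ _ (hA1P.trans hP2s)
        (((IsTower.coprime hT (i := i + 1) hi).coprime_dvd_left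
          (Subgroup.card_dvd_of_le hA1P)).coprime_dvd_right
          (Subgroup.card_dvd_of_le hPsP))] at h5
    have hgd := h.gd hi hRi hAP hRA hAR hPsP hzs (hAP.trans hP2s) hRs
    -- a witness in `P_*`
    have hwit : ∃ g ∈ ⁅Ps, A⁆, g ∈ centralizer (R : Set Γ) ∧ ⁅x, g⁆ ∉ zz P N (i + 1) := by
      have hpf : Fact (p (i + 1)).Prime := ⟨h.prime (i + 1) (by omega)⟩
      obtain ⟨M, i1, i2, f, θ, hm⟩ := exists_mod (zz_le (P := P) (N := N) (i + 1))
        (h.phi (i := i + 1) (by omega)).1 (h.phi (i := i + 1) (by omega)).2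
      have hS2 : P (i + 2) ≤ nn (P (i + 1)) (zz P N (i + 1)) := h.le_nn (by omega) hi
      have hSR : R ≤ nn (P (i + 1)) (zz P N (i + 1)) := h.R_le_nn (by omega)
      have him : im θ A1 = im θ A0 := Avg.im_sup_eq hm (hA0P.trans hS2) (hKP.trans hS2)
        fun u hu l hl => IsTower.ker_le_zz hT (by omega) (h.ker_act hu hl)
      obtain ⟨g, hg, hgR, hgx⟩ := hvis
      have hgP : g ∈ P (i + 1) := Lib.CoprimeCommutator.commutator_le_left
        (hAP.trans (h.norm (i + 1) (i + 2) (by omega) hi)) hg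
      have hgbr : f ⟨g, hgP⟩ ∈ brm (im θ A) := Avg.brm_of hm (hAP.trans hS2) hg hgP
      have hfixR : ∀ (l : P (i + 1)), (l : Γ) ∈ centralizer (R : Set Γ) →
          ∀ a ∈ im θ R, a (f l) = f l := by
        rintro l hl _ ⟨a, ha, rfl⟩
        rw [hm.fix_iff, commutatorElement_eq_one_iff_mul_comm.mpr
          (Subgroup.mem_centralizer_iff.mp hl a ha)]
        exact Subgroup.one_mem _
      have hxS : x ∈ nn (P (i + 1)) (zz P N (i + 1)) := hS2 hxP
      obtain ⟨m', hm'1, hm'2, hm'3⟩ := Avg.avg_split (p := p (i + 1)) hm.exp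
        (A := im θ A) (B := im θ A1) (R := im θ R)
        (cop_of_ne (h.prime (i + 1) (by omega)) (h.prime (i + 2) hi) (h.ne (i + 1) hi)
          (im_pgroup ((h.pgroup (i + 2) hi).to_le hA1P)))
        (x := θ ⟨x, hxS⟩) (im_norm hPA1 (mem_im_of (g := ⟨x, hxS⟩) hxP))
        (im_norm (hAP.trans hPA1)) (im_norm hRA1) hgbr (hfixR ⟨g, hgP⟩ hgR)
        (fun h1 => hgx (hm.fix_iff.mp h1)) (by
          intro w hw hwR
          rw [him] at hw
          obtain ⟨l, hl, rfl⟩ := hm.brm_lift hw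
          obtain ⟨c', hc'1, hc'2, hc'3⟩ := hm.lift_fixed hR hRp
            (not_dvd_of hR (h.prime (i + 1) (by omega)) (h.hRp (i + 1) (by omega))
              (h.pgroup (i + 1) (by omega))) hSR
            (Lib.CoprimeCommutator.commutator_le_left
              (hA0P.trans (h.norm (i + 1) (i + 2) (by omega) hi)))
            (le_normalizer_commutator (h.inv (i + 1) (by omega)) hRA0) hl hwR
          rw [← hc'3]
          exact hm.fix_iff.mpr (hcase c' hc'1 hc'2))
      obtain ⟨l, hl, rfl⟩ := Avg.brc_lift hm (Ls := Ps) (hA1P.trans hS2) (by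
        intro l hl hlb
        exact ⟨hl, h.norm_zz le_rfl (by omega) hl, fun b hb => comm_swap (hlb b hb)⟩) hm'1
      obtain ⟨c', hc'1, hc'2, hc'3⟩ := hm.lift_fixed hR hRp
        (not_dvd_of hR (h.prime (i + 1) (by omega)) (h.hRp (i + 1) (by omega))
          (h.pgroup (i + 1) (by omega))) hSR
        ((Lib.CoprimeCommutator.commutator_le_left (hAP.trans hP2s)).trans hPsP)
        (le_normalizer_commutator hRs hRA) hl hm'2
      refine ⟨c', hc'1, hc'2, fun h1 => hm'3 ?_⟩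
      rw [← hc'3]
      exact hm.fix_iff.mpr h1
    obtain ⟨g, hg, hgR, hgx⟩ := hwit
    obtain ⟨d, hd, hdv⟩ := klG hgd hYq (hYP2.trans (h.le_nn (by omega) hi)) hYR
      (hYP2.trans hP2s)
      (fun z hz y hy => h.zz_comm_succ (i := i + 1) hi hz (hYP2 hy))
      (fun a ha y hy u hu => comm_swap (hcl2 (commutator_mem_commutator hu
        (hcl1 (commutator_mem_commutator ha hy)))))
      ⟨⁅g, x⁆, commutator_mem_commutator ⟨hg, hgR⟩ (mem_zpowers x), hwitness g hgx⟩
    have hle : ⁅Ps, A⁆ ≤ P (i + 1) :=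
      (Lib.CoprimeCommutator.commutator_le_left (hAP.trans hP2s)).trans hPsP
    obtain ⟨h1, h2⟩ := hdown (⁅Ps, A⁆ ⊓ centralizer (R : Set Γ)) (inf_le_inf_right _ hle)
    exact ⟨d, ⟨(h2 hd).1, (h2 hd).2, Vis.mono (commutator_mono hPsP le_rfl) hdv⟩, h1 hd⟩

end Cfsg.Agent.H575.TThree
end

-- part: H575/StartA
section
/-!
# The start: invisible elements
-/

set_option autoImplicit false
set_option linter.unusedSectionVars false
set_option linter.unusedVariables false

namespace Cfsg.Agent.H575.TThree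

open Subgroup Cfsg.Agent.H575.Sect Cfsg.Agent.H575.Tower Cfsg.Agent.H575.HA
  Cfsg.Agent.H575.ExtraIrr Cfsg.Agent.H575.MinTower Cfsg.Agent.H575.Mult
  Cfsg.Agent.H575.GLev Cfsg.Agent.H575.Model Cfsg.Agent.H575.BC Cfsg.Agent.H575.FTop
open scoped commutatorElement

universe u

variable {Γ : Type u} [Group Γ] [Finite Γ]
variable {R : Subgroup Γ} {P : ℕ → Subgroup Γ} {p : ℕ → ℕ} {N : ℕ}

/-- last step: a visible element of level `1` gives a nontrivial element -/
theorem MT.base (h : MT R P p N) {X : Subgroup Γ} (hX : ∀ i < N, P i ≤ X)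
    {c : ℕ → Subgroup Γ} {n : ℕ} (hc : CC (X ⊓ centralizer (R : Set Γ)) c n)
    (hN : 1 < N) {j : ℕ} {x : Γ} (hx : VV R P N 0 x) (hxc : x ∈ c j) : j + 1 < n := by
  obtain ⟨hxP, hxR, g, hg, hgR, hgx⟩ := hx
  by_contra hjn
  have hYP : zpowers x ≤ P 1 := zpowers_le.mpr hxP
  have hYR : zpowers x ≤ centralizer (R : Set Γ) := zpowers_le.mpr hxR
  have hgP : g ∈ P 0 := by
    refine Lib.CoprimeCommutator.commutator_le_left ?_ hg
    exact (Lib.CoprimeCommutator.commutator_le_left (h.inv 1 hN)).trans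
      (h.norm 0 1 (by omega) hN)
  have h1 := hc.step (h.prime 0 (by omega)) (h.prime 1 hN) (h.ne 0 hN)
    ((h.pgroup 0 (by omega)).to_le inf_le_left)
    (D := P 0 ⊓ centralizer (R : Set Γ))
    (le_inf (inf_le_left.trans (hX 0 (by omega))) inf_le_right)
    ((h.pgroup 1 hN).to_le hYP) (zpowers_le.mpr hxc)
    (le_normalizer_inf (hYP.trans (h.norm 0 1 (by omega) hN))
      (hYR.trans Subgroup.le_normalizer))
  rw [hc.bot (j + 1) (by omega), le_bot_iff] at h1
  have h2 : ⁅g, x⁆ ∈ ⁅P 0 ⊓ centralizer (R : Set Γ), zpowers x⁆ :=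
    commutator_mem_commutator ⟨hgP, hgR⟩ (mem_zpowers x)
  rw [h1] at h2
  apply hgx
  have h3 := comm_swap h2
  rw [Subgroup.mem_bot] at h3
  rw [h3]
  exact Subgroup.one_mem _

theorem MT.descend (h : MT R P p N) {X : Subgroup Γ} (hX : ∀ i < N, P i ≤ X)
    {c : ℕ → Subgroup Γ} {n : ℕ} (hc : CC (X ⊓ centralizer (R : Set Γ)) c n)
    {κ : ℕ} (hκ : κ < N) (hRn : ∀ i ≤ κ, ¬ ⁅P i, R⁆ ≤ zz P N i) :
    ∀ i j x, i + 2 ≤ κ → VV R P N i x → x ∈ c j → i + j + 1 < n := by
  intro i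
  induction i with
  | zero =>
    intro j x hi hx hxc
    have := h.base hX hc (by omega) hx hxc
    omega
  | succ i ih =>
    intro j x hi hx hxc
    obtain ⟨x', hx', hx'c⟩ := h.step hX hc (by omega) (hRn i (by omega)) hx hxc
    have := ih (j + 1) x' (by omega) hx' hx'c
    omega

/-- the invisible elements -/
def KE (R : Subgroup Γ) (P : ℕ → Subgroup Γ) (N k : ℕ) : Subgroup Γ :=
  (P (k + 1) ⊓ centralizer (R : Set Γ)) ⊓
    cmod (⁅P k, ⁅P (k + 1), R⁆⁆ ⊓ centralizer (R : Set Γ)) (zz P N k)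

theorem MT.not_vis (h : MT R P p N) {k : ℕ} (hk : k + 1 < N) {x : Γ}
    (hx : x ∈ P (k + 1)) (hxR : x ∈ centralizer (R : Set Γ)) :
    x ∈ KE R P N k ↔ ¬ Vis (P k) (zz P N k) ⁅P (k + 1), R⁆ R x := by
  constructor
  · rintro hxK ⟨g, hg, hgR, hgx⟩
    exact hgx (hxK.2.2 g ⟨hg, hgR⟩)
  · intro hv
    refine ⟨⟨hx, hxR⟩, h.norm_zz (Nat.le_succ k) hk hx, fun g hg => ?_⟩
    by_contra hne
    exact hv ⟨g, hg.1, hg.2, hne⟩

theorem MT.norm_KE (h : MT R P p N) {k j : ℕ} (hj : k + 1 ≤ j) (hjN : j < N)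
    {H : Subgroup Γ} (hH : H ≤ P j) (hHR : H ≤ centralizer (R : Set Γ)) :
    H ≤ normalizer (KE R P N k : Set Γ) := by
  have h1 : H ≤ normalizer (centralizer (R : Set Γ) : Set Γ) := hHR.trans Subgroup.le_normalizer
  have h2 : H ≤ normalizer (R : Set Γ) :=
    hHR.trans (Subgroup.centralizer_le_normalizer (R : Set Γ))
  have h3 : H ≤ normalizer (P k : Set Γ) := hH.trans (h.norm k j (by omega) hjN)
  have h4 : H ≤ normalizer (P (k + 1) : Set Γ) := hH.trans (h.norm (k + 1) j hj hjN)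
  refine le_normalizer_inf (le_normalizer_inf h4 h1) (cmod_norm (le_normalizer_inf
    (le_normalizer_commutator h3 (le_normalizer_commutator h4 h2)) h1)
    (hH.trans (h.norm_zz (by omega) hjN)))

/-- the fixed points of `R` in `P (k + 1) / zz` and the fixed points of the other groups -/
theorem MT.exists_cent_zz (h : MT R P p N) {k : ℕ} (hk : k + 2 < N)
    (hcen : ∀ a ∈ P (k + 2), ∀ b ∈ P (k + 2), ⁅a, b⁆ ∈ ker P (k + 2))
    (hcomm : ⁅P (k + 2), R⁆ = P (k + 2)) :
    ∃ d ∈ P (k + 1), d ∈ centralizer (R : Set Γ) ∧ d ∉ zz P N (k + 1) := by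
  have hT := h.toIsTower
  have hR := h.hR
  have hRp : IsPGroup (Nat.card R) R := isPGroup_of_card h.hR rfl
  have hpf : Fact (p (k + 1)).Prime := ⟨h.prime (k + 1) (by omega)⟩
  obtain ⟨M, i1, i2, f, θ, hm⟩ := exists_mod (zz_le (P := P) (N := N) (k + 1))
    (h.phi (i := k + 1) (by omega)).1 (h.phi (i := k + 1) (by omega)).2
  have hS2 : P (k + 2) ≤ nn (P (k + 1)) (zz P N (k + 1)) := h.le_nn (by omega) hk
  have hSR : R ≤ nn (P (k + 1)) (zz P N (k + 1)) := h.R_le_nn (by omega)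
  have hne : ∃ a ∈ im θ (P (k + 2)), a ≠ 1 := by
    by_contra hcon
    push Not at hcon
    refine h.nontriv (k + 2) hk fun x hx => h.mem_ker_of hk hx fun y hy => ?_
    exact hm.eq_one_iff.mp (hcon _ (mem_im_of (g := ⟨x, hS2 hx⟩) hx)) y hy
  have hcardR : Nat.card (im θ R) = Nat.card R := by
    refine card_im_R hm hR rfl hSR ?_
    by_contra hcon
    push Not at hcon
    obtain ⟨a, ha, ha1⟩ := hne
    apply ha1
    have h1 : im θ R = ⊥ := by
      rw [eq_bot_iff]
      rintro _ ⟨b, hb, rfl⟩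
      rw [Subgroup.mem_bot, hm.eq_one_iff]
      exact fun l hl => hcon b hb l hl
    have h2 : ⁅im θ (P (k + 2)), im θ R⁆ = im θ (P (k + 2)) := by
      rw [← im_comm hS2 hSR, hcomm]
    rw [h1, commutator_bot_right] at h2
    rw [← h2, Subgroup.mem_bot] at ha
    exact ha
  obtain ⟨m, hm1, hmR⟩ := MLev.fix0_M hm.exp (A := im θ (P (k + 2))) (R := im θ R)
    (im_norm (h.inv (k + 2) hk)) (by rw [← im_comm hS2 hSR, hcomm]) hcardR hR
    (h.hRp (k + 1) (by omega)) (by
      rintro _ ⟨a, ha, rfl⟩ _ ⟨b, hb, rfl⟩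
      rw [hm.mul_comm_iff]
      exact fun l hl => IsTower.ker_le_zz hT (by omega) (h.ker_act (hcen a ha b hb) hl))
    (cop_of_ne (h.prime (k + 1) (by omega)) (h.prime (k + 2) hk) (h.ne (k + 1) hk)
      (im_pgroup (h.pgroup (k + 2) hk))) hne
  obtain ⟨l, rfl⟩ := hm.surj m
  obtain ⟨c, hc1, hc2, hc3⟩ := hm.lift_fixed hR hRp
    (not_dvd_of hR (h.prime (k + 1) (by omega)) (h.hRp (k + 1) (by omega))
      (h.pgroup (k + 1) (by omega))) hSR (N := P (k + 1)) le_rfl (h.inv (k + 1) (by omega))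
    l.2 hmR
  refine ⟨c, hc1, hc2, fun h1 => hm1 ?_⟩
  rw [← hc3]
  exact (hm.ker c).mpr h1

end Cfsg.Agent.H575.TThree
end

-- part: H575/StartB
section
/-!
# The start: the cases
-/

set_option autoImplicit false
set_option linter.unusedSectionVars false
set_option linter.unusedVariables false

namespace Cfsg.Agent.H575.TThree

open Subgroup Cfsg.Agent.H575.Sect Cfsg.Agent.H575.Tower Cfsg.Agent.H575.HA
  Cfsg.Agent.H575.ExtraIrr Cfsg.Agent.H575.MinTower Cfsg.Agent.H575.Mult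
  Cfsg.Agent.H575.GLev Cfsg.Agent.H575.Model Cfsg.Agent.H575.BC Cfsg.Agent.H575.FTop
open scoped commutatorElement

universe u

variable {Γ : Type u} [Group Γ] [Finite Γ]
variable {R : Subgroup Γ} {P : ℕ → Subgroup Γ} {p : ℕ → ℕ} {N : ℕ}

/-- the data at the start -/
theorem MT.gd_start (h : MT R P p N) {k : ℕ} (hk : k + 2 < N)
    (hcomm : ⁅P (k + 2), R⁆ = P (k + 2)) (hRk : ¬ ⁅P k, R⁆ ≤ zz P N k) :
    GD (P k) (zz P N k) (P (k + 1)) (zz P N (k + 1)) (ker P (k + 1)) (P (k + 2)) R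
      (Nat.card R) (p (k + 1)) (p (k + 2)) (p k) :=
  h.gd hk hRk le_rfl (h.inv (k + 2) hk) hcomm le_rfl (zz_le _)
    (h.norm (k + 1) (k + 2) (by omega) hk) (h.inv (k + 1) (by omega))

/-- the case where `κ` is the top of the tower -/
theorem MT.start_top (h : MT R P p N) {k : ℕ} (hk : k + 3 = N)
    (hcomm : ⁅P (k + 2), R⁆ = P (k + 2)) (hRk : ¬ ⁅P k, R⁆ ≤ zz P N k) :
    ∃ x, VV R P N k x := by
  have hk' : k + 2 < N := by omega
  have hgd := h.gd_start hk' hcomm hRk
  obtain ⟨d, hd, hdR, hdz⟩ := h.exists_cent_zz hk' (by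
    intro a ha b hb
    have h1 := (h.phi hk').1 a ha b hb
    rwa [zz_of_not (by omega : ¬ k + 2 + 1 < N)] at h1) hcomm
  obtain ⟨x, hx, hxv⟩ := kl0G hgd (h.comm_eq (i := k + 1) hk') ⟨d, ⟨hd, hdR⟩, fun h1 =>
    hdz (IsTower.ker_le_zz h.toIsTower (by omega) h1)⟩
  exact ⟨x, hx.1, hx.2, hxv⟩

theorem comm_inf_le {D T K C : Subgroup Γ} (h : ∀ d ∈ D, ∀ t ∈ T, ⁅d, t⁆ ∈ K) : ⁅D, T⁆ ≤ K := by
  rw [commutator_le]
  exact h

/-- fixed points of `R` in `P (k + 1)` -/
def DD (R : Subgroup Γ) (P : ℕ → Subgroup Γ) (k : ℕ) : Subgroup Γ :=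
  P (k + 1) ⊓ centralizer (R : Set Γ)

theorem MT.norm_DD (h : MT R P p N) {k j : ℕ} (hj : k + 1 ≤ j) (hjN : j < N)
    {H : Subgroup Γ} (hH : H ≤ P j) (hHR : H ≤ centralizer (R : Set Γ)) :
    H ≤ normalizer (DD R P k : Set Γ) :=
  le_normalizer_inf (hH.trans (h.norm (k + 1) j hj hjN)) (hHR.trans Subgroup.le_normalizer)

/-- an element outside `KE` is visible -/
theorem MT.vv_of (h : MT R P p N) {k : ℕ} (hk : k + 1 < N) {x : Γ} (hx : x ∈ DD R P k)
    (hxK : x ∉ KE R P N k) : VV R P N k x := by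
  refine ⟨hx.1, hx.2, ?_⟩
  by_contra hv
  exact hxK ((h.not_vis hk hx.1 hx.2).mpr hv)

theorem MT.vv_not (h : MT R P p N) {k : ℕ} (hk : k + 1 < N) {x : Γ} (hx : VV R P N k x) :
    x ∉ KE R P N k := fun hK => (h.not_vis hk hx.1 hx.2.1).mp hK hx.2.2

theorem exists_of_not_le {A B : Subgroup Γ} (h : ¬ A ≤ B) : ∃ x ∈ A, x ∉ B := by
  by_contra hcon
  push Not at hcon
  exact h hcon

/-- `[D, H]` goes down in the chain -/
theorem MT.down (h : MT R P p N) {X : Subgroup Γ} (hX : ∀ i < N, P i ≤ X)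
    {c : ℕ → Subgroup Γ} {n : ℕ} (hc : CC (X ⊓ centralizer (R : Set Γ)) c n)
    {k j : ℕ} (hj : k + 1 ≤ j) (hjN : j < N) (hpj : p (k + 1) ≠ p j)
    {H : Subgroup Γ} (hH : H ≤ P j) (hHR : H ≤ centralizer (R : Set Γ)) {d : ℕ}
    (hHc : H ≤ c d) : ⁅DD R P k, H⁆ ≤ c (d + 1) :=
  hc.step (h.prime (k + 1) (by omega)) (h.prime j hjN) hpj
    ((h.pgroup (k + 1) (by omega)).to_le inf_le_left)
    (le_inf (inf_le_left.trans (hX (k + 1) (by omega))) inf_le_right)
    ((h.pgroup j hjN).to_le hH) hHc (h.norm_DD hj hjN hH hHR)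

/-- Case I -/
theorem MT.start_I (h : MT R P p N) {X : Subgroup Γ} (hX : ∀ i < N, P i ≤ X)
    {c : ℕ → Subgroup Γ} {n : ℕ} (hc : CC (X ⊓ centralizer (R : Set Γ)) c n)
    {k : ℕ} (hk : k + 3 < N)
    (hcR : ∀ j, k + 2 < j → j < N → P j ≤ centralizer (R : Set Γ))
    (hI : ¬ ⁅DD R P k, P (k + 3)⁆ ≤ KE R P N k) :
    ∃ x, VV R P N k x ∧ x ∈ c (N - (k + 4)) := by
  have hT3 := hcR (k + 3) (by omega) hk
  have hT3c := h.le_chain hX hc (m := k + 3) (fun j hj hjN => hcR j (by omega) hjN)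
    (N - (k + 4)) (k + 3) le_rfl hk (by omega)
  have hND := h.norm_DD (k := k) (j := k + 3) (by omega) hk le_rfl hT3
  by_cases hp : p (k + 1) = p (k + 3)
  · by_cases hd : k + 4 < N
    · -- use the group above
      have hT4 := hcR (k + 4) (by omega) hd
      have hT4c := h.le_chain hX hc (m := k + 3) (fun j hj hjN => hcR j (by omega) hjN)
        (N - (k + 5)) (k + 4) (by omega) hd (by omega)
      have hp4 : p (k + 1) ≠ p (k + 4) := by
        rw [hp]
        exact h.ne (k + 3) hd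
      have hN4 := h.norm_DD (k := k) (j := k + 4) (by omega) hd le_rfl hT4
      have hnot : ¬ ⁅DD R P k, P (k + 4)⁆ ≤ KE R P N k := by
        intro hle
        apply hI
        have hK4 := h.norm_KE (k := k) (j := k + 4) (by omega) hd le_rfl hT4
        have hK3 := h.norm_KE (k := k) (j := k + 3) (by omega) hk le_rfl hT3
        have hKD := h.norm_KE (k := k) (j := k + 1) (H := DD R P k) le_rfl (by omega)
          inf_le_left inf_le_right
        have h3 := SignalizersComponents.PerfectGoingUp.three_subgroups_mod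
          (A := P (k + 3)) (B := P (k + 4)) (C := DD R P k) (K := KE R P N k) hK3 hK4 hKD (by
            rw [commutator_comm (P (k + 4))]
            exact (commutator_mono hle le_rfl).trans
              (Lib.CoprimeCommutator.commutator_le_left hK3)) (by
            exact (commutator_mono (Lib.CoprimeCommutator.commutator_le_left hND)
              le_rfl).trans hle)
        rw [h.comm_eq hd, commutator_comm] at h3
        exact h3
      obtain ⟨x, hx, hxK⟩ := exists_of_not_le hnot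
      refine ⟨x, h.vv_of (by omega) (Lib.CoprimeCommutator.commutator_le_left hN4 hx) hxK, ?_⟩
      have h1 := h.down hX hc (k := k) (j := k + 4) (by omega) hd hp4 le_rfl hT4 hT4c hx
      rwa [show N - (k + 5) + 1 = N - (k + 4) by omega] at h1
    · obtain ⟨x, hx, hxK⟩ := exists_of_not_le hI
      have hxD := Lib.CoprimeCommutator.commutator_le_left hND hx
      refine ⟨x, h.vv_of (by omega) hxD hxK, ?_⟩
      rw [show N - (k + 4) = 0 by omega, hc.zero]
      exact ⟨hX (k + 1) (by omega) hxD.1, hxD.2⟩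
  · obtain ⟨x, hx, hxK⟩ := exists_of_not_le hI
    refine ⟨x, h.vv_of (by omega) (Lib.CoprimeCommutator.commutator_le_left hND hx) hxK, ?_⟩
    exact hc.anti _ (h.down hX hc (k := k) (j := k + 3) (by omega) hk hp le_rfl hT3 hT3c hx)

/-- the situation for the model of `P (k + 1) / zz` -/
theorem MT.td (h : MT R P p N) {k : ℕ} (hk : k + 3 < N)
    (hcR : ∀ j, k + 2 < j → j < N → P j ≤ centralizer (R : Set Γ))
    (hcomm : ⁅P (k + 2), R⁆ = P (k + 2)) (hRk : ¬ ⁅P (k + 1), R⁆ ≤ zz P N (k + 1))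
    {M : Type u} [CommGroup M] [Finite M] {f : P (k + 1) →* M}
    {θ : nn (P (k + 1)) (zz P N (k + 1)) →* MulAut M}
    (hm : Mod (P (k + 1)) (zz P N (k + 1)) (p (k + 1)) f θ) :
    TD (im θ (P (k + 2))) (im θ (zz P N (k + 2))) (im θ (P (k + 3))) (im θ R)
      (Nat.card R) (p (k + 2)) := by
  have hT := h.toIsTower
  have hS2 : P (k + 2) ≤ nn (P (k + 1)) (zz P N (k + 1)) := h.le_nn (by omega) (by omega)
  have hS3 : P (k + 3) ≤ nn (P (k + 1)) (zz P N (k + 1)) := h.le_nn (by omega) (by omega)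
  have hSR : R ≤ nn (P (k + 1)) (zz P N (k + 1)) := h.R_le_nn (by omega)
  have hcom : ∀ g l : nn (P (k + 1)) (zz P N (k + 1)), ⁅(g : Γ), (l : Γ)⁆ ∈ ker P (k + 2) →
      θ g * θ l = θ l * θ g := by
    intro g l hgl
    rw [hm.mul_comm_iff]
    exact fun u hu => IsTower.ker_le_zz hT (by omega) (h.ker_act hgl hu)
  refine
    { hr := h.hR
      hs := h.prime (k + 2) (by omega)
      hrs := h.hRp (k + 2) (by omega)
      hR := card_im_R hm h.hR rfl hSR (h.exists_R hRk)
      hQ := im_pgroup (h.pgroup (k + 2) (by omega))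
      hZQ := im_mono (zz_le _)
      hQQ := ?_
      hQs := ?_
      hZ := ?_
      hRQ := im_norm (h.inv (k + 2) (by omega))
      hRZ := im_norm (h.inv_zz (by omega))
      hcomm := by rw [← im_comm hS2 hSR, hcomm]
      hTQ := im_norm (h.norm (k + 2) (k + 3) (by omega) hk)
      hTR := ?_
      hTr := cop_of_ne h.hR (h.prime (k + 3) hk) (h.hRp (k + 3) hk)
        (im_pgroup (h.pgroup (k + 3) hk))
      hTs := cop_of_ne (h.prime (k + 2) (by omega)) (h.prime (k + 3) hk) (h.ne (k + 2) hk)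
        (im_pgroup (h.pgroup (k + 3) hk))
      hZT := ?_
      hQT := by rw [← im_comm hS2 hS3, h.comm_eq hk] }
  · rintro _ ⟨x, hx, rfl⟩ _ ⟨y, hy, rfl⟩
    rw [← map_commutatorElement]
    exact mem_im_of ((h.phi (i := k + 2) (by omega)).1 _ hx _ hy)
  · rintro _ ⟨x, hx, rfl⟩
    rw [← map_pow]
    exact mem_im_of ((h.phi (i := k + 2) (by omega)).2 _ hx)
  · rintro _ ⟨z, hz, rfl⟩ _ ⟨x, hx, rfl⟩
    exact hcom _ _ (h.zz_comm (by omega) hz hx)
  · rintro _ ⟨t, ht, rfl⟩ _ ⟨a, ha, rfl⟩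
    rw [← map_mul, ← map_mul]
    congr 1
    exact Subtype.ext (Subgroup.mem_centralizer_iff.mp (hcR (k + 3) (by omega) hk ht) a ha).symm
  · rintro _ ⟨z, hz, rfl⟩ _ ⟨x, hx, rfl⟩
    exact hcom _ _ (h.zz_comm_succ (i := k + 2) hk hz hx)

end Cfsg.Agent.H575.TThree
end

-- part: H575/StartC
section
/-!
# The start: `T` trivial on the fixed points of `R` in `P (k + 1) / zz`
-/

set_option autoImplicit false
set_option linter.unusedSectionVars false
set_option linter.unusedVariables false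

namespace Cfsg.Agent.H575.TThree

open Subgroup Cfsg.Agent.H575.Sect Cfsg.Agent.H575.Tower Cfsg.Agent.H575.HA
  Cfsg.Agent.H575.ExtraIrr Cfsg.Agent.H575.MinTower Cfsg.Agent.H575.Mult
  Cfsg.Agent.H575.GLev Cfsg.Agent.H575.Model Cfsg.Agent.H575.BC Cfsg.Agent.H575.FTop
open scoped commutatorElement

universe u

variable {Γ : Type u} [Group Γ] [Finite Γ]
variable {R : Subgroup Γ} {P : ℕ → Subgroup Γ} {p : ℕ → ℕ} {N : ℕ}

/-- Case II -/
theorem MT.start_II (h : MT R P p N) {X : Subgroup Γ} (hX : ∀ i < N, P i ≤ X)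
    {c : ℕ → Subgroup Γ} {n : ℕ} (hc : CC (X ⊓ centralizer (R : Set Γ)) c n)
    {k : ℕ} (hk : k + 3 < N)
    (hcR : ∀ j, k + 2 < j → j < N → P j ≤ centralizer (R : Set Γ))
    (hcomm : ⁅P (k + 2), R⁆ = P (k + 2)) (hRn : ∀ i ≤ k + 2, ¬ ⁅P i, R⁆ ≤ zz P N i)
    (hII : ⁅DD R P k, P (k + 3)⁆ ≤ zz P N (k + 1)) :
    ∃ x, VV R P N k x ∧ x ∈ c (N - (k + 4)) := by
  have hT := h.toIsTower
  have hR := h.hR
  have hRp : IsPGroup (Nat.card R) R := isPGroup_of_card h.hR rfl
  have hpf : Fact (p (k + 1)).Prime := ⟨h.prime (k + 1) (by omega)⟩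
  obtain ⟨M, i1, i2, f, θ, hm⟩ := exists_mod (zz_le (P := P) (N := N) (k + 1))
    (h.phi (i := k + 1) (by omega)).1 (h.phi (i := k + 1) (by omega)).2
  have hS1 : P (k + 1) ≤ nn (P (k + 1)) (zz P N (k + 1)) := h.le_nn (by omega) (by omega)
  have hS2 : P (k + 2) ≤ nn (P (k + 1)) (zz P N (k + 1)) := h.le_nn (by omega) (by omega)
  have hS3 : P (k + 3) ≤ nn (P (k + 1)) (zz P N (k + 1)) := h.le_nn (by omega) (by omega)
  have hSR : R ≤ nn (P (k + 1)) (zz P N (k + 1)) := h.R_le_nn (by omega)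
  have htd := h.td hk hcR hcomm (hRn (k + 1) (by omega)) hm
  have hgd := h.gd_start (k := k) (by omega) hcomm (hRn k (by omega))
  have hrP1 := not_dvd_of hR (h.prime (k + 1) (by omega)) (h.hRp (k + 1) (by omega))
    (h.pgroup (k + 1) (by omega))
  -- lifting fixed points
  have hlift : ∀ m : M, (∀ a ∈ im θ R, a m = m) →
      ∃ l : P (k + 1), (l : Γ) ∈ DD R P k ∧ f l = m := by
    intro m hmR
    obtain ⟨l, rfl⟩ := hm.surj m
    obtain ⟨l', h1, h2, h3⟩ := hm.lift_fixed hR hRp hrP1 hSR (N := P (k + 1)) le_rfl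
      (h.inv (k + 1) (by omega)) l.2 hmR
    exact ⟨l', ⟨h1, h2⟩, h3⟩
  have hTm : ∀ m : M, (∀ a ∈ im θ R, a m = m) → ∀ t ∈ im θ (P (k + 3)), t m = m := by
    rintro m hmR _ ⟨t, ht, rfl⟩
    obtain ⟨l, hl, rfl⟩ := hlift m hmR
    rw [hm.fix_iff]
    exact comm_swap (hII (commutator_mem_commutator hl ht))
  have hQ0 : ∀ m : M, (∀ x ∈ im θ (P (k + 2)), x m = m) → m = 1 := by
    intro m hmQ
    obtain ⟨l, rfl⟩ := hm.surj m
    have hcop : (Nat.card (P (k + 2))).Coprime (Nat.card (P (k + 1))) :=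
      IsTower.coprime hT (i := k + 1) (by omega)
    have hcg := cent_le_gen (R := P (k + 2)) (F := P (k + 1)) (N := zz P N (k + 1)) hcop
      (by rw [commutator_le]; exact (h.phi (i := k + 1) (by omega)).1)
      (h.norm (k + 1) (k + 2) (by omega) (by omega)) (h.comm_eq (i := k + 1) (by omega))
    obtain ⟨l', h1, h2, h3⟩ := hm.lift_fixed (h.prime (k + 2) (by omega))
      (h.pgroup (k + 2) (by omega))
      (not_dvd_of (h.prime (k + 2) (by omega)) (h.prime (k + 1) (by omega))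
        (h.ne (k + 1) (by omega)).symm (h.pgroup (k + 1) (by omega))) hS2 (N := P (k + 1))
      le_rfl (h.norm (k + 1) (k + 2) (by omega) (by omega)) l.2 hmQ
    rw [← h3]
    exact (hm.ker l').mpr (hcg ⟨h1, h2⟩)
  have hnt : Nontrivial M := by
    by_contra hcon
    rw [not_nontrivial_iff_subsingleton] at hcon
    exact h.not_le_zz (i := k + 1) (by omega) fun x hx =>
      (hm.ker ⟨x, hx⟩).mp (Subsingleton.elim _ _)
  have hsp : p (k + 2) ≠ p (k + 1) := (h.ne (k + 1) (by omega)).symm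
  have hrp : Nat.card R ≠ p (k + 1) := h.hRp (k + 1) (by omega)
  -- (Z1)
  have hZ1 : ∃ z ∈ P (k + 2), z ∈ centralizer (R : Set Γ) ∧ z ∉ ker P (k + 2) := by
    obtain ⟨_, ⟨z, hz, rfl⟩, hzR, hz1⟩ := MLev.top_z_M hm.exp htd hsp hrp hTm hQ0
    obtain ⟨z', h1, h2, h3⟩ := hm.lift_cent hR hRp hSR (N := zz P N (k + 2))
      ((zz_le _).trans hS2) (cop_of_ne hR (h.prime (k + 2) (by omega)) (h.hRp (k + 2) (by omega))
        ((h.pgroup (k + 2) (by omega)).to_le (zz_le _))) (h.inv_zz (by omega)) hz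
      (fun a ha => Subgroup.mem_centralizer_iff.mp hzR a ha)
    refine ⟨z', zz_le _ h1, h2, fun h4 => hz1 ?_⟩
    rw [← h3, hm.eq_one_iff]
    exact fun l hl => IsTower.ker_le_zz hT (by omega) (h.ker_act h4 hl)
  -- (Z2)
  have hZ2 : ∀ z ∈ P (k + 2), z ∈ centralizer (R : Set Γ) → z ∉ ker P (k + 2) →
      ∃ d ∈ ⁅DD R P k, zpowers z⁆, VV R P N k d := by
    intro z hz hzR hzK
    have hzz : z ∈ zz P N (k + 2) := h.cent_kappa (by omega) hcomm ⟨hz, hzR⟩
    have hz1 : θ ⟨z, hS2 hz⟩ ≠ 1 := by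
      intro h1
      exact hzK (h.mem_ker_of (i := k + 1) (by omega) hz (hm.eq_one_iff.mp h1))
    obtain ⟨m, hmR, hzm⟩ := MLev.top_vec_M hm.exp htd hsp hrp hTm hQ0
      (mem_im_of (g := ⟨z, hS2 hz⟩) hzz) hz1
    obtain ⟨l, hl, rfl⟩ := hlift m hmR
    rw [Ne, hm.fix_iff] at hzm
    have hYP : zpowers z ≤ P (k + 2) := zpowers_le.mpr hz
    have hYR : zpowers z ≤ centralizer (R : Set Γ) := zpowers_le.mpr hzR
    have hYz : zpowers z ≤ zz P N (k + 2) := zpowers_le.mpr hzz
    have hPA := h.comm_eq (i := k + 1) (by omega)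
    have hDN := h.norm_DD (k := k) (j := k + 2) (by omega) (by omega) hYP hYR
    obtain ⟨d, hd, hdv⟩ := klG hgd ((h.pgroup (k + 2) (by omega)).to_le hYP)
      (hYP.trans (h.le_nn (by omega) (by omega)))
      (fun y hy a ha => (Subgroup.mem_centralizer_iff.mp (hYR hy) a ha).symm)
      (hYP.trans (h.norm (k + 1) (k + 2) (by omega) (by omega)))
      (fun u hu y hy => h.zz_comm_succ (i := k + 1) (by omega) hu (hYP hy))
      (fun a ha y hy u hu => h.ker_act (comm_swap (h.zz_comm (by omega) (hYz hy) ha)) hu)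
      (by
        rw [hPA]
        refine ⟨⁅(l : Γ), z⁆, commutator_mem_commutator hl (mem_zpowers z), fun h1 => hzm ?_⟩
        exact comm_swap (IsTower.ker_le_zz hT (by omega) h1))
    rw [hPA] at hd
    have hdD : d ∈ DD R P k := Lib.CoprimeCommutator.commutator_le_left hDN hd
    exact ⟨d, hd, hdD.1, hdD.2, hdv⟩
  by_cases hd : k + 4 < N
  · have hT3 := hcR (k + 3) (by omega) hk
    have hT4 := hcR (k + 4) (by omega) hd
    have hT4c := h.le_chain hX hc (m := k + 3) (fun j hj hjN => hcR j (by omega) hjN)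
      (N - (k + 5)) (k + 4) (by omega) hd (by omega)
    set DQ : Subgroup Γ := P (k + 2) ⊓ centralizer (R : Set Γ) with hDQ
    have hN4Q : P (k + 4) ≤ normalizer (DQ : Set Γ) :=
      le_normalizer_inf (h.norm (k + 2) (k + 4) (by omega) hd) (hT4.trans Subgroup.le_normalizer)
    have hS4 : P (k + 4) ≤ nn (P (k + 1)) (zz P N (k + 1)) := h.le_nn (by omega) (by omega)
    -- (Z3)
    have hZ3 : ∃ z ∈ ⁅DQ, P (k + 4)⁆, z ∉ ker P (k + 2) := by
      by_contra hcon
      push Not at hcon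
      refine MLev.top_F_M hm.exp htd hsp hrp hTm hQ0 (F := im θ (P (k + 4)))
        (im_norm (h.norm (k + 2) (k + 4) (by omega) hd))
        (im_norm (h.norm_zz (by omega) hd)) ?_ (by rw [← im_comm hS3 hS4, h.comm_eq hd])
        (im_norm (h.norm (k + 3) (k + 4) (by omega) hd)) ?_
      · rintro _ ⟨t, ht, rfl⟩ _ ⟨a, ha, rfl⟩
        rw [← map_mul, ← map_mul]
        congr 1
        exact Subtype.ext (Subgroup.mem_centralizer_iff.mp (hT4 ht) a ha).symm
      · rintro _ ⟨z, hz, rfl⟩ hzR _ ⟨t, ht, rfl⟩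
        obtain ⟨z', h1, h2, h3⟩ := hm.lift_cent hR hRp hSR (N := zz P N (k + 2))
          ((zz_le _).trans hS2) (cop_of_ne hR (h.prime (k + 2) (by omega))
            (h.hRp (k + 2) (by omega))
            ((h.pgroup (k + 2) (by omega)).to_le (zz_le _))) (h.inv_zz (by omega)) hz
          (fun a ha => Subgroup.mem_centralizer_iff.mp hzR a ha)
        rw [← h3]
        symm
        rw [hm.mul_comm_iff]
        intro l hl
        exact IsTower.ker_le_zz hT (by omega) (h.ker_act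
          (hcon _ (commutator_mem_commutator ⟨zz_le _ h1, h2⟩ ht)) hl)
    obtain ⟨z, hz, hzK⟩ := hZ3
    have hzDQ : z ∈ DQ := Lib.CoprimeCommutator.commutator_le_left hN4Q hz
    obtain ⟨x, hx, hxv⟩ := hZ2 z hzDQ.1 hzDQ.2 hzK
    by_cases hp4 : p (k + 2) = p (k + 4)
    · have hp14 : p (k + 1) ≠ p (k + 4) := by
        rw [← hp4]
        exact h.ne (k + 1) (by omega)
      have hN4 := h.norm_DD (k := k) (j := k + 4) (by omega) hd le_rfl hT4
      have hnot : ¬ ⁅DD R P k, P (k + 4)⁆ ≤ KE R P N k := by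
        intro hle
        have hK4 := h.norm_KE (k := k) (j := k + 4) (by omega) hd le_rfl hT4
        have hKQ := h.norm_KE (k := k) (j := k + 2) (H := DQ) (by omega) (by omega)
          inf_le_left inf_le_right
        have hNQ := h.norm_DD (k := k) (j := k + 2) (H := DQ) (by omega) (by omega)
          inf_le_left inf_le_right
        have hKD := h.norm_KE (k := k) (j := k + 1) (H := DD R P k) le_rfl (by omega)
          inf_le_left inf_le_right
        have h3 := SignalizersComponents.PerfectGoingUp.three_subgroups_mod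
          (A := DQ) (B := P (k + 4)) (C := DD R P k) (K := KE R P N k) hKQ hK4 hKD (by
            rw [commutator_comm (P (k + 4))]
            exact (commutator_mono hle le_rfl).trans
              (Lib.CoprimeCommutator.commutator_le_left hKQ)) (by
            exact (commutator_mono (Lib.CoprimeCommutator.commutator_le_left hNQ)
              le_rfl).trans hle)
        rw [commutator_comm] at h3
        exact h.vv_not (by omega) hxv
          (h3 (commutator_mono le_rfl (zpowers_le.mpr hz) hx))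
      obtain ⟨x', hx', hxK⟩ := exists_of_not_le hnot
      refine ⟨x', h.vv_of (by omega) (Lib.CoprimeCommutator.commutator_le_left hN4 hx') hxK, ?_⟩
      have h1 := h.down hX hc (k := k) (j := k + 4) (by omega) hd hp14 le_rfl hT4 hT4c hx'
      rwa [show N - (k + 5) + 1 = N - (k + 4) by omega] at h1
    · have hzc : z ∈ c (N - (k + 4)) := by
        have h1 := hc.step (h.prime (k + 2) (by omega)) (h.prime (k + 4) hd) hp4
          ((h.pgroup (k + 2) (by omega)).to_le inf_le_left) (D := DQ)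
          (le_inf (inf_le_left.trans (hX (k + 2) (by omega))) inf_le_right)
          (h.pgroup (k + 4) hd) hT4c hN4Q hz
        rwa [show N - (k + 5) + 1 = N - (k + 4) by omega] at h1
      refine ⟨x, hxv, hc.anti _ ?_⟩
      exact h.down hX hc (k := k) (j := k + 2) (by omega) (by omega)
        (h.ne (k + 1) (by omega)) (zpowers_le.mpr hzDQ.1) (zpowers_le.mpr hzDQ.2)
        (zpowers_le.mpr hzc) hx
  · obtain ⟨z, hz, hzR, hzK⟩ := hZ1
    obtain ⟨x, hx, hxv⟩ := hZ2 z hz hzR hzK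
    refine ⟨x, hxv, ?_⟩
    rw [show N - (k + 4) = 0 by omega, hc.zero]
    exact ⟨hX (k + 1) (by omega) hxv.1, hxv.2.1⟩

end Cfsg.Agent.H575.TThree
end
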